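import Cfsg.Agent.Lib.MacWilliams.RankTwo

/-!
Bounds in a 2-group with a normal elementary abelian subgroup `B` of order 8 whose centralizer has
order at most 16.
-/

set_option autoImplicit false
set_option linter.style.haveILetI false

namespace CfsgLib.MacWilliams

open Subgroup
open scoped commutatorElement

variable {G : Type*} [Group G]

theorem mem_zpowers_of_sq_eq_one {z a : G} (hz : z ^ 2 = 1) : a ∈ zpowers z ↔ a = 1 ∨ a = z := by
  constructor
  · rintro ⟨n, rfl⟩
    show z ^ n = 1 ∨ z ^ n = z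
    have h2 : z ^ (2 : ℤ) = 1 := by simpa using hz
    rcases Int.even_or_odd' n with ⟨k, rfl | rfl⟩
    · left; rw [zpow_mul, h2, one_zpow]
    · right; rw [zpow_add, zpow_mul, h2, one_zpow, one_mul, zpow_one]
  · rintro (rfl | rfl)
    exacts [one_mem _, mem_zpowers a]

variable [Finite G] {B : Subgroup G} [B.Normal]

/-- The action of a 2-group on a normal elementary abelian subgroup of order 8. -/
theorem conj_image_card_le (hG : IsPGroup 2 G) (hB2 : ∀ a ∈ B, a ^ 2 = 1) (hB8 : Nat.card B = 8)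
    {z : G} (hzB : z ∈ B) (hz1 : z ≠ 1) (hzc : ∀ g : G, g * z * g⁻¹ = z) (H N : Subgroup G)
    (hsq : ∀ h ∈ H, h ^ 2 ∈ N) :
    Nat.card (H.map (MulAut.conjNormal : G →* MulAut B)) ≤
      4 * Nat.card (N.map (MulAut.conjNormal : G →* MulAut B)) := by
  classical
  set φ : G →* MulAut B := MulAut.conjNormal
  have hz2 := hB2 z hzB
  haveI : (zpowers z).Normal := ⟨fun a ha g => by
    rcases (mem_zpowers_of_sq_eq_one hz2).1 ha with rfl | rfl
    · rw [mul_one, mul_inv_cancel]; exact one_mem _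
    · rw [hzc g]; exact mem_zpowers _⟩
  have hz2c : Nat.card (zpowers z) = 2 := by
    rw [Nat.card_zpowers]; exact orderOf_eq_prime hz2 hz1
  have hBz : ¬ B ≤ zpowers z := fun h => by
    have := Subgroup.card_le_of_le h
    omega
  obtain ⟨p, hpB, hpz, -, hpc⟩ := exists_central_involution_step hG B (zpowers z) hBz
  have hpimg : ∀ g : G, g * p * g⁻¹ = p ∨ g * p * g⁻¹ = p * z := by
    intro g
    have h : g * p * g⁻¹ = ⁅p, g⁆⁻¹ * p := by rw [commutatorElement_def]; group
    have hc : z * p = p * z := ((mul_inv_eq_iff_eq_mul).1 (hzc p)).symm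
    rcases (mem_zpowers_of_sq_eq_one hz2).1 (inv_mem (hpc g)) with h' | h' <;> rw [h, h']
    · exact Or.inl (one_mul p)
    · exact Or.inr hc
  -- the plane `P = ⟨z, p⟩`
  set P : Set G := {1, z, p, p * z} with hP
  have hPc : P.ncard ≤ 4 := by
    refine le_trans (Set.ncard_insert_le _ _) (Nat.succ_le_succ ?_)
    refine le_trans (Set.ncard_insert_le _ _) (Nat.succ_le_succ ?_)
    refine le_trans (Set.ncard_insert_le _ _) (Nat.succ_le_succ ?_)
    simp
  obtain ⟨q, hqB, hqP⟩ : ∃ q ∈ B, q ∉ P := by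
    by_contra! h
    have h8 := Set.ncard_le_ncard (s := (B : Set G)) h (Set.toFinite _)
    rw [← Nat.card_coe_set_eq] at h8
    change Nat.card B ≤ _ at h8
    omega
  have hcomm : ∀ a ∈ B, ∀ b ∈ B, a * b = b * a := fun a ha b hb => by
    have hi : ∀ c ∈ B, c⁻¹ = c := fun c hc => by rw [inv_eq_iff_mul_eq_one, ← pow_two, hB2 c hc]
    calc a * b = (a * b)⁻¹ := (hi _ (mul_mem ha hb)).symm
      _ = b * a := by rw [mul_inv_rev, hi a ha, hi b hb]
  -- every element of `B` lies in `P ∪ q P`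
  have hpz' : p ∉ ({1, z} : Set G) := fun h => hpz ((mem_zpowers_of_sq_eq_one hz2).2 (by simpa using h))
  have hp1 : p ≠ 1 := fun h => hpz' (Or.inl h)
  have hpne : p ≠ z := fun h => hpz' (Or.inr h)
  let S : Set G := {1, z, p, p * z, q, q * z, q * p, q * (p * z)}
  have hinv : ∀ c ∈ B, c⁻¹ = c := fun c hc => by rw [inv_eq_iff_mul_eq_one, ← pow_two, hB2 c hc]
  have hsel : ∀ a ∈ B, a ∈ P ∨ q * a ∈ P := by
    intro a ha
    by_contra! h
    obtain ⟨h1, h2⟩ := h
    -- `P`, `q P`, `a P` are disjoint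
    let f : Fin 3 × Fin 4 → G := fun i => ![1, q, a] i.1 * ![1, z, p, p * z] i.2
    have hP' : ∀ j : Fin 4, ![1, z, p, p * z] j ∈ P := fun j => by fin_cases j <;> simp [hP]
    have hPB : ∀ x ∈ P, x ∈ B := fun x hx => by
      simp only [hP, Set.mem_insert_iff, Set.mem_singleton_iff] at hx
      rcases hx with rfl | rfl | rfl | rfl
      exacts [one_mem _, hzB, hpB, mul_mem hpB hzB]
    have hPmul : ∀ x ∈ P, ∀ y ∈ P, x * y ∈ P := by
      have hzp : z * p = p * z := hcomm z hzB p hpB
      have hzz : z * z = 1 := by rw [← pow_two]; exact hz2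
      have hpp : p * p = 1 := by rw [← pow_two]; exact hB2 p hpB
      have hzpz : z * (p * z) = p := by rw [← mul_assoc, hzp, mul_assoc, hzz, mul_one]
      intro x hx y hy
      simp only [hP, Set.mem_insert_iff, Set.mem_singleton_iff] at hx hy ⊢
      rcases hx with hx | hx | hx | hx <;> rcases hy with hy | hy | hy | hy <;> rw [hx, hy] <;>
        simp [mul_assoc, hzp, hzz, hpp, hzpz, ← mul_assoc p p]
    have hinj : Function.Injective f := by
      rintro ⟨i, j⟩ ⟨i', j'⟩ he
      simp only [f] at he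
      have key : ∀ x y : G, x ∈ B → y ∈ B → x * ![1, z, p, p * z] j = y * ![1, z, p, p * z] j' → x * y ∈ P := by
        intro x y hx hy hxy
        have h3 : x = y * (![1, z, p, p * z] j' * ![1, z, p, p * z] j) := by
          rw [← mul_assoc, ← hxy, mul_assoc, ← pow_two, hB2 _ (hPB _ (hP' j)), mul_one]
        rw [h3, hcomm _ (mul_mem hy (mul_mem (hPB _ (hP' j')) (hPB _ (hP' j)))) _ hy, ← mul_assoc,
          ← pow_two, hB2 y hy, one_mul]
        exact hPmul _ (hP' j') _ (hP' j)
      have hvec : ∀ i : Fin 3, ![1, q, a] i ∈ B := fun i => by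
        fin_cases i <;> simp [hqB, ha, one_mem]
      have hii : i = i' := by
        have h4 := key _ _ (hvec i) (hvec i') he
        fin_cases i <;> fin_cases i' <;> simp_all [hcomm a ha q hqB]
      subst hii
      have hj := mul_left_cancel he
      have hzp1 : p * z ≠ 1 := fun h => hpne (by rw [mul_eq_one_iff_eq_inv, hinv z hzB] at h; exact h)
      have hzpp : p * z ≠ p := fun h => hz1 (mul_eq_left.1 h)
      have hzpz : p * z ≠ z := fun h => hp1 (mul_eq_right.1 h)
      fin_cases j <;> fin_cases j' <;>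
        simp_all [hz1, hz1.symm, hp1, hp1.symm, hpne, hpne.symm, hzp1, hzp1.symm, hzpp, hzpp.symm,
          hzpz, hzpz.symm]
    have hb : ∀ i, f i ∈ B := fun i => mul_mem (by
      rcases i with ⟨i, j⟩
      fin_cases i <;> simp [hqB, ha, one_mem]) (hPB _ (hP' _))
    have := Nat.card_le_card_of_injective (fun i => (⟨f i, hb i⟩ : B)) fun i j h =>
      hinj (congrArg Subtype.val h)
    rw [Nat.card_prod, Nat.card_fin, Nat.card_fin] at this
    omega
  -- images of `p` and `q` determine the action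
  set L := H.map φ with hL
  set M := N.map φ with hM
  have hLsq : ∀ x ∈ L, x ^ 2 ∈ M := by
    rintro _ ⟨h, hh, rfl⟩
    exact ⟨h ^ 2, hsq h hh, map_pow φ h 2⟩
  have happ : ∀ (g : G) (a : B), ((φ g a : B) : G) = g * a * g⁻¹ := fun g a => MulAut.conjNormal_apply g a
  have hrange : ∀ x : L, ∃ g : G, φ g = x := fun x => by
    obtain ⟨h, -, hx⟩ := x.2; exact ⟨h, hx⟩
  have hPstable : ∀ g : G, ∀ x ∈ P, g * x * g⁻¹ ∈ P := by
    intro g x hx
    simp only [hP, Set.mem_insert_iff, Set.mem_singleton_iff] at hx ⊢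
    rcases hx with rfl | rfl | rfl | rfl
    · left; group
    · right; left; exact hzc g
    · rcases hpimg g with h | h <;> simp [h]
    · rw [← conj_mul, hzc g]
      rcases hpimg g with h | h <;> rw [h]
      · simp
      · right; right; left; rw [mul_assoc, ← pow_two, hz2, mul_one]
  let T := {a : B // (a : G) = p ∨ (a : G) = p * z} × {a : B // (a : G) ∉ P}
  let r : L → T := fun x => (⟨(x : MulAut B) ⟨p, hpB⟩, by
      obtain ⟨g, hg⟩ := hrange x; rw [← hg, happ]; exact hpimg g⟩,
    ⟨(x : MulAut B) ⟨q, hqB⟩, by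
      obtain ⟨g, hg⟩ := hrange x
      rw [← hg, happ]
      intro h
      have := hPstable g⁻¹ _ h
      rw [inv_inv] at this
      exact hqP (by simpa [mul_assoc] using this)⟩)
  have hr : Function.Injective r := by
    intro x y h
    obtain ⟨g, hg⟩ := hrange x
    obtain ⟨g', hg'⟩ := hrange y
    have hp' : g * p * g⁻¹ = g' * p * g'⁻¹ := by
      have := congrArg (fun t : T => ((t.1 : B) : G)) h
      simp only [r, ← hg, ← hg', happ] at this
      exact this
    have hq' : g * q * g⁻¹ = g' * q * g'⁻¹ := by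
      have := congrArg (fun t : T => ((t.2 : B) : G)) h
      simp only [r, ← hg, ← hg', happ] at this
      exact this
    have hPeq : ∀ a ∈ P, g * a * g⁻¹ = g' * a * g'⁻¹ := by
      intro a ha
      simp only [hP, Set.mem_insert_iff, Set.mem_singleton_iff] at ha
      rcases ha with rfl | rfl | rfl | rfl
      · group
      · rw [hzc, hzc]
      · exact hp'
      · rw [← conj_mul, ← conj_mul, hp', hzc, hzc]
    refine Subtype.ext ?_
    rw [← hg, ← hg']
    refine MulEquiv.ext fun a => Subtype.ext ?_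
    rw [happ, happ]
    rcases hsel a a.2 with h1 | h1
    · exact hPeq _ h1
    · have : (a : G) = q * (q * a) := by rw [← mul_assoc, ← pow_two, hB2 q hqB, one_mul]
      calc g * (a : G) * g⁻¹ = g * q * g⁻¹ * (g * (q * a) * g⁻¹) := by rw [conj_mul, ← this]
        _ = g' * q * g'⁻¹ * (g' * (q * a) * g'⁻¹) := by rw [hq', hPeq _ h1]
        _ = g' * (a : G) * g'⁻¹ := by rw [conj_mul, ← this]
  have hTc : Nat.card T ≤ 8 := by
    haveI := Fintype.ofFinite B
    have h1 : Nat.card {a : B // (a : G) = p ∨ (a : G) = p * z} ≤ 2 := by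
      calc Nat.card {a : B // (a : G) = p ∨ (a : G) = p * z} ≤ Nat.card ({p, p * z} : Set G) :=
            Nat.card_le_card_of_injective (fun a => ⟨(a.1 : G), by simpa using a.2⟩) fun a b h => by
              exact Subtype.ext (Subtype.ext (Subtype.mk.inj h))
        _ ≤ 2 := by
          rw [Nat.card_coe_set_eq]
          exact le_trans (Set.ncard_insert_le _ _) (by simp)
    have h2 : Nat.card {a : B // (a : G) ∉ P} ≤ 4 := by
      have hzz : z * z = 1 := by rw [← pow_two]; exact hz2
      calc Nat.card {a : B // (a : G) ∉ P} ≤ Nat.card ({q * 1, q * z, q * p, q * (p * z)} : Set G) :=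
            Nat.card_le_card_of_injective (fun a => ⟨(a.1 : G), by
              have h := (hsel a.1 a.1.2).resolve_left a.2
              simp only [hP, Set.mem_insert_iff, Set.mem_singleton_iff] at h ⊢
              have e : (a.1 : G) = q * (q * a.1) := by rw [← mul_assoc, ← pow_two, hB2 q hqB, one_mul]
              rcases h with h | h | h | h <;> rw [h] at e <;> simp [e]⟩) fun a b h => by
              exact Subtype.ext (Subtype.ext (Subtype.mk.inj h))
        _ ≤ 4 := by
          rw [Nat.card_coe_set_eq]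
          refine le_trans (Set.ncard_insert_le _ _) (Nat.succ_le_succ ?_)
          refine le_trans (Set.ncard_insert_le _ _) (Nat.succ_le_succ ?_)
          refine le_trans (Set.ncard_insert_le _ _) (Nat.succ_le_succ ?_)
          simp
    rw [Nat.card_prod]
    exact (Nat.mul_le_mul h1 h2).trans (by norm_num)
  have hL8 : Nat.card L ≤ 8 := (Nat.card_le_card_of_injective r hr).trans hTc
  by_cases hlt : Nat.card L ≤ 4
  · exact hlt.trans (Nat.le_mul_of_pos_right 4 Nat.card_pos)
  by_cases hMb : M = ⊥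
  · exfalso
    have hb : Function.Bijective r := (Nat.bijective_iff_injective_and_card r).2 ⟨hr, by
      have h5 : Nat.card L = 8 := by
        obtain ⟨n, hn⟩ := IsPGroup.iff_card.1 ((hG.to_subgroup H).map φ)
        rw [← hL] at hn
        rw [hn] at hL8 hlt ⊢
        have h3 : n ≤ 3 := (Nat.pow_le_pow_iff_right one_lt_two).1 (show 2 ^ n ≤ 2 ^ 3 by omega)
        interval_cases n <;> omega
      exact le_antisymm (Nat.card_le_card_of_injective r hr) (hTc.trans h5.ge)⟩
    have hqp : q * p ∈ B := mul_mem hqB hpB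
    have hqpP : q * p ∉ P := by
      intro h
      simp only [hP, Set.mem_insert_iff, Set.mem_singleton_iff] at h hqP
      have hzp : z * p = p * z := hcomm z hzB p hpB
      have hpp : p * p = 1 := by rw [← pow_two]; exact hB2 p hpB
      have e : ∀ w, q * p = w → q = w * p := fun w hw => by rw [← hw, mul_assoc, hpp, mul_one]
      rcases h with h | h | h | h
      · exact hqP (Or.inr (Or.inr (Or.inl (by simpa using e _ h))))
      · exact hqP (Or.inr (Or.inr (Or.inr (by rw [← hzp]; exact e _ h))))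
      · exact hqP (Or.inl (by rw [← hpp]; exact e _ h))
      · refine hqP (Or.inr (Or.inl ?_))
        rw [e _ h, mul_assoc, hzp, ← mul_assoc, hpp, one_mul]
    obtain ⟨x₁, hx₁⟩ := hb.2 (⟨⟨p * z, mul_mem hpB hzB⟩, Or.inr rfl⟩, ⟨⟨q, hqB⟩, hqP⟩)
    obtain ⟨x₂, hx₂⟩ := hb.2 (⟨⟨p, hpB⟩, Or.inl rfl⟩, ⟨⟨q * p, hqp⟩, hqpP⟩)
    obtain ⟨g₁, hg₁⟩ := hrange x₁
    obtain ⟨g₂, hg₂⟩ := hrange x₂
    have h11 : g₁ * p * g₁⁻¹ = p * z := by
      have := congrArg (fun t : T => ((t.1 : B) : G)) hx₁
      simp only [r, ← hg₁, happ] at this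
      exact this
    have h12 : g₁ * q * g₁⁻¹ = q := by
      have := congrArg (fun t : T => ((t.2 : B) : G)) hx₁
      simp only [r, ← hg₁, happ] at this
      exact this
    have h22 : g₂ * q * g₂⁻¹ = q * p := by
      have := congrArg (fun t : T => ((t.2 : B) : G)) hx₂
      simp only [r, ← hg₂, happ] at this
      exact this
    have h1 : ∀ x ∈ L, x⁻¹ = x := fun x hx => by
      rw [inv_eq_iff_mul_eq_one, ← pow_two]; simpa [hMb] using hLsq x hx
    have hcom : φ g₁ * φ g₂ = φ g₂ * φ g₁ := by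
      have hm1 : φ g₁ ∈ L := hg₁ ▸ x₁.2
      have hm2 : φ g₂ ∈ L := hg₂ ▸ x₂.2
      have h := h1 _ (L.mul_mem hm1 hm2)
      rw [mul_inv_rev, h1 _ hm1, h1 _ hm2] at h
      exact h.symm
    rw [← map_mul, ← map_mul] at hcom
    have h := congrArg (fun x : MulAut B => ((x ⟨q, hqB⟩ : B) : G)) hcom
    simp only [happ] at h
    have e1 : g₁ * g₂ * q * (g₁ * g₂)⁻¹ = q * (p * z) := by
      calc g₁ * g₂ * q * (g₁ * g₂)⁻¹ = g₁ * (g₂ * q * g₂⁻¹) * g₁⁻¹ := by group
        _ = q * (p * z) := by rw [h22, ← conj_mul, h12, h11]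
    have e2 : g₂ * g₁ * q * (g₂ * g₁)⁻¹ = q * p := by
      calc g₂ * g₁ * q * (g₂ * g₁)⁻¹ = g₂ * (g₁ * q * g₁⁻¹) * g₂⁻¹ := by group
        _ = q * p := by rw [h12, h22]
    rw [e1, e2] at h
    exact hz1 (mul_eq_left.1 (mul_left_cancel h))
  · have hM2 : 2 ≤ Nat.card M := by
      have := (Subgroup.card_le_one_iff_eq_bot M).not.2 hMb
      omega
    omega

theorem ker_conjNormal : (MulAut.conjNormal : G →* MulAut B).ker = centralizer (B : Set G) := by
  ext g
  rw [MonoidHom.mem_ker, mem_centralizer_iff, MulEquiv.ext_iff]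
  constructor
  · intro h a ha
    have h' := congrArg Subtype.val (h ⟨a, ha⟩)
    simp at h'
    exact (mul_inv_eq_iff_eq_mul.1 h').symm
  · intro h a
    refine Subtype.ext ?_
    simp [← h a a.2]

/-- If all squares of an elementary abelian `D` lie in `M` … the trivial bound. -/
theorem card_le_mul_of_le {D M : Subgroup G} {k : ℕ} (h : Nat.card D ≤ k) :
    Nat.card D ≤ k * Nat.card M := h.trans (Nat.le_mul_of_pos_right k Nat.card_pos)

/-- The bound when `C(B)` is `B` or `B⟨u⟩` and no element moves `u` only inside `⟨z⟩`. -/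
theorem card_le_of_centralizer_sixteen (hG : IsPGroup 2 G) (hB2 : ∀ a ∈ B, a ^ 2 = 1)
    (hB8 : Nat.card B = 8) (hBc : B ≤ centralizer (B : Set G)) {z : G} (hzB : z ∈ B) (hz1 : z ≠ 1)
    (hzc : ∀ g : G, g * z * g⁻¹ = z) (hQ : Nat.card (centralizer (B : Set G)) ≤ 16)
    (hkey : ∀ u ∈ centralizer (B : Set G), u ∉ B → ∀ h : G, h ∉ centralizer (B : Set G) →
      (∀ a ∈ B, ⁅h, a⁆ ∈ zpowers z) → ⁅u, h⁆ ∉ zpowers z)
    (H N : Subgroup G) (hNH : N ≤ H) (hsq : ∀ h ∈ H, h ^ 2 ∈ N) :
    Nat.card H ≤ 16 * Nat.card N := by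
  classical
  set φ : G →* MulAut B := MulAut.conjNormal with hφ
  set Q := centralizer (B : Set G) with hQdef
  haveI : Q.Normal := inferInstanceAs (centralizer (B : Set G)).Normal
  have hz2 := hB2 z hzB
  have hX := conj_image_card_le hG hB2 hB8 hzB hz1 hzc H N hsq
  have hcomN : ∀ a ∈ H, ∀ b ∈ H, ⁅a, b⁆ ∈ N := fun a ha b hb => commutator_mem_of_sq_mem hsq ha hb
  have hH : Nat.card H = Nat.card (H.map φ) * Nat.card ↥(H ⊓ Q) := by
    rw [hQdef, ← ker_conjNormal]; exact card_eq_map_mul_inf_ker φ H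
  have hN : Nat.card N = Nat.card (N.map φ) * Nat.card ↥(N ⊓ Q) := by
    rw [hQdef, ← ker_conjNormal]; exact card_eq_map_mul_inf_ker φ N
  set D := H ⊓ B with hD
  set M := N ⊓ B with hM
  have hMQ : Nat.card M ≤ Nat.card ↥(N ⊓ Q) := Subgroup.card_le_of_le (inf_le_inf_left _ hBc)
  have hMD : M ≤ D := inf_le_inf_right _ hNH
  have hD8 : Nat.card D ≤ 8 := hB8 ▸ Subgroup.card_le_of_le inf_le_right
  by_cases hfull : 4 * Nat.card M < Nat.card D
  · -- then `H` centralizes `B`
    obtain ⟨i, hi⟩ := exists_card_eq_two_pow hG D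
    have hM1 : Nat.card M = 1 := by
      have := Nat.card_pos (α := M)
      omega
    have hD' : D = B := Subgroup.eq_of_le_of_card_ge inf_le_right (by
      rw [hB8, hi]
      rw [hi, hM1] at hfull
      rw [hi] at hD8
      have h2 : 2 < i := (Nat.pow_lt_pow_iff_right one_lt_two).1 (show 2 ^ 2 < 2 ^ i by omega)
      calc 8 = 2 ^ 3 := by norm_num
        _ ≤ 2 ^ i := Nat.pow_le_pow_right two_pos h2)
    have hHQ : H ≤ Q := fun h hh => mem_centralizer_iff.2 fun a ha => by
      have ha' : a ∈ H := ((hD' ▸ ha : a ∈ D)).1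
      have h1 : ⁅a, h⁆ ∈ M := ⟨hcomN a ha' h hh, by
        rw [commutatorElement_def, show a * h * a⁻¹ * h⁻¹ = a * (h * a⁻¹ * h⁻¹) by group]
        exact mul_mem ha (‹B.Normal›.conj_mem _ (inv_mem ha) h)⟩
      rw [Subgroup.card_eq_one.1 hM1, mem_bot] at h1
      exact commutatorElement_eq_one_iff_mul_comm.1 h1
    calc Nat.card H ≤ Nat.card Q := Subgroup.card_le_of_le hHQ
      _ ≤ 16 := hQ
      _ ≤ 16 * Nat.card N := Nat.le_mul_of_pos_right 16 Nat.card_pos
  push Not at hfull
  -- `[H ∩ Q : N ∩ Q] ≤ 4` gives the bound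
  suffices h : Nat.card ↥(H ⊓ Q) ≤ 4 * Nat.card ↥(N ⊓ Q) ∨
      (Nat.card ↥(H ⊓ Q) ≤ 8 * Nat.card ↥(N ⊓ Q) ∧ Nat.card (H.map φ) ≤ 2) by
    rw [hH, hN]
    rcases h with h | ⟨h1, h2⟩
    · calc _ ≤ (4 * Nat.card (N.map φ)) * (4 * Nat.card ↥(N ⊓ Q)) := Nat.mul_le_mul hX h
        _ = _ := by ring
    · calc _ ≤ 2 * (8 * Nat.card ↥(N ⊓ Q)) := Nat.mul_le_mul h2 h1
        _ ≤ _ := by
          have := Nat.card_pos (α := N.map φ)
          nlinarith [Nat.zero_le (Nat.card ↥(N ⊓ Q))]
  set π := QuotientGroup.mk' B with hπ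
  have hq2 : ∀ L : Subgroup G, Nat.card ↥(L ⊓ Q) = Nat.card ((L ⊓ Q).map π) * Nat.card ↥(L ⊓ B) := by
    intro L
    rw [card_eq_map_mul_inf_ker π (L ⊓ Q), hπ, QuotientGroup.ker_mk', inf_assoc,
      inf_eq_right.2 hBc]
  have hQ2 : Nat.card (Q.map π) ≤ 2 := by
    have h := card_eq_map_mul_inf_ker π Q
    rw [hπ, QuotientGroup.ker_mk', inf_eq_right.2 hBc, hB8] at h
    rw [hπ]; omega
  have hH2 : Nat.card ↥(H ⊓ Q) ≤ 2 * Nat.card D := by
    rw [hq2 H]
    exact Nat.mul_le_mul_right _ ((Subgroup.card_le_of_le (Subgroup.map_mono inf_le_right)).trans hQ2)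
  by_cases hHB : H ⊓ Q ≤ B
  · left
    have : Nat.card ↥(H ⊓ Q) ≤ Nat.card D := Subgroup.card_le_of_le (le_inf inf_le_left hHB)
    omega
  by_cases hNB : N ⊓ Q ≤ B
  swap
  · left
    have h2 : 2 * Nat.card M ≤ Nat.card ↥(N ⊓ Q) := by
      rw [hq2 N]
      refine Nat.mul_le_mul_right _ ?_
      refine Finite.one_lt_card_iff_nontrivial.2 ?_
      rw [Subgroup.nontrivial_iff_ne_bot, ne_eq, Subgroup.map_eq_bot_iff, hπ, QuotientGroup.ker_mk']
      exact hNB
    omega
  obtain ⟨u, huH, huB⟩ := SetLike.not_le_iff_exists.1 hHB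
  by_cases hD2 : Nat.card D ≤ 2 * Nat.card M
  · left; omega
  right
  refine ⟨by omega, ?_⟩
  push Not at hD2
  have hu : ∀ h ∈ H, ⁅u, h⁆ ∈ N ⊓ B := fun h hh => by
    have h1 : ⁅u, h⁆ ∈ N ⊓ Q := ⟨hcomN u huH.1 h hh, by
      rw [commutatorElement_def, show u * h * u⁻¹ * h⁻¹ = u * (h * u⁻¹ * h⁻¹) by group]
      exact Q.mul_mem huH.2 (‹Q.Normal›.conj_mem _ (Q.inv_mem huH.2) h)⟩
    exact ⟨h1.1, hNB h1⟩
  have hBD : ∀ h ∈ H, ∀ a ∈ D, ⁅h, a⁆ ∈ M := fun h hh a ha => ⟨hcomN h hh a ha.1, by
    rw [commutatorElement_def]; exact B.mul_mem (‹B.Normal›.conj_mem _ ha.2 h) (B.inv_mem ha.2)⟩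
  -- `|D : M| = 4`
  obtain ⟨i, hi⟩ := exists_card_eq_two_pow hG D
  obtain ⟨j, hj⟩ := exists_card_eq_two_pow hG M
  rw [hi] at hD8 hD2 hfull
  rw [hj] at hD2 hfull
  have hi3 : i ≤ 3 := (Nat.pow_le_pow_iff_right one_lt_two).1 (show 2 ^ i ≤ 2 ^ 3 by omega)
  have hj1 : j ≤ 1 := by
    by_contra hj'
    have h4 : 4 ≤ 2 ^ j := Nat.pow_le_pow_right two_pos (show 2 ≤ j by omega)
    omega
  have happ : ∀ (g : G) (a : B), ((φ g a : B) : G) = g * a * g⁻¹ := fun g a => MulAut.conjNormal_apply g a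
  have hnotker : 2 < Nat.card (H.map φ) → ∃ h ∈ H, h ∉ Q := fun h2 => by
    by_contra! h
    have : H.map φ = ⊥ := (Subgroup.map_eq_bot_iff H).2 (ker_conjNormal (B := B) ▸ h)
    rw [this, Subgroup.card_bot] at h2
    omega
  interval_cases j
  · -- `M = 1` and `|D| = 4`: `H` fixes `D` pointwise
    have hi2 : i = 2 := by interval_cases i <;> omega
    subst hi2
    have hM1 : M = ⊥ := Subgroup.card_eq_one.1 (by rw [hj, pow_zero])
    have hfix : ∀ h ∈ H, ∀ a ∈ D, h * a * h⁻¹ = a := fun h hh a ha => by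
      have := hBD h hh a ha
      rw [hM1, mem_bot, commutatorElement_eq_one_iff_mul_comm] at this
      rw [this, mul_inv_cancel_right]
    have hDlt : D < B := lt_of_le_of_ne inf_le_right fun h => by
      rw [h, hB8] at hi; norm_num at hi
    obtain ⟨x₀, hx₀B, hx₀D⟩ := SetLike.exists_of_lt hDlt
    have hidx : (D.subgroupOf B).index = 2 := by
      have h := (D.subgroupOf B).card_mul_index
      rw [Nat.card_congr (Subgroup.subgroupOfEquivOfLe hDlt.le).toEquiv, hi, hB8] at h
      omega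
    have hsel : ∀ a ∈ B, a ∈ D ∨ x₀⁻¹ * a ∈ D := by
      intro a ha
      by_cases had : a ∈ D
      · exact Or.inl had
      right
      have := (Subgroup.mul_mem_iff_of_index_two hidx (a := (⟨x₀, hx₀B⟩ : B)⁻¹) (b := ⟨a, ha⟩)).2
        (by rw [inv_mem_iff]; exact iff_of_false hx₀D had)
      exact this
    have hmove : ∀ h ∈ H, ⁅h, x₀⁆ ∈ D := fun h hh => by
      have hb' : h * x₀ * h⁻¹ ∈ B := ‹B.Normal›.conj_mem _ hx₀B h
      rcases hsel _ hb' with h1 | h1
      · exfalso; refine hx₀D ?_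
        have h2 := hfix h⁻¹ (inv_mem hh) _ h1
        rw [inv_inv] at h2
        have h3 : x₀ = h * x₀ * h⁻¹ := by
          conv_lhs => rw [← mul_one x₀]
          calc x₀ * 1 = h⁻¹ * (h * x₀ * h⁻¹) * h := by group
            _ = _ := h2
        rwa [h3]
      · have hcx : x₀⁻¹ * (h * x₀ * h⁻¹) = (h * x₀ * h⁻¹) * x₀⁻¹ :=
          mem_centralizer_iff.1 (hBc hb') _ (B.inv_mem hx₀B)
        rw [hcx] at h1
        exact h1
    let r : H.map φ → D := fun x => ⟨((x : MulAut B) ⟨x₀, hx₀B⟩ : B) * x₀⁻¹, by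
      obtain ⟨h, hh, hx⟩ := x.2
      rw [← hx, happ]
      exact hmove h hh⟩
    have hr : Function.Injective r := by
      intro x y hxy
      obtain ⟨g, hg, hgx⟩ := x.2
      obtain ⟨g', hg', hgy⟩ := y.2
      have h0 : g * x₀ * g⁻¹ = g' * x₀ * g'⁻¹ := by
        have := congrArg Subtype.val hxy
        simp only [r, ← hgx, ← hgy, happ] at this
        exact mul_right_cancel this
      refine Subtype.ext ?_
      rw [← hgx, ← hgy]
      refine MulEquiv.ext fun a => Subtype.ext ?_
      rw [happ, happ]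
      rcases hsel a a.2 with h1 | h1
      · rw [hfix g hg _ h1, hfix g' hg' _ h1]
      · calc g * (a : G) * g⁻¹ = g * x₀ * g⁻¹ * (g * (x₀⁻¹ * a) * g⁻¹) := by group
          _ = g' * x₀ * g'⁻¹ * (g' * (x₀⁻¹ * a) * g'⁻¹) := by rw [h0, hfix g hg _ h1, hfix g' hg' _ h1]
          _ = g' * (a : G) * g'⁻¹ := by group
    by_contra h2
    push Not at h2
    by_cases hzD : z ∈ D
    · have hb : Function.Bijective r := (Nat.bijective_iff_injective_and_card r).2 ⟨hr, by
        obtain ⟨n, hn⟩ := IsPGroup.iff_card.1 ((hG.to_subgroup H).map φ)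
        have hle := Nat.card_le_card_of_injective r hr
        rw [hi] at hle ⊢
        rw [hn] at hle h2 ⊢
        exact two_pow_eq_four h2 hle⟩
      obtain ⟨x, hx⟩ := hb.2 ⟨z, hzD⟩
      obtain ⟨h, hh, hhx⟩ := x.2
      have hxz : h * x₀ * h⁻¹ * x₀⁻¹ = z := by
        have := congrArg Subtype.val hx
        simp only [r, ← hhx, happ] at this
        exact this
      have hhQ : h ∉ Q := fun hQ' => by
        rw [← mem_centralizer_iff.1 hQ' x₀ hx₀B] at hxz
        exact hz1 (by rw [← hxz]; group)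
      have htriv : ∀ a ∈ B, ⁅h, a⁆ ∈ zpowers z := by
        intro a ha
        rcases hsel a ha with h1 | h1
        · rw [commutatorElement_def, hfix h hh a h1, mul_inv_cancel]; exact one_mem _
        · have : ⁅h, a⁆ = z := by
            rw [commutatorElement_def, show h * a * h⁻¹ = (h * x₀ * h⁻¹) * (h * (x₀⁻¹ * a) * h⁻¹) by group,
              hfix h hh _ h1, ← hxz]
            group
          rw [this]; exact mem_zpowers z
      refine hkey u huH.2 huB h hhQ htriv ?_
      have := hu h hh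
      rw [← hM, hM1, mem_bot] at this
      rw [this]; exact one_mem _
    · obtain ⟨h, hh, hhQ⟩ := hnotker h2
      refine hhQ (mem_centralizer_iff.2 fun a ha => ?_)
      rcases hsel a ha with h1 | h1
      · exact (mul_inv_eq_iff_eq_mul.1 (hfix h hh a h1)).symm
      · have hza : x₀⁻¹ * z ∈ D := by
          rcases hsel z hzB with h3 | h3
          exacts [absurd h3 hzD, h3]
        have e : a = z * ((x₀⁻¹ * z)⁻¹ * (x₀⁻¹ * a)) := by group
        rw [e]
        have h4 := hfix h hh _ (mul_mem (inv_mem hza) h1)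
        exact (mul_inv_eq_iff_eq_mul.1 (by rw [← conj_mul, hzc h, h4])).symm
  · -- `|M| = 2` and `D = B`
    have hi3' : i = 3 := by interval_cases i <;> omega
    subst hi3'
    have hD' : D = B := Subgroup.eq_of_le_of_card_ge inf_le_right (by rw [hB8, hi]; norm_num)
    by_contra h2
    push Not at h2
    by_cases hzM : z ∈ M
    · have hMz : M = zpowers z := (Subgroup.eq_of_le_of_card_ge (zpowers_le.2 hzM)
        (by rw [hj, Nat.card_zpowers, orderOf_eq_prime hz2 hz1]; norm_num)).symm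
      obtain ⟨h, hh, hhQ⟩ := hnotker h2
      refine hkey u huH.2 huB h hhQ (fun a ha => hMz ▸ hBD h hh a (hD' ▸ ha)) ?_
      rw [← hMz]; exact hu h hh
    · -- elements acting with commutators in `M ≠ ⟨z⟩`
      obtain ⟨n, hnM, hn1⟩ := M.bot_or_exists_ne_one.resolve_left fun h => by
        rw [h, Subgroup.card_bot] at hj; norm_num at hj
      have hn2 := hB2 n hnM.2
      have hMn : M = zpowers n := (Subgroup.eq_of_le_of_card_ge (zpowers_le.2 hnM)
        (by rw [hj, Nat.card_zpowers, orderOf_eq_prime hn2 hn1]; norm_num)).symm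
      have hnz : n ≠ z := fun h => hzM (h ▸ hnM)
      have hfixn : ∀ h ∈ H, h * n * h⁻¹ = n := fun h hh => by
        have := hBD h hh n (hMD hnM)
        rw [hMn, mem_zpowers_of_sq_eq_one hn2] at this
        rcases this with h' | h'
        · exact mul_inv_eq_one.1 h'
        · exfalso
          have h'' : h * n * h⁻¹ = 1 := by
            rw [commutatorElement_def, mul_inv_eq_iff_eq_mul, ← pow_two, hn2] at h'
            exact h'
          exact hn1 (conj_eq_one_iff.1 h'')
      set U : Set G := {1, n, z, n * z} with hU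
      obtain ⟨x₀, hx₀B, hx₀U⟩ : ∃ x ∈ B, x ∉ U := by
        by_contra! h
        have h8 := Set.ncard_le_ncard (s := (B : Set G)) h (Set.toFinite _)
        rw [← Nat.card_coe_set_eq] at h8
        change Nat.card B ≤ _ at h8
        have : U.ncard ≤ 4 := by
          refine le_trans (Set.ncard_insert_le _ _) (Nat.succ_le_succ ?_)
          refine le_trans (Set.ncard_insert_le _ _) (Nat.succ_le_succ ?_)
          refine le_trans (Set.ncard_insert_le _ _) (Nat.succ_le_succ ?_)
          simp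
        omega
      set K := zpowers n ⊔ zpowers z with hK
      have hKfix : ∀ h ∈ H, ∀ a ∈ K, h * a * h⁻¹ = a := by
        intro h hh a ha
        have : K ≤ centralizer ({h} : Set G) := sup_le
          (zpowers_le.2 (mem_centralizer_singleton_iff.2 (mul_inv_eq_iff_eq_mul.1 (hfixn h hh)).symm))
          (zpowers_le.2 (mem_centralizer_singleton_iff.2 (mul_inv_eq_iff_eq_mul.1 (hzc h)).symm))
        rw [← mem_centralizer_singleton_iff.1 (this ha), mul_inv_cancel_right]
      have hKU : (K : Set G) ⊆ U := by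
        have hcz : z * n = n * z := mem_centralizer_iff.1 (hBc hnM.2) z hzB
        intro a ha
        haveI : (zpowers z).Normal := ⟨fun b hb g => by
          rcases (mem_zpowers_of_sq_eq_one hz2).1 hb with rfl | rfl
          · rw [mul_one, mul_inv_cancel]; exact one_mem _
          · rw [hzc g]; exact mem_zpowers _⟩
        rw [hK, SetLike.mem_coe, Subgroup.mem_sup_of_normal_right] at ha
        obtain ⟨b, hb, c, hc, rfl⟩ := ha
        rcases (mem_zpowers_of_sq_eq_one hn2).1 hb with rfl | rfl <;>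
          rcases (mem_zpowers_of_sq_eq_one hz2).1 hc with rfl | rfl <;> simp [hU]
      have hKB : K ≤ B := sup_le (zpowers_le.2 hnM.2) (zpowers_le.2 hzB)
      have hidx : (K.subgroupOf B).index = 2 := by
        have hlt : zpowers n < K := lt_of_le_of_ne le_sup_left fun h => by
          have : z ∈ zpowers n := h.symm ▸ (mem_sup_right (mem_zpowers z) : z ∈ K)
          exact hzM (hMn ▸ this)
        have h2c : Nat.card (zpowers n) = 2 := by rw [Nat.card_zpowers, orderOf_eq_prime hn2 hn1]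
        have hl : 2 < Nat.card K := h2c ▸ lt_of_le_of_ne (Subgroup.card_le_of_le hlt.le) fun h =>
          hlt.ne (Subgroup.eq_of_le_of_card_ge hlt.le h.ge)
        have hK4 : Nat.card K ≤ 4 := by
          have h := Set.ncard_le_ncard hKU (Set.toFinite _)
          rw [← Nat.card_coe_set_eq] at h
          refine h.trans ?_
          refine le_trans (Set.ncard_insert_le _ _) (Nat.succ_le_succ ?_)
          refine le_trans (Set.ncard_insert_le _ _) (Nat.succ_le_succ ?_)
          refine le_trans (Set.ncard_insert_le _ _) (Nat.succ_le_succ ?_)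
          simp
        obtain ⟨k, hk⟩ := exists_card_eq_two_pow hG K
        rw [hk] at hl hK4
        have h4 := two_pow_eq_four hl hK4
        have h := (K.subgroupOf B).card_mul_index
        rw [Nat.card_congr (Subgroup.subgroupOfEquivOfLe hKB).toEquiv, hk, h4, hB8] at h
        omega
      let r : H.map φ → M := fun x => ⟨((x : MulAut B) ⟨x₀, hx₀B⟩ : B) * x₀⁻¹, by
        obtain ⟨h, hh, hx⟩ := x.2
        rw [← hx, happ]
        exact hBD h hh x₀ (hD' ▸ hx₀B)⟩
      have hr : Function.Injective r := by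
        intro x y hxy
        obtain ⟨g, hg, hgx⟩ := x.2
        obtain ⟨g', hg', hgy⟩ := y.2
        have h0 : g * x₀ * g⁻¹ = g' * x₀ * g'⁻¹ := by
          have := congrArg Subtype.val hxy
          simp only [r, ← hgx, ← hgy, happ] at this
          exact mul_right_cancel this
        refine Subtype.ext ?_
        rw [← hgx, ← hgy]
        refine MulEquiv.ext fun a => Subtype.ext ?_
        rw [happ, happ]
        by_cases haK : (a : G) ∈ K
        · rw [hKfix g hg _ haK, hKfix g' hg' _ haK]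
        · have h1 := (Subgroup.mul_mem_iff_of_index_two hidx (a := (⟨x₀, hx₀B⟩ : B)⁻¹) (b := a)).2
            (by rw [inv_mem_iff]; exact iff_of_false (fun h => hx₀U (hKU h)) haK)
          have h1' : x₀⁻¹ * (a : G) ∈ K := h1
          calc g * (a : G) * g⁻¹ = g * x₀ * g⁻¹ * (g * (x₀⁻¹ * a) * g⁻¹) := by group
          _ = g' * x₀ * g'⁻¹ * (g' * (x₀⁻¹ * a) * g'⁻¹) := by rw [h0, hKfix g hg _ h1', hKfix g' hg' _ h1']
          _ = g' * (a : G) * g'⁻¹ := by group
      have := Nat.card_le_card_of_injective r hr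
      rw [hj] at this
      omega

end CfsgLib.MacWilliams
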