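import Mathlib
import Cfsg.Prelude.Def_CaseTheorems

/-!
Counting lemmas for the sectional rank of 2-groups.
-/

set_option autoImplicit false
set_option linter.style.haveILetI false

namespace CfsgLib.MacWilliams

open Subgroup
open scoped commutatorElement

variable {X T : Type*} [Group X] [Group T]

/-- `|L| = |f L| * |L ∩ ker f|`. -/
theorem card_eq_map_mul_inf_ker (f : X →* T) (L : Subgroup X) :
    Nat.card L = Nat.card (L.map f) * Nat.card ↥(L ⊓ f.ker) := by
  have h1 := (f.domRestrict L).ker.card_mul_index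
  rw [Subgroup.index_ker, MonoidHom.domRestrict_range, MonoidHom.ker_domRestrict, mul_comm] at h1
  rw [← h1, ← inf_comm f.ker L]
  congr 1
  rw [← Subgroup.inf_subgroupOf_right]
  exact Nat.card_congr (Subgroup.subgroupOfEquivOfLe inf_le_right).toEquiv

/-- If all squares lie in `N ≤ H` then so do the commutators. -/
theorem commutator_mem_of_sq_mem {H N : Subgroup X} (hsq : ∀ h ∈ H, h ^ 2 ∈ N) {a b : X}
    (ha : a ∈ H) (hb : b ∈ H) : ⁅a, b⁆ ∈ N := by
  have h : ⁅a, b⁆ = a ^ 2 * (a⁻¹ * b) ^ 2 * (b ^ 2)⁻¹ := by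
    rw [commutatorElement_def, pow_two, pow_two, pow_two]; group
  rw [h]
  exact mul_mem (mul_mem (hsq a ha) (hsq _ (mul_mem (inv_mem ha) hb))) (inv_mem (hsq b hb))

variable [Finite X]

/-- Orders of subgroups of a finite 2-group are powers of 2. -/
theorem exists_card_eq_two_pow (hX : IsPGroup 2 X) (L : Subgroup X) :
    ∃ n, Nat.card L = 2 ^ n := by
  haveI : Fact (Nat.Prime 2) := ⟨Nat.prime_two⟩
  exact IsPGroup.iff_card.1 (hX.to_subgroup L)

theorem two_pow_le_mul {a b k : ℕ} (h : 2 ^ a < 2 ^ k * 2 ^ b) :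
    2 * 2 ^ a ≤ 2 ^ k * 2 ^ b := by
  rw [← pow_add] at h ⊢
  have := (Nat.pow_lt_pow_iff_right one_lt_two).1 h
  rw [← pow_succ']
  exact Nat.pow_le_pow_right two_pos this

theorem two_pow_eq_four {n : ℕ} (h1 : 2 < 2 ^ n) (h2 : 2 ^ n ≤ 4) : 2 ^ n = 4 := by
  have ha : 1 < n := (Nat.pow_lt_pow_iff_right one_lt_two).1 (show 2 ^ 1 < 2 ^ n by simpa using h1)
  have hb : n ≤ 2 := (Nat.pow_le_pow_iff_right one_lt_two).1 (show 2 ^ n ≤ 2 ^ 2 by simpa using h2)
  have : n = 2 := by omega
  subst this; norm_num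

/-- If every subgroup with all squares in a smaller subgroup has index at most `2 ^ k` over it then the
sectional 2-rank is at most `k`. -/
theorem sectionalPRankLE_two_of_sq_index (k : ℕ)
    (h : ∀ H N : Subgroup X, N ≤ H → (∀ x ∈ H, x ^ 2 ∈ N) → Nat.card H ≤ 2 ^ k * Nat.card N) :
    Cfsg.SectionalPRankLE 2 k X := by
  intro H N hN A hA hA2
  let π := QuotientGroup.mk' N
  let L : Subgroup H := A.comap π
  have hNL : N ≤ L := fun n hn => by
    show π n ∈ A
    rw [show π n = 1 from (QuotientGroup.eq_one_iff n).2 hn]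
    exact A.one_mem
  have hcard : Nat.card L = Nat.card A * Nat.card N := by
    rw [card_eq_map_mul_inf_ker π L,
      show L.map π = A from Subgroup.map_comap_eq_self_of_surjective (QuotientGroup.mk'_surjective N) A,
      show π.ker = N from QuotientGroup.ker_mk' N, inf_eq_right.2 hNL]
  have hle := h (L.map H.subtype) (N.map H.subtype) (Subgroup.map_mono hNL) (by
    rintro _ ⟨x, hx, rfl⟩
    refine ⟨x ^ 2, ?_, map_pow _ _ _⟩
    have h2 : π x ^ 2 = 1 := hA2 _ hx
    exact (QuotientGroup.eq_one_iff _).1 ((map_pow π x 2).trans h2))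
  rw [Subgroup.card_map_of_injective H.subtype_injective,
    Subgroup.card_map_of_injective H.subtype_injective, hcard] at hle
  exact Nat.le_of_mul_le_mul_right hle Nat.card_pos

end CfsgLib.MacWilliams
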