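import Cfsg.Agent.Lib.MacWilliams.MaxAbelian
import Cfsg.Agent.Lib.MacWilliams.Counting
import Cfsg.Agent.Lib.OddOrder41.NormalElementary

/-!
2-groups with an involution centralized by at most 4 elements, and other small tools.
-/

set_option autoImplicit false
set_option linter.style.haveILetI false

namespace CfsgLib.MacWilliams

open Subgroup
open scoped commutatorElement

variable {G : Type*} [Group G]

/-- Elements with the same commutator with `b` differ by an element centralizing `b`. -/
theorem card_commutator_mem_le [Finite G] (L : Subgroup G) (b : G) (V : Subgroup G) (P : Set G)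
    (hPL : P ⊆ L) (hPV : ∀ x ∈ P, ⁅x, b⁆ ∈ V) :
    Nat.card P ≤ Nat.card ↥(L ⊓ centralizer ({b} : Set G)) * Nat.card V := by
  classical
  have hex : ∀ x : P, ∃ r : P, ⁅(r : G), b⁆ = ⁅(x : G), b⁆ := fun x => ⟨x, rfl⟩
  let r : G → G := fun e => if h : ∃ r : P, ⁅(r : G), b⁆ = e then (h.choose : G) else 1
  have hr : ∀ x : P, r ⁅(x : G), b⁆ ∈ L ∧ ⁅r ⁅(x : G), b⁆, b⁆ = ⁅(x : G), b⁆ := fun x => by
    simp only [r, dif_pos (hex x)]
    exact ⟨hPL (hex x).choose.2, (hex x).choose_spec⟩
  let f : P → ↥(L ⊓ centralizer ({b} : Set G)) × V := fun x =>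
    (⟨(r ⁅(x : G), b⁆)⁻¹ * x, Subgroup.mem_inf.2 ⟨mul_mem (inv_mem (hr x).1) (hPL x.2),
      mem_centralizer_singleton_iff.2 (by
        have h := (hr x).2
        set s := r ⁅(x : G), b⁆
        simp only [commutatorElement_def] at h
        have h' : s * b * s⁻¹ = (x : G) * b * (x : G)⁻¹ := mul_right_cancel h
        calc s⁻¹ * (x : G) * b = s⁻¹ * ((x : G) * b * (x : G)⁻¹) * x := by group
          _ = b * (s⁻¹ * x) := by rw [← h']; group)⟩⟩,
     ⟨⁅(x : G), b⁆, hPV x x.2⟩)
  have hf : Function.Injective f := by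
    intro x y h
    have h1 : (r ⁅(x : G), b⁆)⁻¹ * (x : G) = (r ⁅(y : G), b⁆)⁻¹ * y := congrArg (fun t => (t.1 : G)) h
    have h2 : ⁅(x : G), b⁆ = ⁅(y : G), b⁆ := congrArg (fun t => (t.2 : G)) h
    rw [h2] at h1
    exact Subtype.ext (mul_left_cancel h1)
  calc Nat.card P ≤ Nat.card (↥(L ⊓ centralizer ({b} : Set G)) × V) := Nat.card_le_card_of_injective f hf
    _ = _ := Nat.card_prod _ _

/-- For an involution `b`, a commutator `⁅x, b⁆` of order 2 is centralized by `b`. -/
theorem commutator_fixed {b x : G} (hb : b ^ 2 = 1) (h : ⁅x, b⁆ ^ 2 = 1) :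
    b * ⁅x, b⁆ = ⁅x, b⁆ * b := by
  have hbi : b⁻¹ = b := by rw [inv_eq_iff_mul_eq_one, ← pow_two, hb]
  have h1 : b * ⁅x, b⁆ * b⁻¹ = ⁅x, b⁆⁻¹ := by
    rw [commutatorElement_def, mul_inv_rev, mul_inv_rev, mul_inv_rev, inv_inv, inv_inv, hbi]
    simp only [mul_assoc]
    rw [show b * b = 1 by rw [← pow_two, hb], mul_one]
  rw [inv_eq_of_mul_eq_one_right (show ⁅x, b⁆ * ⁅x, b⁆ = 1 by rw [← pow_two]; exact h)] at h1
  exact mul_inv_eq_iff_eq_mul.1 h1

/-- A normal subgroup has an element of order 2 modulo a smaller one that is central modulo it. -/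
theorem exists_central_involution_step [Finite G] (hG : IsPGroup 2 G) (N A : Subgroup G) [N.Normal]
    [A.Normal] (h : ¬ N ≤ A) :
    ∃ y ∈ N, y ∉ A ∧ y ^ 2 ∈ A ∧ ∀ g : G, ⁅y, g⁆ ∈ A := by
  classical
  haveI : Fact (Nat.Prime 2) := ⟨Nat.prime_two⟩
  haveI : Group.IsNilpotent G := hG.isNilpotent
  obtain ⟨y, hy, hyA, hyc⟩ := CfsgLib.OddOrder41.exists_central_step N A h
  have hex : ∃ k : ℕ, y ^ (2 ^ k) ∈ A := by
    obtain ⟨k, hk⟩ := hG y
    exact ⟨k, hk ▸ A.one_mem⟩
  obtain ⟨m, hm⟩ : ∃ m, Nat.find hex = m + 1 := by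
    refine Nat.exists_eq_succ_of_ne_zero fun h0 => hyA ?_
    have h := Nat.find_spec hex
    rw [h0, pow_zero, pow_one] at h
    exact h
  refine ⟨y ^ (2 ^ m), pow_mem hy _, Nat.find_min hex (by omega), ?_, fun g => ?_⟩
  · rw [← pow_mul, ← pow_succ, ← hm]; exact Nat.find_spec hex
  · rw [← QuotientGroup.eq_one_iff (N := A)]
    show QuotientGroup.mk' A ⁅y ^ (2 ^ m), g⁆ = 1
    rw [map_commutatorElement, map_pow, commutatorElement_eq_one_iff_mul_comm]
    refine Commute.pow_left ?_ _
    refine commutatorElement_eq_one_iff_mul_comm.1 ?_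
    rw [← map_commutatorElement]
    exact (QuotientGroup.eq_one_iff _).2 (hyc g)

/-- Composition of bounds for a normal subgroup and its quotient. -/
theorem card_le_of_quotient [Finite G] (W : Subgroup G) [W.Normal] (r s : ℕ) (H N : Subgroup G)
    (hq : Nat.card (H.map (QuotientGroup.mk' W)) ≤ r * Nat.card (N.map (QuotientGroup.mk' W)))
    (hw : Nat.card ↥(H ⊓ W) ≤ s * Nat.card ↥(N ⊓ W)) :
    Nat.card H ≤ r * s * Nat.card N := by
  rw [card_eq_map_mul_inf_ker (QuotientGroup.mk' W) H, card_eq_map_mul_inf_ker (QuotientGroup.mk' W) N,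
    QuotientGroup.ker_mk']
  refine le_trans (Nat.mul_le_mul hq hw) (le_of_eq ?_)
  ring

variable [Finite G]

/-- A 2-group without normal four-groups: all indices over subgroups containing the squares are at most 4. -/
theorem card_le_of_no_normal_four (hG : IsPGroup 2 G)
    (hno : ∀ K : Subgroup G, K.Normal → IsMulCommutative K → (∀ a ∈ K, a ^ 2 = 1) → Nat.card K ≤ 2)
    (H N : Subgroup G) (hsq : ∀ h ∈ H, h ^ 2 ∈ N) : Nat.card H ≤ 4 * Nat.card N := by
  classical
  haveI : Fact (Nat.Prime 2) := ⟨Nat.prime_two⟩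
  obtain ⟨A, hA⟩ := exists_maximal_normalAbelianFour (G := G)
  obtain ⟨hAn, hAa, hA4⟩ := hA.1
  haveI := hAn
  have hcomm : ∀ a ∈ A, ∀ b ∈ A, a * b = b * a := fun a ha b hb =>
    congrArg Subtype.val (hAa.is_comm.comm ⟨a, ha⟩ ⟨b, hb⟩)
  have homega : ∀ c ∈ centralizer (A : Set G), c ^ 4 = 1 → c ∈ A := fun c hc h4 =>
    mem_of_centralizes_of_pow_four hG hA hc h4
  let sq : A →* G := MonoidHom.mk' (fun a : A => (a : G) ^ 2) fun a b =>
    (show Commute (a : G) b from hcomm a a.2 b b.2).mul_pow 2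
  let W : Subgroup G := sq.ker.map A.subtype
  have hW : ∀ a, a ∈ W ↔ a ∈ A ∧ a ^ 2 = 1 := fun a => by
    constructor
    · rintro ⟨b, hb, rfl⟩; exact ⟨b.2, hb⟩
    · rintro ⟨ha, h2⟩; exact ⟨⟨a, ha⟩, h2, rfl⟩
  have hWA : W ≤ A := fun a h => ((hW a).1 h).1
  haveI hWn : W.Normal := ⟨fun a ha g => (hW _).2 ⟨hAn.conj_mem a (hWA ha) g, by
    rw [conj_pow, ((hW a).1 ha).2]; group⟩⟩
  have hW2 : Nat.card W ≤ 2 := hno W hWn ⟨⟨fun a b => Subtype.ext (hcomm a (hWA a.2) b (hWA b.2))⟩⟩
    fun a ha => ((hW a).1 ha).2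
  -- `A` has order at most 4 and at most two automorphisms
  let φ : G →* MulAut A := MulAut.conjNormal
  have hker : φ.ker = centralizer (A : Set G) := by
    ext g
    rw [MonoidHom.mem_ker, mem_centralizer_iff, MulEquiv.ext_iff]
    constructor
    · intro h a ha
      have h' := congrArg Subtype.val (h ⟨a, ha⟩)
      simp [φ] at h'
      exact (mul_inv_eq_iff_eq_mul.1 h').symm
    · intro h a
      refine Subtype.ext ?_
      simp [φ, ← h a a.2]
  have hA4c : Nat.card A ≤ 4 := by
    have hcard := card_eq_map_mul_inf_ker sq ⊤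
    rw [top_inf_eq, Subgroup.card_top, ← MonoidHom.range_eq_map,
      show Nat.card sq.ker = Nat.card W from
        (Subgroup.card_map_of_injective A.subtype_injective).symm] at hcard
    have hrW : sq.range ≤ W := by
      rintro _ ⟨a, rfl⟩
      refine (hW _).2 ⟨pow_mem a.2 2, ?_⟩
      show ((a : G) ^ 2) ^ 2 = 1
      rw [← pow_mul]; exact hA4 a a.2
    rw [hcard]
    exact Nat.mul_le_mul ((Subgroup.card_le_of_le hrW).trans hW2) hW2
  have hX : ∀ L : Subgroup G, Nat.card (L.map φ) ≤ 2 := by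
    intro L
    by_cases hall : ∀ a : A, (a : G) ^ 2 = 1
    · -- `A = W` has order at most 2
      have hsub : Subsingleton (MulAut A) := ⟨fun g g' => MulEquiv.ext fun a => by
        have hA2 : Nat.card A ≤ 2 := (Subgroup.card_le_of_le (show A ≤ W from
          fun a ha => (hW a).2 ⟨ha, hall ⟨a, ha⟩⟩)).trans hW2
        by_cases ha : a = 1
        · rw [ha, map_one, map_one]
        by_contra hne
        haveI := Fintype.ofFinite A
        have h3 : 2 < Fintype.card A := Fintype.two_lt_card_iff.2 ⟨1, g a, g' a,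
          fun h => ha (by simpa using congrArg g.symm h.symm),
          fun h => ha (by simpa using congrArg g'.symm h.symm), hne⟩
        rw [Nat.card_eq_fintype_card] at hA2
        omega⟩
      exact (Finite.card_le_one_iff_subsingleton.2 inferInstance).trans one_le_two
    push Not at hall
    obtain ⟨e, he⟩ := hall
    -- an automorphism is determined by the image of `e`, one of the elements outside `W`
    let r : L.map φ → {a : A // (a : G) ∉ W} := fun g => ⟨(g : MulAut A) e, fun h => by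
      have h2 : ((g : MulAut A) e) ^ 2 = 1 := Subtype.ext ((hW _).1 h).2
      rw [← map_pow, MulEquiv.map_eq_one_iff] at h2
      exact he (congrArg Subtype.val h2)⟩
    have hgen : ∀ a : A, ∃ n : ℕ, a = e ^ n := by
      have h4 : Nat.card (zpowers e) = 4 := by
        have h : orderOf e = 2 ^ 2 := orderOf_eq_prime_pow
          (fun h => he (by simpa using congrArg Subtype.val h))
          (Subtype.ext (by simpa using hA4 e e.2))
        rw [Nat.card_zpowers, h]; norm_num
      have htop : zpowers e = ⊤ := Subgroup.eq_top_of_le_card _ (by rw [h4]; exact hA4c)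
      intro a
      obtain ⟨n, hn⟩ := (isOfFinOrder_of_finite e).mem_powers_iff_mem_zpowers.2 (htop ▸ mem_top a)
      exact ⟨n, hn.symm⟩
    have hr : Function.Injective r := fun g g' h => by
      refine Subtype.ext (MulEquiv.ext fun a => ?_)
      obtain ⟨n, rfl⟩ := hgen a
      rw [map_pow, map_pow, show (g : MulAut A) e = (g' : MulAut A) e from congrArg Subtype.val h]
    refine (Nat.card_le_card_of_injective r hr).trans ?_
    have h2W : 2 ≤ Nat.card (W.subgroupOf A) := by
      have hne : e ^ 2 ≠ 1 := fun h => he (by simpa using congrArg Subtype.val h)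
      have hmem : e ^ 2 ∈ W.subgroupOf A := by
        rw [mem_subgroupOf, hW]
        refine ⟨(e ^ 2).2, ?_⟩
        rw [Subgroup.coe_pow, ← pow_mul]; exact hA4 e e.2
      exact Finite.one_lt_card_iff_nontrivial.2 ⟨⟨⟨e ^ 2, hmem⟩, 1, fun h => hne (congrArg Subtype.val h)⟩⟩
    haveI := Fintype.ofFinite A
    rw [Nat.card_eq_fintype_card, Fintype.card_subtype_compl, ← Nat.card_eq_fintype_card,
      ← Nat.card_eq_fintype_card]
    have hsame : Nat.card {a : A // (a : G) ∈ W} = Nat.card (W.subgroupOf A) :=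
      Nat.card_congr (Equiv.subtypeEquivRight fun a => Iff.rfl)
    omega
  have hcen : ∀ a ∈ centralizer (A : Set G), a ^ 4 = 1 →
      ∀ c ∈ centralizer (A : Set G), c * a = a * c :=
    fun a ha h4 c hc => (mem_centralizer_iff.1 hc a (homega a ha h4)).symm
  have hW' : ∀ a ∈ centralizer (A : Set G), a ^ 2 = 1 → a ∈ W := fun a ha h2 =>
    (hW a).2 ⟨homega a ha (by rw [show (4 : ℕ) = 2 * 2 from rfl, pow_mul, h2, one_pow]), h2⟩
  have hD := card_le_of_sq_mem hG hcen hW' (H ⊓ centralizer (A : Set G))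
    (N ⊓ centralizer (A : Set G)) inf_le_right (fun d hd => ⟨hsq d hd.1, pow_mem hd.2 2⟩)
  rw [card_eq_map_mul_inf_ker φ H, card_eq_map_mul_inf_ker φ N, hker]
  calc Nat.card (H.map φ) * Nat.card ↥(H ⊓ centralizer (A : Set G))
      ≤ 2 * (Nat.card ↥(N ⊓ centralizer (A : Set G)) * 2) :=
        Nat.mul_le_mul (hX H) (hD.trans (Nat.mul_le_mul_left _ hW2))
    _ = 4 * (1 * Nat.card ↥(N ⊓ centralizer (A : Set G))) := by ring
    _ ≤ _ := Nat.mul_le_mul_left _ (Nat.mul_le_mul_right _ Nat.card_pos)

omit [Finite G] in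
/-- A group of exponent 2 is commutative. -/
theorem commute_of_sq_eq_one (h : ∀ g : G, g ^ 2 = 1) (a b : G) : a * b = b * a := by
  have hi : ∀ g : G, g⁻¹ = g := fun g => by rw [inv_eq_iff_mul_eq_one, ← pow_two, h g]
  calc a * b = (a * b)⁻¹ := (hi _).symm
    _ = b * a := by rw [mul_inv_rev, hi, hi]

/-- A 2-group with an involution whose centralizer has order at most 4. -/
theorem card_le_of_small_centralizer (hG : IsPGroup 2 G) {x : G} (hx : x ^ 2 = 1)
    (hC : Nat.card (centralizer ({x} : Set G)) ≤ 4) (H N : Subgroup G)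
    (hsq : ∀ h ∈ H, h ^ 2 ∈ N) : Nat.card H ≤ 4 * Nat.card N := by
  classical
  haveI : Fact (Nat.Prime 2) := ⟨Nat.prime_two⟩
  obtain ⟨n, hn⟩ := IsPGroup.iff_card.1 hG
  by_cases hsmall : Nat.card G ≤ 8
  · by_cases hN : N = ⊥
    · -- `H` is elementary abelian
      subst hN
      rw [Subgroup.card_bot, mul_one]
      by_contra hH
      obtain ⟨i, hi⟩ := exists_card_eq_two_pow hG H
      have hle := Subgroup.card_le_card_group H
      have h3 : i ≤ 3 := (Nat.pow_le_pow_iff_right one_lt_two).1 (show 2 ^ i ≤ 2 ^ 3 by omega)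
      have h8 : Nat.card H = 8 := by interval_cases i <;> omega
      have htop : H = ⊤ := Subgroup.eq_top_of_le_card _ (by omega)
      have hall : ∀ g : G, g ^ 2 = 1 := fun g => mem_bot.1 (hsq g (htop ▸ mem_top g))
      have hCtop : centralizer ({x} : Set G) = ⊤ := by
        refine eq_top_iff.2 fun g _ => mem_centralizer_singleton_iff.2 ?_
        exact commute_of_sq_eq_one hall g x
      rw [hCtop, Subgroup.card_top] at hC
      omega
    · have h2 : 2 ≤ Nat.card N := by
        have := (Subgroup.card_le_one_iff_eq_bot N).not.2 hN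
        omega
      have := Subgroup.card_le_card_group H
      omega
  refine card_le_of_no_normal_four hG ?_ H N hsq
  intro K hKn hKc hK2
  by_contra hK
  haveI := hKn
  have hcK : ∀ a ∈ K, ∀ b ∈ K, a * b = b * a := fun a ha b hb =>
    congrArg Subtype.val (hKc.is_comm.comm ⟨a, ha⟩ ⟨b, hb⟩)
  have hK4 : 4 ≤ Nat.card K := by
    obtain ⟨i, hi⟩ := exists_card_eq_two_pow hG K
    rw [hi] at hK ⊢
    have : 1 < i := (Nat.pow_lt_pow_iff_right one_lt_two).1 (show 2 ^ 1 < 2 ^ i by omega)
    exact Nat.pow_le_pow_right two_pos (show 2 ≤ i by omega)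
  by_cases hxK : ∀ k ∈ K, k * x = x * k
  · have hle : K ⊔ zpowers x ≤ centralizer ({x} : Set G) := sup_le
      (fun k hk => mem_centralizer_singleton_iff.2 (hxK k hk))
      ((zpowers_le).2 (mem_centralizer_singleton_iff.2 rfl))
    have hKeq : K = centralizer ({x} : Set G) :=
      Subgroup.eq_of_le_of_card_ge (le_sup_left.trans hle) (by omega)
    have hxmem : x ∈ K := hKeq ▸ mem_centralizer_singleton_iff.2 rfl
    have hall : Nat.card G ≤ 4 * Nat.card K := by
      have h := card_commutator_mem_le ⊤ x K Set.univ (Set.subset_univ _) fun g _ => by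
        rw [commutatorElement_def]
        exact mul_mem (hKn.conj_mem x hxmem g) (inv_mem hxmem)
      rw [Nat.card_univ, top_inf_eq] at h
      exact h.trans (Nat.mul_le_mul_right _ hC)
    have h16 : Nat.card G ≤ 16 := hall.trans (by
      have : Nat.card K ≤ 4 := hKeq ▸ hC
      omega)
    have hn4 : n = 4 := by
      have h5 : n ≤ 4 := (Nat.pow_le_pow_iff_right one_lt_two).1 (show 2 ^ n ≤ 2 ^ 4 by omega)
      interval_cases n <;> omega
    -- the class of `x` would have four elements among the three nontrivial ones of `K`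
    have hcl : ∀ g : G, g * x * g⁻¹ ∈ K ∧ g * x * g⁻¹ ≠ 1 := fun g =>
      ⟨hKn.conj_mem x hxmem g, fun h => by
        rw [conj_eq_one_iff] at h
        subst h
        have : centralizer ({1} : Set G) = ⊤ := eq_top_iff.2 fun g _ =>
          mem_centralizer_singleton_iff.2 (by rw [mul_one, one_mul])
        rw [this, Subgroup.card_top] at hC
        omega⟩
    have hKc4 : Nat.card K = 4 := le_antisymm (hKeq ▸ hC) hK4
    let T := {k : K // k ≠ 1}
    have hT : Nat.card T = 3 := by
      haveI := Fintype.ofFinite K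
      rw [Nat.card_eq_fintype_card, Fintype.card_subtype_compl, Fintype.card_subtype_eq,
        ← Nat.card_eq_fintype_card, hKc4]
    let rt : T → G := fun t => if h : ∃ g : G, g * x * g⁻¹ = ((t : K) : G) then h.choose else 1
    let f : G → T × centralizer ({x} : Set G) := fun g =>
      let t : T := ⟨⟨g * x * g⁻¹, (hcl g).1⟩, fun h => (hcl g).2 (congrArg Subtype.val h)⟩
      (t, ⟨(rt t)⁻¹ * g, mem_centralizer_singleton_iff.2 (by
        have hex : ∃ g' : G, g' * x * g'⁻¹ = g * x * g⁻¹ := ⟨g, rfl⟩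
        have hrt : rt t * x * (rt t)⁻¹ = g * x * g⁻¹ := by
          simp only [rt, t, dif_pos hex]; exact hex.choose_spec
        calc (rt t)⁻¹ * g * x = (rt t)⁻¹ * (g * x * g⁻¹) * g := by group
          _ = x * ((rt t)⁻¹ * g) := by rw [← hrt]; group)⟩)
    have hf : Function.Injective f := by
      intro g g' h
      have h1 := congrArg (fun t => t.1) h
      have h2 : (rt (f g).1)⁻¹ * g = (rt (f g').1)⁻¹ * g' := congrArg (fun t => (t.2 : G)) h
      rw [show (f g).1 = (f g').1 from h1] at h2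
      exact mul_left_cancel h2
    have := Nat.card_le_card_of_injective f hf
    rw [Nat.card_prod, hT] at this
    rw [hn, hn4] at hsmall this
    omega
  · push Not at hxK
    obtain ⟨k₀, hk₀, hk₀x⟩ := hxK
    set V := K ⊓ centralizer ({x} : Set G) with hV
    set P : Subgroup G := (centralizer ({QuotientGroup.mk' K x} : Set (G ⧸ K))).comap
      (QuotientGroup.mk' K) with hP
    have hPmem : ∀ g, g ∈ P ↔ ⁅g, x⁆ ∈ K := fun g => by
      rw [hP, mem_comap, mem_centralizer_singleton_iff, ← commutatorElement_eq_one_iff_mul_comm,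
        ← map_commutatorElement]
      exact QuotientGroup.eq_one_iff _
    have hPV : ∀ g ∈ (P : Set G), ⁅g, x⁆ ∈ V := fun g hg => by
      have hgK := (hPmem g).1 hg
      refine ⟨hgK, mem_centralizer_singleton_iff.2 ?_⟩
      exact (commutator_fixed hx (hK2 _ hgK)).symm
    have hcard : Nat.card P ≤ Nat.card (centralizer ({x} : Set G)) * Nat.card V := by
      have h := card_commutator_mem_le ⊤ x V (P : Set G) (Set.subset_univ _) hPV
      rwa [top_inf_eq] at h
    have hVlt : V < centralizer ({x} : Set G) := by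
      refine lt_of_le_of_ne inf_le_right fun h => ?_
      have hxK : x ∈ K := (show x ∈ V from h ▸ mem_centralizer_singleton_iff.2 rfl).1
      exact hk₀x (hcK k₀ hk₀ x hxK)
    have hV2 : Nat.card V ≤ 2 := by
      obtain ⟨i, hi⟩ := exists_card_eq_two_pow hG V
      obtain ⟨j, hj⟩ := exists_card_eq_two_pow hG (centralizer ({x} : Set G))
      have hlt : Nat.card V < Nat.card (centralizer ({x} : Set G)) := by
        refine lt_of_le_of_ne (Subgroup.card_le_of_le hVlt.le) fun h => hVlt.ne ?_
        exact Subgroup.eq_of_le_of_card_ge hVlt.le h.ge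
      rw [hi, hj] at hlt
      rw [hj] at hC
      rw [hi]
      have h1 : i < j := (Nat.pow_lt_pow_iff_right one_lt_two).1 hlt
      have h2 : j ≤ 2 := (Nat.pow_le_pow_iff_right one_lt_two).1 (show 2 ^ j ≤ 2 ^ 2 by omega)
      calc 2 ^ i ≤ 2 ^ 1 := Nat.pow_le_pow_right two_pos (by omega)
        _ = 2 := by norm_num
    have hP8 : Nat.card P ≤ 8 := hcard.trans (Nat.mul_le_mul hC hV2)
    have hKP : K ≤ P := fun k hk => (hPmem k).2 (by
      rw [commutatorElement_def, mul_assoc, mul_assoc]
      exact mul_mem hk (by simpa [mul_assoc] using hKn.conj_mem _ (inv_mem hk) x))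
    have hKlt : K < P := lt_of_le_of_ne hKP fun h => by
      have hxP : x ∈ P := (hPmem x).2 (by rw [commutatorElement_self]; exact K.one_mem)
      rw [← h] at hxP
      exact hk₀x (hcK k₀ hk₀ x hxP)
    have hK4' : Nat.card P = 2 * Nat.card K := by
      obtain ⟨i, hi⟩ := exists_card_eq_two_pow hG P
      obtain ⟨j, hj⟩ := exists_card_eq_two_pow hG K
      have hlt : Nat.card K < Nat.card P := by
        refine lt_of_le_of_ne (Subgroup.card_le_of_le hKP) fun h => hKlt.ne ?_
        exact Subgroup.eq_of_le_of_card_ge hKP h.ge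
      rw [hi, hj] at hlt ⊢
      rw [hi] at hP8
      rw [hj] at hK4
      have h1 : j < i := (Nat.pow_lt_pow_iff_right one_lt_two).1 hlt
      have h2 : i ≤ 3 := (Nat.pow_le_pow_iff_right one_lt_two).1 (show 2 ^ i ≤ 2 ^ 3 by omega)
      interval_cases i <;> interval_cases j <;> omega
    -- so `P / K = ⟨x⟩` is central
    obtain ⟨y, -, hyK, -, hyc⟩ := exists_central_involution_step hG ⊤ K (fun h => by
      have := Subgroup.card_le_of_le h
      rw [Subgroup.card_top] at this
      obtain ⟨j, hj⟩ := exists_card_eq_two_pow hG K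
      have hKC : Nat.card K ≤ 4 := by omega
      omega)
    have hyP : y ∈ P := (hPmem y).2 (hyc x)
    have hidx : (K.subgroupOf P).index = 2 := by
      have h := (K.subgroupOf P).card_mul_index
      rw [Nat.card_congr (Subgroup.subgroupOfEquivOfLe hKP).toEquiv, hK4', mul_comm 2] at h
      exact Nat.eq_of_mul_eq_mul_left Nat.card_pos h
    have hxP : x ∈ P := (hPmem x).2 (by rw [commutatorElement_self]; exact K.one_mem)
    have hxnK : x ∉ K := fun h => hk₀x (hcK k₀ hk₀ x h)
    have hxy : y⁻¹ * x ∈ K := by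
      have := (Subgroup.mul_mem_iff_of_index_two hidx (a := (⟨y, hyP⟩ : P)⁻¹) (b := ⟨x, hxP⟩)).2
        (by rw [inv_mem_iff]; exact iff_of_false hyK hxnK)
      exact this
    have hxc : ∀ g : G, ⁅x, g⁆ ∈ K := fun g => by
      rw [← QuotientGroup.eq_one_iff (N := K)]
      show QuotientGroup.mk' K ⁅x, g⁆ = 1
      have he : QuotientGroup.mk' K x = QuotientGroup.mk' K y := by
        rw [QuotientGroup.mk'_apply, QuotientGroup.mk'_apply, eq_comm, QuotientGroup.eq]
        exact hxy
      rw [map_commutatorElement, he, ← map_commutatorElement]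
      exact (QuotientGroup.eq_one_iff _).2 (hyc g)
    have htop : P = ⊤ := eq_top_iff.2 fun g _ => (hPmem g).2 (by
      rw [← commutatorElement_inv]; exact inv_mem (hxc g))
    rw [htop, Subgroup.card_top] at hP8
    omega

end CfsgLib.MacWilliams
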