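import Cfsg.Agent.Lib.MacWilliams.MaxAbelian
import Cfsg.Agent.Lib.MacWilliams.Counting

/-!
A 2-group with a maximal normal abelian subgroup `Z₄ × Z₄` of exponent 4: the action on it.
-/

set_option autoImplicit false
set_option linter.style.haveILetI false

namespace CfsgLib.MacWilliams

open Subgroup
open scoped commutatorElement

variable {G : Type*} [Group G]

/-- `A` is normal abelian, containing the elements of order dividing 4 of its centralizer `C`;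
`e, f ∈ A` have squares `z, w` with `A² = A[2] = {1, z, w, zw}` of order 4, and the coset `e A[2]`
is fixed by `G`. -/
structure Frame (G : Type*) [Group G] where
  A : Subgroup G
  W : Subgroup G
  e : G
  f : G
  normal : A.Normal
  comm : ∀ a ∈ A, ∀ b ∈ A, a * b = b * a
  pow_four : ∀ a ∈ A, a ^ 4 = 1
  omega : ∀ c ∈ centralizer (A : Set G), c ^ 4 = 1 → c ∈ A
  mem_W : ∀ a, a ∈ W ↔ a ∈ A ∧ a ^ 2 = 1
  e_mem : e ∈ A
  f_mem : f ∈ A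
  e_ne : e ^ 2 ≠ 1
  f_ne : f ^ 2 ≠ 1
  ef_ne : e ^ 2 ≠ f ^ 2
  W_cases : ∀ a ∈ W, a = 1 ∨ a = e ^ 2 ∨ a = f ^ 2 ∨ a = e ^ 2 * f ^ 2
  e_fixed : ∀ g : G, ⁅g, e⁆ ∈ W

namespace Frame

variable (F : Frame G)

/-- the centralizer of `A` -/
def C : Subgroup G := centralizer (F.A : Set G)

/-- the elements centralizing `A[2]` -/
def P0 : Subgroup G := centralizer ({F.f ^ 2} : Set G)

theorem W_le : F.W ≤ F.A := fun _ h => ((F.mem_W _).1 h).1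
theorem W_sq {a : G} (h : a ∈ F.W) : a ^ 2 = 1 := ((F.mem_W _).1 h).2
theorem sq_mem {a : G} (h : a ∈ F.A) : a ^ 2 ∈ F.W :=
  (F.mem_W _).2 ⟨pow_mem h 2, by rw [← pow_mul]; exact F.pow_four a h⟩
theorem z_mem : F.e ^ 2 ∈ F.W := F.sq_mem F.e_mem
theorem w_mem : F.f ^ 2 ∈ F.W := F.sq_mem F.f_mem
theorem inv_W {a : G} (h : a ∈ F.W) : a⁻¹ = a := by
  rw [inv_eq_iff_mul_eq_one, ← pow_two]; exact F.W_sq h
theorem mem_C {c : G} : c ∈ F.C ↔ ∀ a ∈ F.A, a * c = c * a := mem_centralizer_iff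
theorem A_le_C : F.A ≤ F.C := fun a ha => F.mem_C.2 fun b hb => F.comm b hb a ha
theorem C_normal : F.C.Normal := by
  haveI := F.normal
  exact inferInstanceAs (centralizer (F.A : Set G)).Normal
theorem conj_A (g : G) {a : G} (h : a ∈ F.A) : g * a * g⁻¹ ∈ F.A := F.normal.conj_mem a h g
theorem conj_W (g : G) {a : G} (h : a ∈ F.W) : g * a * g⁻¹ ∈ F.W :=
  (F.mem_W _).2 ⟨F.conj_A g (F.W_le h), by rw [conj_pow, F.W_sq h]; group⟩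
theorem mul_sq {a b : G} (ha : a ∈ F.A) (hb : b ∈ F.A) : (a * b) ^ 2 = a ^ 2 * b ^ 2 :=
  (show Commute a b from F.comm a ha b hb).mul_pow 2
theorem div_mem_W {a b : G} (ha : a ∈ F.A) (hb : b ∈ F.A) (h : a ^ 2 = b ^ 2) : a⁻¹ * b ∈ F.W :=
  (F.mem_W _).2 ⟨mul_mem (inv_mem ha) hb, by
    rw [F.mul_sq (inv_mem ha) hb, inv_pow, h, inv_mul_cancel]⟩

theorem C_cen : ∀ a ∈ F.C, a ^ 4 = 1 → ∀ c ∈ F.C, c * a = a * c := fun a ha h4 c hc =>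
  (F.mem_C.1 hc a (F.omega a ha h4)).symm

theorem C_W : ∀ a ∈ F.C, a ^ 2 = 1 → a ∈ F.W := fun a ha h2 =>
  (F.mem_W _).2 ⟨F.omega a ha (by rw [show (4 : ℕ) = 2 * 2 from rfl, pow_mul, h2, one_pow]), h2⟩

theorem card_W_le : Nat.card F.W ≤ 4 := by
  classical
  have hsub : (F.W : Set G) ⊆ {1, F.e ^ 2, F.f ^ 2, F.e ^ 2 * F.f ^ 2} := fun a ha => by
    simpa using F.W_cases a ha
  have h1 := Set.ncard_le_ncard hsub (Set.toFinite _)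
  rw [← Nat.card_coe_set_eq] at h1
  refine h1.trans ?_
  refine le_trans (Set.ncard_insert_le _ _) (Nat.succ_le_succ ?_)
  refine le_trans (Set.ncard_insert_le _ _) (Nat.succ_le_succ ?_)
  refine le_trans (Set.ncard_insert_le _ _) (Nat.succ_le_succ ?_)
  simp

theorem z_central (g : G) : g * F.e ^ 2 * g⁻¹ = F.e ^ 2 := by
  have h := F.e_fixed g
  have h1 : g * F.e * g⁻¹ = ⁅g, F.e⁆ * F.e := by rw [commutatorElement_def]; group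
  rw [← conj_pow, h1, F.mul_sq (F.W_le h) F.e_mem, F.W_sq h, one_mul]

theorem mem_P0 {x : G} : x ∈ F.P0 ↔ x * F.f ^ 2 = F.f ^ 2 * x := mem_centralizer_singleton_iff

theorem C_le_P0 : F.C ≤ F.P0 := fun _ hc =>
  F.mem_P0.2 (F.mem_C.1 hc _ (F.W_le F.w_mem)).symm

theorem fix_W {x : G} (hx : x ∈ F.P0) {a : G} (ha : a ∈ F.W) : x * a * x⁻¹ = a := by
  have hw : x * F.f ^ 2 * x⁻¹ = F.f ^ 2 := by rw [F.mem_P0.1 hx, mul_inv_cancel_right]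
  rcases F.W_cases a ha with rfl | rfl | rfl | rfl
  · group
  · exact F.z_central x
  · exact hw
  · rw [← conj_mul, F.z_central x, hw]

theorem w_conj (g : G) : g * F.f ^ 2 * g⁻¹ = F.f ^ 2 ∨ g * F.f ^ 2 * g⁻¹ = F.e ^ 2 * F.f ^ 2 := by
  rcases F.W_cases _ (F.conj_W g F.w_mem) with h | h | h | h
  · exact absurd (conj_eq_one_iff.1 h) F.f_ne
  · rw [← F.z_central g] at h
    exact absurd (mul_left_cancel (mul_right_cancel h)).symm F.ef_ne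
  · exact Or.inl h
  · exact Or.inr h

theorem w_conj_of_not_mem {p : G} (hp : p ∉ F.P0) : p * F.f ^ 2 * p⁻¹ = F.e ^ 2 * F.f ^ 2 :=
  (F.w_conj p).resolve_left fun h => hp (F.mem_P0.2 (mul_inv_eq_iff_eq_mul.1 h))

theorem inv_w_conj_of_not_mem {p : G} (hp : p ∉ F.P0) : p⁻¹ * F.f ^ 2 * p = F.e ^ 2 * F.f ^ 2 := by
  have := F.w_conj_of_not_mem (p := p⁻¹) (fun h => hp (inv_mem_iff.1 h))
  simpa using this

theorem inv_mul_mem_P0 {p q : G} (hp : p ∉ F.P0) (hq : q ∉ F.P0) : p⁻¹ * q ∈ F.P0 := by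
  rw [F.mem_P0, ← mul_inv_eq_iff_eq_mul]
  have h : q * F.f ^ 2 * q⁻¹ = p * F.f ^ 2 * p⁻¹ := by
    rw [F.w_conj_of_not_mem hp, F.w_conj_of_not_mem hq]
  calc p⁻¹ * q * F.f ^ 2 * (p⁻¹ * q)⁻¹ = p⁻¹ * (q * F.f ^ 2 * q⁻¹) * p := by group
    _ = F.f ^ 2 := by rw [h]; group

theorem sq_mem_P0 (p : G) : p ^ 2 ∈ F.P0 := by
  by_cases h : p ∈ F.P0
  · exact pow_mem h 2
  · have := F.inv_mul_mem_P0 (p := p⁻¹) (q := p) (fun h' => h (inv_mem_iff.1 h')) h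
    rw [pow_two]
    rwa [inv_inv] at this

theorem P0_normal : F.P0.Normal := by
  refine ⟨fun x hx g => F.mem_P0.2 ?_⟩
  have h : g⁻¹ * F.f ^ 2 * g ∈ F.W := by simpa using F.conj_W g⁻¹ F.w_mem
  have := F.fix_W hx h
  rw [← mul_inv_eq_iff_eq_mul]
  calc g * x * g⁻¹ * F.f ^ 2 * (g * x * g⁻¹)⁻¹
      = g * (x * (g⁻¹ * F.f ^ 2 * g) * x⁻¹) * g⁻¹ := by group
    _ = F.f ^ 2 := by rw [this]; group

/-! ### the commutator maps `δ x : a ↦ ⁅x, a⁆` for `x ∈ P0` -/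

theorem d_mem {x : G} (hx : x ∈ F.P0) {a : G} (ha : a ∈ F.A) : ⁅x, a⁆ ∈ F.W := by
  have h1 : x * a * x⁻¹ ∈ F.A := F.conj_A x ha
  have h2 : (x * a * x⁻¹) ^ 2 = a ^ 2 := by rw [conj_pow, F.fix_W hx (F.sq_mem ha)]
  have h3 := F.div_mem_W ha h1 h2.symm
  have h4 : ⁅x, a⁆ = a⁻¹ * (x * a * x⁻¹) := by
    rw [F.comm _ (inv_mem ha) _ h1, commutatorElement_def]
  rwa [h4]

theorem conj_eq {x : G} (hx : x ∈ F.P0) {a : G} (ha : a ∈ F.A) : x * a * x⁻¹ = a * ⁅x, a⁆ := by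
  rw [F.comm _ ha _ (F.W_le (F.d_mem hx ha)), commutatorElement_def]; group

theorem d_mul_right {x : G} (hx : x ∈ F.P0) {a b : G} (ha : a ∈ F.A) (hb : b ∈ F.A) :
    ⁅x, a * b⁆ = ⁅x, a⁆ * ⁅x, b⁆ := by
  have h : x * (a * b) * x⁻¹ = a * b * ⁅x, a * b⁆ := F.conj_eq hx (mul_mem ha hb)
  rw [← conj_mul, F.conj_eq hx ha, F.conj_eq hx hb] at h
  have hc := F.comm _ (F.W_le (F.d_mem hx ha)) _ hb
  rw [← mul_left_cancel_iff (a := a * b), ← h]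
  simp only [mul_assoc]
  rw [← mul_assoc b ⁅x, a⁆, ← hc, mul_assoc]

theorem d_W {x : G} (hx : x ∈ F.P0) {a : G} (ha : a ∈ F.W) : ⁅x, a⁆ = 1 := by
  rw [commutatorElement_def, F.fix_W hx ha, mul_inv_cancel]

/-- `⁅x, a⁆` depends only on the square of `a`. -/
theorem d_congr {x : G} (hx : x ∈ F.P0) {a b : G} (ha : a ∈ F.A) (hb : b ∈ F.A)
    (h : a ^ 2 = b ^ 2) : ⁅x, a⁆ = ⁅x, b⁆ := by
  have h1 := F.div_mem_W ha hb h
  have h2 : b = a * (a⁻¹ * b) := by group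
  rw [h2, F.d_mul_right hx ha (F.W_le h1), F.d_W hx h1, mul_one]

theorem d_cases {x : G} (hx : x ∈ F.P0) {a : G} (ha : a ∈ F.A) :
    (a ^ 2 = 1 ∧ ⁅x, a⁆ = 1) ∨ (a ^ 2 = F.e ^ 2 ∧ ⁅x, a⁆ = ⁅x, F.e⁆) ∨
      (a ^ 2 = F.f ^ 2 ∧ ⁅x, a⁆ = ⁅x, F.f⁆) ∨
      (a ^ 2 = F.e ^ 2 * F.f ^ 2 ∧ ⁅x, a⁆ = ⁅x, F.e⁆ * ⁅x, F.f⁆) := by
  rcases F.W_cases _ (F.sq_mem ha) with h | h | h | h
  · exact Or.inl ⟨h, F.d_W hx ((F.mem_W a).2 ⟨ha, h⟩)⟩
  · exact Or.inr (Or.inl ⟨h, F.d_congr hx ha F.e_mem h⟩)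
  · exact Or.inr (Or.inr (Or.inl ⟨h, F.d_congr hx ha F.f_mem h⟩))
  · refine Or.inr (Or.inr (Or.inr ⟨h, ?_⟩))
    rw [← F.d_mul_right hx F.e_mem F.f_mem]
    exact F.d_congr hx ha (mul_mem F.e_mem F.f_mem) (by rw [h, F.mul_sq F.e_mem F.f_mem])

theorem d_mul_left {x y : G} (hx : x ∈ F.P0) (hy : y ∈ F.P0) {a : G} (ha : a ∈ F.A) :
    ⁅x * y, a⁆ = ⁅x, a⁆ * ⁅y, a⁆ := by
  have h1 : ⁅x * y, a⁆ = x * ⁅y, a⁆ * x⁻¹ * ⁅x, a⁆ := by
    simp only [commutatorElement_def]; group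
  rw [h1, F.fix_W hx (F.d_mem hy ha)]
  exact F.comm _ (F.W_le (F.d_mem hy ha)) _ (F.W_le (F.d_mem hx ha))

/-- `x ↦ (⁅x, e⁆, ⁅x, f⁆)`, the action of `P0` on `A`. -/
def psi : F.P0 →* F.A × F.A where
  toFun x := (⟨⁅(x : G), F.e⁆, F.W_le (F.d_mem x.2 F.e_mem)⟩,
    ⟨⁅(x : G), F.f⁆, F.W_le (F.d_mem x.2 F.f_mem)⟩)
  map_one' := by
    refine Prod.ext (Subtype.ext ?_) (Subtype.ext ?_) <;> simp [commutatorElement_def]
  map_mul' x y := by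
    refine Prod.ext (Subtype.ext ?_) (Subtype.ext ?_)
    · exact F.d_mul_left x.2 y.2 F.e_mem
    · exact F.d_mul_left x.2 y.2 F.f_mem

theorem psi_fst (x : F.P0) : ((F.psi x).1 : G) = ⁅(x : G), F.e⁆ := rfl
theorem psi_snd (x : F.P0) : ((F.psi x).2 : G) = ⁅(x : G), F.f⁆ := rfl

theorem mem_C_iff {x : G} (hx : x ∈ F.P0) : x ∈ F.C ↔ ⁅x, F.e⁆ = 1 ∧ ⁅x, F.f⁆ = 1 := by
  constructor
  · intro h
    exact ⟨commutatorElement_eq_one_iff_mul_comm.2 (F.mem_C.1 h _ F.e_mem).symm,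
      commutatorElement_eq_one_iff_mul_comm.2 (F.mem_C.1 h _ F.f_mem).symm⟩
  · rintro ⟨h1, h2⟩
    refine F.mem_C.2 fun a ha => (commutatorElement_eq_one_iff_mul_comm.1 ?_).symm
    rcases F.d_cases hx ha with h | h | h | h <;> simp [h.2, h1, h2]

theorem ker_psi : F.psi.ker = F.C.subgroupOf F.P0 := by
  ext x
  rw [MonoidHom.mem_ker, mem_subgroupOf, F.mem_C_iff x.2, Prod.ext_iff, Subtype.ext_iff,
    Subtype.ext_iff]
  rfl

/-- the image of a subgroup in the action on `A` -/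
noncomputable def img (L : Subgroup G) : Subgroup (F.A × F.A) := (L.subgroupOf F.P0).map F.psi

theorem card_eq_img {L : Subgroup G} (hL : L ≤ F.P0) :
    Nat.card L = Nat.card (F.img L) * Nat.card ↥(L ⊓ F.C) := by
  rw [← Nat.card_congr (Subgroup.subgroupOfEquivOfLe hL).toEquiv,
    card_eq_map_mul_inf_ker F.psi (L.subgroupOf F.P0), F.ker_psi]
  congr 1
  rw [show L.subgroupOf F.P0 ⊓ F.C.subgroupOf F.P0 = (L ⊓ F.C).subgroupOf F.P0 from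
    (Subgroup.comap_inf L F.C F.P0.subtype).symm]
  exact Nat.card_congr (Subgroup.subgroupOfEquivOfLe (inf_le_left.trans hL)).toEquiv

theorem img_le (L : Subgroup G) :
    F.img L ≤ (F.W.subgroupOf F.A).prod (F.W.subgroupOf F.A) := by
  rintro _ ⟨x, -, rfl⟩
  exact ⟨F.d_mem x.2 F.e_mem, F.d_mem x.2 F.f_mem⟩

end Frame

end CfsgLib.MacWilliams
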