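import Cfsg.Agent.Lib.MacWilliams.Counting

/-!
The 2-groups of automorphisms of the abelian groups of exponent 4, rank at most 2 and order at most 8.
-/

set_option autoImplicit false
set_option linter.style.haveILetI false

namespace CfsgLib.MacWilliams

open Subgroup

variable {A : Type*} [Group A] [Finite A]

/-- `|L| ≤ 4 * |M|` when `M` contains the squares of a 2-group `L` of automorphisms of `A`. -/
theorem aut_card_le (hcomm : ∀ a b : A, a * b = b * a) (h4 : ∀ a : A, a ^ 4 = 1)
    (hA : IsPGroup 2 A) (hA8 : Nat.card A ≤ 8) (W : Subgroup A) (hW : ∀ a, a ∈ W ↔ a ^ 2 = 1)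
    (hW4 : Nat.card W ≤ 4) (L M : Subgroup (MulAut A)) (hL : IsPGroup 2 L)
    (hsq : ∀ x ∈ L, x ^ 2 ∈ M) : Nat.card L ≤ 4 * Nat.card M := by
  classical
  haveI : Fact (Nat.Prime 2) := ⟨Nat.prime_two⟩
  haveI := Fintype.ofFinite A
  haveI : Finite (MulAut A) := Finite.of_injective (fun f : MulAut A => (f : A → A)) DFunLike.coe_injective
  obtain ⟨n, hn⟩ := IsPGroup.iff_card.1 hA
  obtain ⟨l, hl⟩ := IsPGroup.iff_card.1 hL
  have hM : 1 ≤ Nat.card M := Nat.card_pos
  by_cases hsmall : Nat.card A ≤ 4
  · -- the automorphisms permute the at most three nontrivial elements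
    let S := {a : A // a ≠ 1}
    let r : MulAut A → Equiv.Perm S := fun g => g.toEquiv.subtypeEquiv fun a => by simp
    have hr : Function.Injective r := by
      intro g g' h
      ext a
      by_cases ha : a = 1
      · rw [ha, map_one, map_one]
      · exact congrArg (fun s : Equiv.Perm S => ((s ⟨a, ha⟩ : S) : A)) h
    have h1 : Nat.card (MulAut A) ≤ Nat.card (Equiv.Perm S) := Nat.card_le_card_of_injective r hr
    have hS : Nat.card S ≤ 3 := by
      have : Nat.card S = Fintype.card A - 1 := by
        rw [Nat.card_eq_fintype_card, Fintype.card_subtype_compl, Fintype.card_subtype_eq]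
      rw [Nat.card_eq_fintype_card] at hsmall
      omega
    rw [Nat.card_perm] at h1
    have h2 : Nat.card L ≤ 6 :=
      (Subgroup.card_le_card_group L).trans (h1.trans (Nat.factorial_le hS))
    have hl' : l < 3 := (Nat.pow_lt_pow_iff_right one_lt_two).1 (show 2 ^ l < 2 ^ 3 by omega)
    calc Nat.card L = 2 ^ l := hl
      _ ≤ 4 * 1 := Nat.pow_le_pow_right two_pos (show l ≤ 2 by omega)
      _ ≤ 4 * Nat.card M := Nat.mul_le_mul_left _ hM
  · have hA8' : Nat.card A = 8 := by
      have h3 : n ≤ 3 := (Nat.pow_le_pow_iff_right one_lt_two).1 (show 2 ^ n ≤ 2 ^ 3 by omega)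
      interval_cases n <;> omega
    let sq : A →* A := MonoidHom.mk' (fun a => a ^ 2) fun a b => (show Commute a b from hcomm a b).mul_pow 2
    have hker : sq.ker = W := by ext a; rw [MonoidHom.mem_ker, hW]; rfl
    have hcard := card_eq_map_mul_inf_ker sq ⊤
    rw [top_inf_eq, hker, Subgroup.card_top, ← MonoidHom.range_eq_map, hA8'] at hcard
    have hrW : sq.range ≤ W := by
      rintro _ ⟨a, rfl⟩
      rw [hW]; show (a ^ 2) ^ 2 = 1
      rw [← pow_mul]; exact h4 a
    have hrle : Nat.card sq.range ≤ Nat.card W := Subgroup.card_le_of_le hrW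
    have hW8 : Nat.card W = 4 ∧ Nat.card sq.range = 2 := by
      obtain ⟨i, hi⟩ := exists_card_eq_two_pow hA W
      obtain ⟨j, hj⟩ := exists_card_eq_two_pow hA sq.range
      rw [hi, hj] at hcard hrle ⊢
      rw [hi] at hW4
      have h5 : i ≤ 2 := (Nat.pow_le_pow_iff_right one_lt_two).1 (show 2 ^ i ≤ 2 ^ 2 by omega)
      have h6 : j ≤ i := (Nat.pow_le_pow_iff_right one_lt_two).1 hrle
      interval_cases i <;> interval_cases j <;> omega
    obtain ⟨e, he⟩ : ∃ e : A, e ^ 2 ≠ 1 := by
      by_contra! h
      have : sq.range = ⊥ := by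
        rw [eq_bot_iff]; rintro _ ⟨a, rfl⟩; exact mem_bot.2 (h a)
      rw [this, Subgroup.card_bot] at hW8
      omega
    set z := e ^ 2 with hz
    have hsqz : ∀ a : A, a ^ 2 = 1 ∨ a ^ 2 = z := by
      intro a
      haveI := Fintype.ofFinite sq.range
      by_contra! h
      have h3 : Nat.card ({1, a ^ 2, z} : Set A) ≤ Nat.card sq.range := by
        refine Nat.card_mono (Set.toFinite _) ?_
        intro b hb
        simp only [Set.mem_insert_iff, Set.mem_singleton_iff] at hb
        rcases hb with rfl | rfl | rfl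
        · exact one_mem _
        · exact ⟨a, rfl⟩
        · exact ⟨e, rfl⟩
      rw [Nat.card_coe_set_eq, Set.ncard_insert_of_notMem (by simp [h.1.symm, Ne.symm he]),
        Set.ncard_pair h.2, hW8.2] at h3
      omega
    obtain ⟨w, hwW, hw1, hwz⟩ : ∃ w ∈ W, w ≠ 1 ∧ w ≠ z := by
      by_contra! h
      have h3 : Nat.card W ≤ Nat.card ({1, z} : Set A) := Nat.card_mono (Set.toFinite _) fun a ha => by
        by_cases ha1 : a = 1
        · exact Or.inl ha1
        · exact Or.inr (h a ha ha1)
      rw [Nat.card_coe_set_eq ({1, z} : Set A), Set.ncard_pair (Ne.symm he), hW8.1] at h3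
      omega
    have hzW : z ∈ W := by rw [hW, hz, ← pow_mul]; exact h4 e
    have hfixz : ∀ g : MulAut A, g z = z := by
      intro g
      rcases hsqz (g e) with h | h
      · exact absurd (by rwa [← map_pow, MulEquiv.map_eq_one_iff] at h) he
      · rwa [← map_pow] at h
    have hfour : ∀ a ∈ W, a = 1 ∨ a = z ∨ a = w ∨ a = z * w := by
      have hsub : ({1, z, w, z * w} : Set A) ⊆ W := by
        intro a ha
        simp only [Set.mem_insert_iff, Set.mem_singleton_iff] at ha
        rcases ha with rfl | rfl | rfl | rfl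
        exacts [W.one_mem, hzW, hwW, W.mul_mem hzW hwW]
      have hzw1 : z * w ≠ 1 := by
        intro h
        rw [mul_eq_one_iff_eq_inv] at h
        refine hwz ?_
        rw [h, eq_inv_iff_mul_eq_one, ← pow_two]
        exact (hW w).1 hwW
      have h4' : ({1, z, w, z * w} : Set A).ncard = 4 := by
        rw [Set.ncard_insert_of_notMem, Set.ncard_insert_of_notMem, Set.ncard_pair]
        · intro h; exact he (by simpa using h)
        · simp only [Set.mem_insert_iff, Set.mem_singleton_iff, not_or]
          exact ⟨Ne.symm hwz, fun h => hw1 (mul_eq_left.1 h.symm)⟩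
        · simp only [Set.mem_insert_iff, Set.mem_singleton_iff, not_or]
          exact ⟨Ne.symm he, Ne.symm hw1, Ne.symm hzw1⟩
      have heq := Set.eq_of_subset_of_ncard_le hsub (by
        rw [h4', ← Nat.card_coe_set_eq]; exact hW8.1.le) (Set.toFinite _)
      intro a ha
      have ha' : a ∈ ({1, z, w, z * w} : Set A) := heq.symm ▸ ha
      simpa using ha'
    -- an automorphism is determined by the images of `e` and `w`
    let T := {a : A // a ∉ W} × {a : A // a ∈ W ∧ a ≠ 1 ∧ a ≠ z}
    let r : L → T := fun g => (⟨(g : MulAut A) e, fun h => he (by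
        rw [hW, ← map_pow, MulEquiv.map_eq_one_iff] at h; exact h)⟩,
      ⟨(g : MulAut A) w, by rw [hW, ← map_pow, (hW w).1 hwW, map_one],
        fun h => hw1 (by rwa [MulEquiv.map_eq_one_iff] at h),
        fun h => hwz ((g : MulAut A).injective (h.trans (hfixz g.1).symm))⟩)
    have hr : Function.Injective r := by
      intro g g' h
      have he' : (g : MulAut A) e = (g' : MulAut A) e := congrArg (fun t : T => (t.1 : A)) h
      have hw' : (g : MulAut A) w = (g' : MulAut A) w := congrArg (fun t : T => (t.2 : A)) h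
      have hWfix : ∀ a ∈ W, (g : MulAut A) a = (g' : MulAut A) a := by
        intro a ha
        rcases hfour a ha with ha' | ha' | ha' | ha' <;> rw [ha']
        · rw [map_one, map_one]
        · rw [hfixz, hfixz]
        · exact hw'
        · rw [map_mul, map_mul, hfixz, hfixz, hw']
      refine Subtype.ext (MulEquiv.ext fun a => ?_)
      rcases hsqz a with ha | ha
      · exact hWfix a ((hW a).2 ha)
      · have hd : e⁻¹ * a ∈ W := by
          rw [hW, (show Commute e⁻¹ a from hcomm _ _).mul_pow, inv_pow, ha, ← hz, inv_mul_cancel]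
        calc (g : MulAut A) a = (g : MulAut A) e * (g : MulAut A) (e⁻¹ * a) := by
              rw [← map_mul, mul_inv_cancel_left]
          _ = (g' : MulAut A) e * (g' : MulAut A) (e⁻¹ * a) := by rw [he', hWfix _ hd]
          _ = (g' : MulAut A) a := by rw [← map_mul, mul_inv_cancel_left]
    have hTc : Nat.card T ≤ 8 := by
      have h1 : Nat.card {a : A // a ∉ W} = 4 := by
        have h := Nat.card_eq_fintype_card (α := {a : A // a ∉ W})
        rw [Fintype.card_subtype_compl, ← Nat.card_eq_fintype_card, ← Nat.card_eq_fintype_card, hA8'] at h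
        rw [h, show Nat.card {x // x ∈ W} = 4 from hW8.1]
      have h2 : Nat.card {a : A // a ∈ W ∧ a ≠ 1 ∧ a ≠ z} ≤ 2 := by
        calc Nat.card {a : A // a ∈ W ∧ a ≠ 1 ∧ a ≠ z} ≤ Nat.card ({w, z * w} : Set A) :=
              Nat.card_mono (s := {a : A | a ∈ W ∧ a ≠ 1 ∧ a ≠ z}) (Set.toFinite _) fun a ha => by
                rcases hfour a ha.1 with h | h | h | h
                · exact absurd h ha.2.1
                · exact absurd h ha.2.2
                · exact Or.inl h
                · exact Or.inr h
          _ ≤ 2 := by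
            rw [Nat.card_coe_set_eq]
            exact le_trans (Set.ncard_insert_le _ _) (by simp)
      rw [Nat.card_prod, h1]
      omega
    have hL8 : Nat.card L ≤ 8 := (Nat.card_le_card_of_injective r hr).trans hTc
    by_cases hlt : Nat.card L ≤ 4
    · exact hlt.trans (by omega)
    by_cases hMb : M = ⊥
    · exfalso
      have h2 : ∀ x ∈ L, x ^ 2 = 1 := fun x hx => by simpa [hMb] using hsq x hx
      have hl3 : l = 3 := by
        have h5 : l ≤ 3 := (Nat.pow_le_pow_iff_right one_lt_two).1 (show 2 ^ l ≤ 2 ^ 3 by omega)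
        interval_cases l <;> omega
      have hb : Function.Bijective r := (Nat.bijective_iff_injective_and_card r).2 ⟨hr,
        le_antisymm (Nat.card_le_card_of_injective r hr) (hTc.trans (le_of_eq (by rw [hl, hl3]; rfl)))⟩
      have hew : e * w ∉ W := fun h => he ((hW e).1 (by
        have h' := W.mul_mem h (W.inv_mem hwW)
        rwa [mul_inv_cancel_right] at h'))
      have heW : e ∉ W := fun h => he ((hW e).1 h)
      obtain ⟨g₁, hg₁⟩ := hb.2 (⟨e * w, hew⟩, ⟨w, hwW, hw1, hwz⟩)
      obtain ⟨g₂, hg₂⟩ := hb.2 (⟨e, heW⟩, ⟨z * w, W.mul_mem hzW hwW,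
        fun h => hwz (by
          rw [mul_eq_one_iff_eq_inv] at h
          rw [h, eq_inv_iff_mul_eq_one, ← pow_two]; exact (hW w).1 hwW),
        fun h => hw1 (mul_eq_left.1 h)⟩)
      have h11 : (g₁ : MulAut A) e = e * w := congrArg (fun t => (t.1 : A)) hg₁
      have h21 : (g₂ : MulAut A) e = e := congrArg (fun t => (t.1 : A)) hg₂
      have h22 : (g₂ : MulAut A) w = z * w := congrArg (fun t => (t.2 : A)) hg₂
      have hinv : ∀ x ∈ L, x⁻¹ = x := fun x hx => by
        rw [inv_eq_iff_mul_eq_one, ← pow_two]; exact h2 x hx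
      have hc : (g₁ : MulAut A) * g₂ = g₂ * g₁ := by
        have h := hinv _ (L.mul_mem g₁.2 g₂.2)
        rw [mul_inv_rev, hinv _ g₁.2, hinv _ g₂.2] at h
        exact h.symm
      have h := congrArg (fun g : MulAut A => g e) hc
      simp only [MulAut.mul_apply] at h
      rw [h21, h11, map_mul, h21, h22] at h
      exact he (mul_eq_right.1 (mul_left_cancel h).symm)
    · have hM2 : 2 ≤ Nat.card M := by
        have := (Subgroup.card_le_one_iff_eq_bot M).not.2 hMb
        omega
      omega

end CfsgLib.MacWilliams
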