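import Cfsg.Agent.Lib.MacWilliams.NotFull
import Cfsg.Agent.Lib.MacWilliams.Small
import Cfsg.Agent.Lib.OddOrder41.NormalElementary

/-!
MacWilliams: a 2-group without normal elementary abelian subgroups of order 8 has sectional rank
at most 4.
-/

set_option autoImplicit false
set_option linter.style.haveILetI false

namespace CfsgLib.MacWilliams

open Subgroup
open scoped commutatorElement

variable {G : Type*} [Group G]

namespace Frame

variable (F : Frame G)

theorem card_W_eq [Finite G] : Nat.card F.W = 4 := le_antisymm F.card_W_le F.four_le_card_W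

/-- the target of the action -/
def box : Subgroup (F.A × F.A) := (F.W.subgroupOf F.A).prod (F.W.subgroupOf F.A)

theorem card_box [Finite G] : Nat.card F.box = 16 := by
  rw [box, Nat.card_congr (Subgroup.prodEquiv _ _).toEquiv, Nat.card_prod,
    Nat.card_congr (Subgroup.subgroupOfEquivOfLe F.W_le).toEquiv, F.card_W_eq]

theorem pair_comm (s t : F.A × F.A) : s * t = t * s :=
  Prod.ext (Subtype.ext (F.comm _ s.1.2 _ t.1.2)) (Subtype.ext (F.comm _ s.2.2 _ t.2.2))

theorem psi_sq (x : F.P0) : F.psi x * F.psi x = 1 := by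
  refine Prod.ext (Subtype.ext ?_) (Subtype.ext ?_)
  · show ⁅(x : G), F.e⁆ * ⁅(x : G), F.e⁆ = 1
    rw [← pow_two, F.W_sq (F.d_mem x.2 F.e_mem)]
  · show ⁅(x : G), F.f⁆ * ⁅(x : G), F.f⁆ = 1
    rw [← pow_two, F.W_sq (F.d_mem x.2 F.f_mem)]

theorem sq_mem_C {x : G} (hx : x ∈ F.P0) : x ^ 2 ∈ F.C := by
  rw [F.mem_C_iff (pow_mem hx 2), pow_two, F.d_mul_left hx hx F.e_mem, F.d_mul_left hx hx F.f_mem,
    ← pow_two, ← pow_two, F.W_sq (F.d_mem hx F.e_mem), F.W_sq (F.d_mem hx F.f_mem)]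
  exact ⟨rfl, rfl⟩

theorem central_N {y : G} (hy : y ∈ F.P0) (h1 : ⁅y, F.e⁆ = 1) (h2 : ⁅y, F.f⁆ = F.e ^ 2) (g : G) :
    ⁅g, y⁆ ∈ F.C := by
  have hgy : g * y * g⁻¹ ∈ F.P0 := F.P0_normal.conj_mem y hy g
  have hconj : ∀ a ∈ F.A, ⁅g * y * g⁻¹, a⁆ = g * ⁅y, g⁻¹ * a * g⁆ * g⁻¹ := fun a _ => by
    simp only [commutatorElement_def]; group
  have hA : ∀ a ∈ F.A, g⁻¹ * a * g ∈ F.A := fun a ha => by simpa using F.conj_A g⁻¹ ha
  have hsqc : ∀ a : G, (g⁻¹ * a * g) ^ 2 = g⁻¹ * a ^ 2 * g := fun a => by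
    rw [pow_two, pow_two]; group
  have he' : ⁅g * y * g⁻¹, F.e⁆ = 1 := by
    have h := F.z_central g⁻¹
    rw [inv_inv] at h
    rw [hconj _ F.e_mem, F.d_congr hy (hA _ F.e_mem) F.e_mem (by rw [hsqc, h]), h1]
    group
  have hf' : ⁅g * y * g⁻¹, F.f⁆ = F.e ^ 2 := by
    rw [hconj _ F.f_mem]
    have hw := F.w_conj g⁻¹
    rw [inv_inv] at hw
    have : ⁅y, g⁻¹ * F.f * g⁆ = F.e ^ 2 := by
      rcases hw with h | h
      · rw [F.d_congr hy (hA _ F.f_mem) F.f_mem (by rw [hsqc, h]), h2]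
      · rw [F.d_congr hy (hA _ F.f_mem) (mul_mem F.e_mem F.f_mem)
          (by rw [hsqc, h, F.mul_sq F.e_mem F.f_mem]), F.d_mul_right hy F.e_mem F.f_mem, h1, h2, one_mul]
    rw [this, F.z_central]
  have hgc : ⁅g, y⁆ ∈ F.P0 := by
    rw [commutatorElement_def]; exact mul_mem hgy (inv_mem hy)
  have key : ∀ a ∈ F.A, ⁅g * y * g⁻¹, a⁆ = ⁅y, a⁆ → ⁅⁅g, y⁆, a⁆ = 1 := fun a ha h => by
    have h' := F.d_mul_left hgc hy ha
    rw [show ⁅g, y⁆ * y = g * y * g⁻¹ by rw [commutatorElement_def]; group, h] at h'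
    exact mul_eq_right.1 h'.symm
  exact (F.mem_C_iff hgc).2 ⟨key _ F.e_mem (by rw [he', h1]), key _ F.f_mem (by rw [hf', h2])⟩

/-- conjugation by `g` on `P0` -/
def conjP0 (g : G) : F.P0 →* F.P0 where
  toFun x := ⟨g * x * g⁻¹, F.P0_normal.conj_mem _ x.2 g⟩
  map_one' := Subtype.ext (by simp)
  map_mul' x y := Subtype.ext (conj_mul).symm

/-- the commutator with `g` followed by the action on `A` -/
def kappa (g : G) : F.P0 →* F.A × F.A where
  toFun x := F.psi (F.conjP0 g x) * (F.psi x)⁻¹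
  map_one' := by simp
  map_mul' x y := by
    rw [map_mul, map_mul, map_mul, mul_inv_rev, F.pair_comm (F.psi y)⁻¹ (F.psi x)⁻¹, mul_assoc,
      ← mul_assoc (F.psi (F.conjP0 g y)), F.pair_comm (F.psi (F.conjP0 g y)) (F.psi x)⁻¹]
    simp only [mul_assoc]

theorem ker_psi_le (g : G) : F.psi.ker ≤ (F.kappa g).ker := by
  intro x hx
  have hx' := hx
  rw [F.ker_psi, mem_subgroupOf] at hx'
  have h : F.psi (F.conjP0 g x) = 1 := by
    rw [← MonoidHom.mem_ker, F.ker_psi, mem_subgroupOf]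
    exact F.C_normal.conj_mem _ hx' g
  show F.psi (F.conjP0 g x) * (F.psi x)⁻¹ = 1
  rw [h, MonoidHom.mem_ker.1 hx, inv_one, mul_one]

/-- the image of the fixed part of `L` -/
def fixImg (g : G) (L : Subgroup F.P0) : Subgroup (F.A × F.A) := (L ⊓ (F.kappa g).ker).map F.psi

theorem card_map_psi [Finite G] (g : G) (L : Subgroup F.P0) :
    Nat.card (L.map F.psi) = Nat.card (L.map (F.kappa g)) * Nat.card (F.fixImg g L) := by
  have h1 := card_eq_map_mul_inf_ker F.psi L
  have h2 := card_eq_map_mul_inf_ker (F.kappa g) L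
  have h3 := card_eq_map_mul_inf_ker F.psi (L ⊓ (F.kappa g).ker)
  rw [inf_assoc, inf_eq_right.2 (F.ker_psi_le g)] at h3
  rw [h3, h1, ← mul_assoc] at h2
  exact Nat.eq_of_mul_eq_mul_right Nat.card_pos h2

theorem fst_eq_of_fixed {g : G} (hg : g ∉ F.P0) {x : F.P0} (hx : x ∈ (F.kappa g).ker) :
    ⁅(x : G), F.e⁆ = g⁻¹ * ⁅(x : G), F.f⁆ * g * ⁅(x : G), F.f⁆⁻¹ := by
  have h : F.psi (F.conjP0 g x) = F.psi x := mul_inv_eq_one.1 hx
  have h' : ⁅g * (x : G) * g⁻¹, F.f⁆ = ⁅(x : G), F.f⁆ := congrArg (fun t => (t.2 : G)) h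
  have hmem : g⁻¹ * F.f * g ∈ F.A := by simpa using F.conj_A g⁻¹ F.f_mem
  have hsq : (g⁻¹ * F.f * g) ^ 2 = (F.e * F.f) ^ 2 := by
    rw [F.mul_sq F.e_mem F.f_mem, ← F.inv_w_conj_of_not_mem hg, pow_two, pow_two]; group
  have h2 : ⁅g * (x : G) * g⁻¹, F.f⁆ = g * (⁅(x : G), F.e⁆ * ⁅(x : G), F.f⁆) * g⁻¹ := by
    rw [← F.d_mul_right x.2 F.e_mem F.f_mem, ← F.d_congr x.2 hmem (mul_mem F.e_mem F.f_mem) hsq]
    simp only [commutatorElement_def]; group
  rw [h'] at h2
  calc ⁅(x : G), F.e⁆ = g⁻¹ * (g * (⁅(x : G), F.e⁆ * ⁅(x : G), F.f⁆) * g⁻¹) * g *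
        ⁅(x : G), F.f⁆⁻¹ := by group
    _ = _ := by rw [← h2]

theorem fixImg_card [Finite G] {g : G} (hg : g ∉ F.P0) (L : Subgroup F.P0) :
    Nat.card (F.fixImg g L) ≤ 4 ∧
      (Nat.card (F.fixImg g L) = 4 → ∃ x ∈ L, ⁅(x : G), F.e⁆ = 1 ∧ ⁅(x : G), F.f⁆ = F.e ^ 2) := by
  classical
  let r : F.fixImg g L → F.W := fun t => ⟨(t.1.2 : G), by
    obtain ⟨x, -, hx⟩ := t.2
    rw [← hx]; exact F.d_mem x.2 F.f_mem⟩
  have hr : Function.Injective r := by
    rintro ⟨_, x, hx, rfl⟩ ⟨_, y, hy, rfl⟩ h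
    have h2 : ⁅(x : G), F.f⁆ = ⁅(y : G), F.f⁆ := congrArg Subtype.val h
    refine Subtype.ext (Prod.ext (Subtype.ext ?_) (Subtype.ext h2))
    show ⁅(x : G), F.e⁆ = ⁅(y : G), F.e⁆
    rw [F.fst_eq_of_fixed hg hx.2, F.fst_eq_of_fixed hg hy.2, h2]
  refine ⟨(Nat.card_le_card_of_injective r hr).trans F.card_W_le, fun h4 => ?_⟩
  have hb : Function.Bijective r :=
    (Nat.bijective_iff_injective_and_card r).2 ⟨hr, h4.trans F.card_W_eq.symm⟩
  obtain ⟨⟨_, x, hx, rfl⟩, ht⟩ := hb.2 ⟨F.e ^ 2, F.z_mem⟩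
  have h2 : ⁅(x : G), F.f⁆ = F.e ^ 2 := congrArg Subtype.val ht
  refine ⟨x, hx.1, ?_, h2⟩
  have hz := F.z_central g⁻¹
  rw [inv_inv] at hz
  rw [F.fst_eq_of_fixed hg hx.2, h2, hz, mul_inv_cancel]

theorem card_img_P0_le [Finite G] (hG : IsPGroup 2 G)
    (hno : ∀ K : Subgroup G, K.Normal → IsMulCommutative K → (∀ a ∈ K, a ^ 2 = 1) → Nat.card K ≤ 4) :
    Nat.card (F.img F.P0) ≤ 8 := by
  have hle : F.img F.P0 ≤ F.box := F.img_le _
  have hne : F.img F.P0 ≠ F.box := by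
    intro h
    refine F.not_full hG hno (fun y hy h1 h2 g => F.central_N hy h1 h2 g) fun s hs t ht => ?_
    have hmem : ((⟨s, F.W_le hs⟩, ⟨t, F.W_le ht⟩) : F.A × F.A) ∈ F.img F.P0 := by
      rw [h]; exact ⟨hs, ht⟩
    obtain ⟨x, -, hx⟩ := hmem
    exact ⟨x, x.2, congrArg (fun p => (p.1 : G)) hx, congrArg (fun p => (p.2 : G)) hx⟩
  have hdvd := Subgroup.card_dvd_of_le hle
  rw [F.card_box] at hdvd
  have hlt : Nat.card (F.img F.P0) ≠ 16 := fun h16 =>
    hne (Subgroup.eq_of_le_of_card_ge hle (by rw [F.card_box, h16]))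
  have h := Nat.le_of_dvd (by norm_num) hdvd
  interval_cases hc : Nat.card (F.img F.P0) <;> omega

theorem img_mono {L M : Subgroup G} (h : L ≤ M) : F.img L ≤ F.img M :=
  Subgroup.map_mono (Subgroup.comap_mono h)

/-- The bound in the presence of a frame. -/
theorem card_le [Finite G] (F : Frame G) (hG : IsPGroup 2 G)
    (hno : ∀ K : Subgroup G, K.Normal → IsMulCommutative K → (∀ a ∈ K, a ^ 2 = 1) → Nat.card K ≤ 4)
    (H N : Subgroup G) (hNH : N ≤ H) (hsq : ∀ h ∈ H, h ^ 2 ∈ N) :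
    Nat.card H ≤ 16 * Nat.card N := by
  classical
  set D := H ⊓ F.C with hD
  set M := N ⊓ F.C with hM
  have hDM : ∀ d ∈ D, d ^ 2 ∈ M := fun d hd => ⟨hsq d hd.1, pow_mem hd.2 2⟩
  have hD4 : Nat.card D ≤ Nat.card M * 4 := by
    rw [← F.card_W_eq]; exact card_le_of_sq_mem hG F.C_cen F.C_W D M inf_le_right hDM
  have hMD : Nat.card M ∣ Nat.card D := Subgroup.card_dvd_of_le (inf_le_inf_right _ hNH)
  -- a good element of `H` forces `|D| ≤ 2 |M|`
  have hstop : ∀ y ∈ H, y ∈ F.P0 → y ∉ F.C → (∀ g : G, ⁅g, y⁆ ∈ F.C) →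
      (∀ a ∈ F.A, ⁅y, a⁆ = a ^ 2 → a ^ 2 = 1) → Nat.card D ≤ 2 * Nat.card M := by
    intro y hyH hy hyC hcen hgood
    obtain ⟨k, hk⟩ := hMD
    by_contra hgt
    have hk4 : k ≤ 4 := Nat.le_of_mul_le_mul_left (by rw [← hk]; exact hD4) Nat.card_pos
    have hk2 : 2 < k := by
      by_contra h
      exact hgt (by rw [hk, mul_comm 2]; exact Nat.mul_le_mul_left _ (not_lt.1 h))
    have hk' : k = 4 := by
      obtain ⟨i, hi⟩ := exists_card_eq_two_pow hG D
      have hdvd : k ∣ 2 ^ i := by rw [← hi, hk]; exact dvd_mul_left _ _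
      obtain ⟨j, -, hj⟩ := (Nat.dvd_prime_pow Nat.prime_two).1 hdvd
      rw [hj] at hk2 hk4 ⊢
      exact two_pow_eq_four hk2 hk4
    obtain ⟨d, hd, hdy⟩ := exists_sq_eq_of_card_eq hG F.C_cen F.C_W D M inf_le_right hDM
      (by rw [F.card_W_eq, hk, hk']) (m := y ^ 2) ⟨hsq y hyH, F.sq_mem_C hy⟩
    exact F.sq_ne_sq hG hno hy hyC hcen hgood hd.2 hdy.symm
  have hstopN : ∀ y ∈ H, y ∈ F.P0 → ⁅y, F.e⁆ = 1 → ⁅y, F.f⁆ = F.e ^ 2 →
      Nat.card D ≤ 2 * Nat.card M := fun y hyH hy h1 h2 =>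
    hstop y hyH hy (fun h => F.e_ne (by rw [← h2]; exact ((F.mem_C_iff hy).1 h).2))
      (F.central_N hy h1 h2) fun a ha => F.sq_eq_one_of_good hy (by rw [h1]; exact F.e_ne.symm)
        (by rw [h2]; exact F.ef_ne) (by rw [h1, h2, one_mul]; intro h; exact F.f_ne (mul_eq_left.1 h.symm)) ha
  have hN0C : (N ⊓ F.P0) ⊓ F.C = M := by rw [inf_assoc, inf_eq_right.2 F.C_le_P0]
  have hNcard : Nat.card (F.img (N ⊓ F.P0)) * Nat.card M ≤ Nat.card N := by
    have h := F.card_eq_img (L := N ⊓ F.P0) inf_le_right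
    rw [hN0C] at h
    rw [← h]; exact Subgroup.card_le_of_le inf_le_left
  have hH0C : (H ⊓ F.P0) ⊓ F.C = D := by rw [inf_assoc, inf_eq_right.2 F.C_le_P0]
  have hH0card : Nat.card ↥(H ⊓ F.P0) = Nat.card (F.img (H ⊓ F.P0)) * Nat.card D := by
    rw [F.card_eq_img (L := H ⊓ F.P0) inf_le_right, hH0C]
  have hNpos : 1 ≤ Nat.card (F.img (N ⊓ F.P0)) := Nat.card_pos
  have hMN : Nat.card M ≤ Nat.card N := Subgroup.card_le_of_le inf_le_left
  by_cases hHP : H ≤ F.P0
  · rw [inf_eq_left.2 hHP] at hH0card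
    rw [hH0card]
    have h8 : Nat.card (F.img H) ≤ 8 :=
      (Subgroup.card_le_of_le (F.img_mono hHP)).trans (F.card_img_P0_le hG hno)
    by_cases h4 : Nat.card (F.img H) ≤ 4
    · calc Nat.card (F.img H) * Nat.card D ≤ 4 * (Nat.card M * 4) := Nat.mul_le_mul h4 hD4
        _ = 16 * Nat.card M := by ring
        _ ≤ 16 * Nat.card N := Nat.mul_le_mul_left _ hMN
    have h8' : Nat.card (F.img H) = 8 := by
      have hd := Subgroup.card_dvd_of_le (F.img_le H)
      rw [show Nat.card ↥((F.W.subgroupOf F.A).prod (F.W.subgroupOf F.A)) = 16 from F.card_box] at hd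
      interval_cases hc : Nat.card (F.img H) <;> omega
    have hD2 : Nat.card D ≤ 2 * Nat.card M := by
      have hHP0 : F.img H = F.img F.P0 := Subgroup.eq_of_le_of_card_ge (F.img_mono hHP)
        (by rw [h8']; exact F.card_img_P0_le hG hno)
      by_cases htop : ∀ g : G, g ∈ F.P0
      · -- every element of `P0 = G` is central modulo `C`
        have hcen : ∀ y ∈ F.P0, ∀ g : G, ⁅g, y⁆ ∈ F.C := by
          intro y hy g
          have hm : (⁅(⟨g, htop g⟩ : F.P0), (⟨y, hy⟩ : F.P0)⁆ : F.P0) ∈ F.psi.ker := by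
            rw [MonoidHom.mem_ker, map_commutatorElement, commutatorElement_eq_one_iff_mul_comm]
            exact F.pair_comm _ _
          rw [F.ker_psi, mem_subgroupOf] at hm
          exact hm
        have hbox : ((F.img H).subgroupOf F.box).index = 2 := by
          have h := ((F.img H).subgroupOf F.box).card_mul_index
          rw [Nat.card_congr (Subgroup.subgroupOfEquivOfLe (show F.img H ≤ F.box from F.img_le H)).toEquiv,
            h8', F.card_box] at h
          omega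
        -- one of five good pairs lies in the image of `H`
        have hpick : ∀ s t : G, s ∈ F.W → t ∈ F.W → s ≠ F.e ^ 2 → t ≠ F.f ^ 2 →
            s * t ≠ F.e ^ 2 * F.f ^ 2 → (s ≠ 1 ∨ t ≠ 1) →
            (∃ hs : s ∈ F.A, ∃ ht : t ∈ F.A, ((⟨s, hs⟩, ⟨t, ht⟩) : F.A × F.A) ∈ F.img H) →
            Nat.card D ≤ 2 * Nat.card M := by
          rintro s t - - h1 h2 h3 h0 ⟨_, _, x, hx, hxe⟩
          have hse : ⁅(x : G), F.e⁆ = s := congrArg (fun p => (p.1 : G)) hxe
          have hte : ⁅(x : G), F.f⁆ = t := congrArg (fun p => (p.2 : G)) hxe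
          refine hstop x hx x.2 ?_ (hcen x x.2) fun a ha => ?_
          · intro h
            have h' := (F.mem_C_iff x.2).1 h
            rw [hse, hte] at h'
            rcases h0 with h0 | h0
            exacts [h0 h'.1, h0 h'.2]
          · exact F.sq_eq_one_of_good x.2 (hse ▸ h1) (hte ▸ h2) (hse.symm ▸ hte.symm ▸ h3) ha
        by_contra hno'
        set z := F.e ^ 2 with hz
        set w := F.f ^ 2 with hw
        have hzW := F.z_mem
        have hwW := F.w_mem
        have hzwW : z * w ∈ F.W := mul_mem hzW hwW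
        have hzw : z * w ≠ 1 := F.one_ne_ef
        have hzz : z * z = 1 := by rw [← pow_two]; exact F.W_sq hzW
        have hww : w * w = 1 := by rw [← pow_two]; exact F.W_sq hwW
        have hwz : w * z = z * w := F.comm _ (F.W_le hwW) _ (F.W_le hzW)
        have hcl : ∀ a b : G, a ∈ F.W → b ∈ F.W → a * b ∈ F.W := fun a b => mul_mem
        let P : G → G → Prop := fun s t => ∃ hs : s ∈ F.A, ∃ ht : t ∈ F.A,
          ((⟨s, hs⟩, ⟨t, ht⟩) : F.A × F.A) ∈ F.img H
        have hadd : ∀ s t s' t', s ∈ F.W → t ∈ F.W → s' ∈ F.W → t' ∈ F.W →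
            (P s t ↔ P s' t') → P (s * s') (t * t') := by
          intro s t s' t' hs ht hs' ht' hiff
          refine ⟨F.W_le (hcl _ _ hs hs'), F.W_le (hcl _ _ ht ht'), ?_⟩
          let u : F.box := ⟨(⟨s, F.W_le hs⟩, ⟨t, F.W_le ht⟩), ⟨hs, ht⟩⟩
          let u' : F.box := ⟨(⟨s', F.W_le hs'⟩, ⟨t', F.W_le ht'⟩), ⟨hs', ht'⟩⟩
          have := (Subgroup.mul_mem_iff_of_index_two hbox (a := u) (b := u')).2 (by
            constructor
            · intro h; exact (hiff.1 ⟨F.W_le hs, F.W_le ht, h⟩).2.2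
            · intro h; exact (hiff.2 ⟨F.W_le hs', F.W_le ht', h⟩).2.2)
          exact this
        have hN1 : ¬ P 1 z := fun h => hno' (hpick 1 z F.W.one_mem hzW F.e_ne.symm F.ef_ne
          (by rw [one_mul]; intro h'; exact F.f_ne (mul_eq_left.1 h'.symm)) (Or.inr F.e_ne) h)
        have hN2 : ¬ P w 1 := fun h => hno' (hpick w 1 hwW F.W.one_mem F.ef_ne.symm F.f_ne.symm
          (by rw [mul_one]; intro h'; exact F.e_ne (mul_eq_right.1 h'.symm)) (Or.inl F.f_ne) h)
        have hJ : ¬ P (z * w) (z * w) := fun h => hno' (hpick _ _ hzwW hzwW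
          (fun h' => F.f_ne (mul_eq_left.1 h')) (fun h' => F.e_ne (mul_eq_right.1 h'))
          (by rw [← pow_two, F.W_sq hzwW]; exact hzw.symm) (Or.inl hzw) h)
        have hO : ¬ P w (z * w) := fun h => hno' (hpick _ _ hwW hzwW F.ef_ne.symm
          (fun h' => F.e_ne (mul_eq_right.1 h'))
          (by rw [← mul_assoc, hwz, mul_assoc, hww, mul_one]; intro h'; exact F.f_ne (mul_eq_left.1 h'.symm))
          (Or.inl F.f_ne) h)
        have hO' : ¬ P (z * w) z := fun h => hno' (hpick _ _ hzwW hzW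
          (fun h' => F.f_ne (mul_eq_left.1 h')) F.ef_ne
          (by rw [mul_assoc, hwz, ← mul_assoc, hzz, one_mul]; intro h'; exact F.e_ne (mul_eq_right.1 h'.symm))
          (Or.inr F.e_ne) h)
        have hP1 : P w z := by
          have := hadd _ _ _ _ F.W.one_mem hzW hwW F.W.one_mem (iff_of_false hN1 hN2)
          rwa [one_mul, mul_one] at this
        have hP2 : P (z * w) w := by
          have := hadd _ _ _ _ F.W.one_mem hzW hzwW hzwW (iff_of_false hN1 hJ)
          rwa [one_mul, ← mul_assoc z z w, hzz, one_mul] at this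
        have hP3 : P z (z * w) := by
          have := hadd _ _ _ _ hwW hzW hzwW hwW (iff_of_true hP1 hP2)
          rwa [← mul_assoc w z w, hwz, mul_assoc z w w, hww, mul_one] at this
        have hP4 : P z w := by
          have := hadd _ _ _ _ hwW hzwW hzwW hzW (iff_of_false hO hO')
          rwa [← mul_assoc w z w, hwz, mul_assoc z w w, hww, mul_one, mul_assoc z w z, hwz, ← mul_assoc z z w,
            hzz, one_mul] at this
        have hP5 := hadd _ _ _ _ hzW hzwW hzW hwW (iff_of_true hP3 hP4)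
        rw [hzz, mul_assoc, hww, mul_one] at hP5
        exact hN1 hP5
      · push Not at htop
        obtain ⟨g, hg⟩ := htop
        have hsub : (⊤ : Subgroup F.P0).map (F.kappa g) ≤ F.fixImg g ⊤ := by
          rintro _ ⟨x, -, rfl⟩
          refine ⟨F.conjP0 g x * x⁻¹, ⟨Subgroup.mem_top _, ?_⟩, by rw [map_mul, map_inv]; rfl⟩
          set y : F.P0 := F.conjP0 g x with hy
          have h2 : F.psi (F.conjP0 g y) = F.psi x := by
            have he : F.conjP0 g y = ⟨g ^ 2, F.sq_mem_P0 g⟩ * x * (⟨g ^ 2, F.sq_mem_P0 g⟩)⁻¹ :=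
              Subtype.ext (by show g * (g * x * g⁻¹) * g⁻¹ = g ^ 2 * x * (g ^ 2)⁻¹; rw [pow_two]; group)
            rw [he, map_mul, map_mul, map_inv, F.pair_comm (F.psi _) (F.psi x), mul_inv_cancel_right]
          show F.psi (F.conjP0 g (y * x⁻¹)) * (F.psi (y * x⁻¹))⁻¹ = 1
          have hxi : (F.psi x)⁻¹ = F.psi x := inv_eq_of_mul_eq_one_right (F.psi_sq x)
          have hyi : (F.psi y)⁻¹ = F.psi y := inv_eq_of_mul_eq_one_right (F.psi_sq y)
          rw [map_mul, map_mul, map_mul, map_inv, map_inv, map_inv, h2, ← hy, mul_inv_rev, inv_inv,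
            hyi, F.pair_comm (F.psi x) (F.psi y), ← map_mul]
          exact F.psi_sq _
        have h := F.card_map_psi g ⊤
        have hP0img : Nat.card ((⊤ : Subgroup F.P0).map F.psi) = 8 := by
          rw [← h8', hHP0, img, Subgroup.subgroupOf_self]
        rw [hP0img] at h
        have h1 := Subgroup.card_le_of_le hsub
        obtain ⟨hle, hfour⟩ := F.fixImg_card hg ⊤
        have hfix : Nat.card (F.fixImg g ⊤) = 4 := by
          generalize hb : Nat.card (F.fixImg g ⊤) = b at *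
          generalize ha : Nat.card ((⊤ : Subgroup F.P0).map (F.kappa g)) = a at *
          interval_cases b <;> omega
        obtain ⟨x, -, hx1, hx2⟩ := hfour hfix
        have hxim : F.psi x ∈ F.img H := by
          rw [hHP0]; exact ⟨x, x.2, rfl⟩
        obtain ⟨y, hyH, hyx⟩ := hxim
        refine hstopN y hyH y.2 ?_ ?_
        · rw [← hx1]; exact congrArg (fun p => (p.1 : G)) hyx
        · rw [← hx2]; exact congrArg (fun p => (p.2 : G)) hyx
    calc Nat.card (F.img H) * Nat.card D ≤ 8 * (2 * Nat.card M) := Nat.mul_le_mul h8 hD2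
      _ ≤ 16 * Nat.card N := by omega
  · obtain ⟨g, hgH, hg⟩ := SetLike.not_le_iff_exists.1 hHP
    have hH2 : Nat.card H ≤ 2 * Nat.card ↥(H ⊓ F.P0) := by
      let r : H → ↥(H ⊓ F.P0) ⊕ ↥(H ⊓ F.P0) := fun h =>
        if hh : (h : G) ∈ F.P0 then Sum.inl ⟨h, h.2, hh⟩
        else Sum.inr ⟨g⁻¹ * h, Subgroup.mem_inf.2 ⟨mul_mem (inv_mem hgH) h.2, F.inv_mul_mem_P0 hg hh⟩⟩
      have hr : Function.Injective r := by
        intro a b hab
        simp only [r] at hab
        split_ifs at hab with h1 h2 h2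
        · exact Subtype.ext (Subtype.mk.inj (Sum.inl.inj hab))
        · exact Subtype.ext (mul_left_cancel (Subtype.mk.inj (Sum.inr.inj hab)))
      have := Nat.card_le_card_of_injective r hr
      rw [Nat.card_sum] at this
      omega
    set L : Subgroup F.P0 := (H ⊓ F.P0).subgroupOf F.P0 with hL
    have hk : L.map (F.kappa g) ≤ F.img (N ⊓ F.P0) := by
      rintro _ ⟨x, hx, rfl⟩
      have hxH : (x : G) ∈ H := hx.1
      refine ⟨F.conjP0 g x * x⁻¹, mem_subgroupOf.2 (Subgroup.mem_inf.2 ⟨?_, (F.conjP0 g x * x⁻¹).2⟩), by rw [map_mul, map_inv]; rfl⟩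
      show g * (x : G) * g⁻¹ * (x : G)⁻¹ ∈ N
      rw [← commutatorElement_def]
      exact commutator_mem_of_sq_mem hsq hgH hxH
    obtain ⟨hle, hfour⟩ := F.fixImg_card hg L
    have himg : Nat.card (F.img (H ⊓ F.P0)) ≤ Nat.card (F.img (N ⊓ F.P0)) * Nat.card (F.fixImg g L) := by
      rw [img, F.card_map_psi g L]
      exact Nat.mul_le_mul_right _ (Subgroup.card_le_of_le hk)
    have hbound : Nat.card (F.fixImg g L) * Nat.card D ≤ 8 * Nat.card M := by
      by_cases h2 : Nat.card (F.fixImg g L) ≤ 2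
      · calc Nat.card (F.fixImg g L) * Nat.card D ≤ 2 * (Nat.card M * 4) := Nat.mul_le_mul h2 hD4
          _ = 8 * Nat.card M := by ring
      have h4 : Nat.card (F.fixImg g L) = 4 := by
        have hd : Nat.card (F.fixImg g L) ∣ 16 := by
          rw [← F.card_box]
          refine Subgroup.card_dvd_of_le ?_
          rintro _ ⟨x, -, rfl⟩
          exact ⟨F.d_mem x.2 F.e_mem, F.d_mem x.2 F.f_mem⟩
        interval_cases hc : Nat.card (F.fixImg g L) <;> omega
      obtain ⟨x, hx, hx1, hx2⟩ := hfour h4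
      have hD2 := hstopN x hx.1 x.2 hx1 hx2
      rw [h4]; omega
    calc Nat.card H ≤ 2 * (Nat.card (F.img (H ⊓ F.P0)) * Nat.card D) := by rw [← hH0card]; exact hH2
      _ ≤ 2 * (Nat.card (F.img (N ⊓ F.P0)) * Nat.card (F.fixImg g L) * Nat.card D) := by gcongr
      _ = 2 * Nat.card (F.img (N ⊓ F.P0)) * (Nat.card (F.fixImg g L) * Nat.card D) := by ring
      _ ≤ 2 * Nat.card (F.img (N ⊓ F.P0)) * (8 * Nat.card M) := by gcongr
      _ = 16 * (Nat.card (F.img (N ⊓ F.P0)) * Nat.card M) := by ring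
      _ ≤ 16 * Nat.card N := Nat.mul_le_mul_left _ hNcard

end Frame

/-- MacWilliams' bound. -/
theorem card_le_of_no_normal_eight [Finite G] (hG : IsPGroup 2 G)
    (hno : ∀ K : Subgroup G, K.Normal → IsMulCommutative K → (∀ a ∈ K, a ^ 2 = 1) → Nat.card K ≤ 4)
    (H N : Subgroup G) (hNH : N ≤ H) (hsq : ∀ h ∈ H, h ^ 2 ∈ N) :
    Nat.card H ≤ 16 * Nat.card N := by
  classical
  haveI : Fact (Nat.Prime 2) := ⟨Nat.prime_two⟩
  haveI : Group.IsNilpotent G := hG.isNilpotent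
  obtain ⟨A, hA⟩ := exists_maximal_normalAbelianFour (G := G)
  obtain ⟨hAn, hAa, hA4⟩ := hA.1
  haveI := hAn
  have hcomm : ∀ a ∈ A, ∀ b ∈ A, a * b = b * a := fun a ha b hb =>
    congrArg Subtype.val (hAa.is_comm.comm ⟨a, ha⟩ ⟨b, hb⟩)
  have homega : ∀ c ∈ centralizer (A : Set G), c ^ 4 = 1 → c ∈ A := fun c hc h4 =>
    mem_of_centralizes_of_pow_four hG hA hc h4
  let sq : A →* G := MonoidHom.mk' (fun a : A => (a : G) ^ 2) fun a b =>
    (show Commute (a : G) b from hcomm a a.2 b b.2).mul_pow 2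
  let W : Subgroup G := sq.ker.map A.subtype
  have hW : ∀ a, a ∈ W ↔ a ∈ A ∧ a ^ 2 = 1 := fun a => by
    constructor
    · rintro ⟨b, hb, rfl⟩; exact ⟨b.2, hb⟩
    · rintro ⟨ha, h2⟩; exact ⟨⟨a, ha⟩, h2, rfl⟩
  have hWA : W ≤ A := fun a h => ((hW a).1 h).1
  haveI hWn : W.Normal := ⟨fun a ha g => (hW _).2 ⟨hAn.conj_mem a (hWA ha) g, by
    rw [conj_pow, ((hW a).1 ha).2]; group⟩⟩
  have hW4 : Nat.card W ≤ 4 := hno W hWn ⟨⟨fun a b => Subtype.ext (hcomm a (hWA a.2) b (hWA b.2))⟩⟩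
    fun a ha => ((hW a).1 ha).2
  by_cases hA8 : Nat.card A ≤ 8
  · -- few automorphisms
    let φ : G →* MulAut A := MulAut.conjNormal
    have hker : φ.ker = centralizer (A : Set G) := by
      ext g
      rw [MonoidHom.mem_ker, mem_centralizer_iff, MulEquiv.ext_iff]
      constructor
      · intro h a ha
        have h' := congrArg Subtype.val (h ⟨a, ha⟩)
        simp [φ] at h'
        exact (mul_inv_eq_iff_eq_mul.1 h').symm
      · intro h a
        refine Subtype.ext ?_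
        simp [φ, ← h a a.2]
    have hcard : ∀ L : Subgroup G,
        Nat.card L = Nat.card (L.map φ) * Nat.card ↥(L ⊓ centralizer (A : Set G)) := fun L => by
      rw [← hker]; exact card_eq_map_mul_inf_ker φ L
    have hcen : ∀ a ∈ centralizer (A : Set G), a ^ 4 = 1 →
        ∀ c ∈ centralizer (A : Set G), c * a = a * c :=
      fun a ha h4 c hc => (mem_centralizer_iff.1 hc a (homega a ha h4)).symm
    have hW' : ∀ a ∈ centralizer (A : Set G), a ^ 2 = 1 → a ∈ W := fun a ha h2 =>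
      (hW a).2 ⟨homega a ha (by rw [show (4 : ℕ) = 2 * 2 from rfl, pow_mul, h2, one_pow]), h2⟩
    have hD := card_le_of_sq_mem hG hcen hW' (H ⊓ centralizer (A : Set G))
      (N ⊓ centralizer (A : Set G)) inf_le_right (fun d hd => ⟨hsq d hd.1, pow_mem hd.2 2⟩)
    have hX : Nat.card (H.map φ) ≤ 4 * Nat.card (N.map φ) := by
      refine aut_card_le (fun a b => Subtype.ext (hcomm a a.2 b b.2))
        (fun a => Subtype.ext (hA4 a a.2)) (hG.to_subgroup A) hA8 (W.subgroupOf A) (fun a => ?_) ?_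
        _ _ ((hG.to_subgroup H).map φ) ?_
      · rw [mem_subgroupOf, hW]
        exact ⟨fun h => Subtype.ext h.2, fun h => ⟨a.2, congrArg Subtype.val h⟩⟩
      · rw [Nat.card_congr (Subgroup.subgroupOfEquivOfLe hWA).toEquiv]; exact hW4
      · rintro _ ⟨h, hh, rfl⟩
        exact ⟨h ^ 2, hsq h hh, map_pow φ h 2⟩
    rw [hcard H, hcard N]
    calc Nat.card (H.map φ) * Nat.card ↥(H ⊓ centralizer (A : Set G))
        ≤ (4 * Nat.card (N.map φ)) * (Nat.card ↥(N ⊓ centralizer (A : Set G)) * Nat.card W) :=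
          Nat.mul_le_mul hX hD
      _ ≤ (4 * Nat.card (N.map φ)) * (Nat.card ↥(N ⊓ centralizer (A : Set G)) * 4) := by gcongr
      _ = _ := by ring
  · -- a frame
    have hcard := card_eq_map_mul_inf_ker sq ⊤
    rw [top_inf_eq, Subgroup.card_top, ← MonoidHom.range_eq_map,
      show Nat.card sq.ker = Nat.card W from
        (Subgroup.card_map_of_injective A.subtype_injective).symm] at hcard
    have hrW : sq.range ≤ W := by
      rintro _ ⟨a, rfl⟩
      refine (hW _).2 ⟨pow_mem a.2 2, ?_⟩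
      show ((a : G) ^ 2) ^ 2 = 1
      rw [← pow_mul]; exact hA4 a a.2
    have hrle := Subgroup.card_le_of_le hrW
    have hW4' : Nat.card W = 4 ∧ Nat.card sq.range = 4 := by
      obtain ⟨i, hi⟩ := exists_card_eq_two_pow hG W
      obtain ⟨j, hj⟩ := exists_card_eq_two_pow hG sq.range
      rw [hi, hj] at hcard hrle ⊢
      rw [hi] at hW4
      have h5 : i ≤ 2 := (Nat.pow_le_pow_iff_right one_lt_two).1 (show 2 ^ i ≤ 2 ^ 2 by omega)
      have h6 : j ≤ i := (Nat.pow_le_pow_iff_right one_lt_two).1 hrle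
      interval_cases i <;> interval_cases j <;> omega
    have hrange : sq.range = W := Subgroup.eq_of_le_of_card_ge hrW (by omega)
    have hAW : ¬ A ≤ W := fun h => by
      have := Subgroup.card_le_of_le h
      omega
    obtain ⟨e, he, heW, hec⟩ := CfsgLib.OddOrder41.exists_central_step A W hAW
    have he2 : e ^ 2 ≠ 1 := fun h => heW ((hW e).2 ⟨he, h⟩)
    obtain ⟨v, hv, hv1, hvz⟩ : ∃ v ∈ W, v ≠ 1 ∧ v ≠ e ^ 2 := by
      by_contra! h
      have h3 : Nat.card W ≤ Nat.card ({1, e ^ 2} : Set G) := Nat.card_mono (Set.toFinite _) fun a ha => by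
        by_cases ha1 : a = 1
        · exact Or.inl ha1
        · exact Or.inr (h a ha ha1)
      rw [Nat.card_coe_set_eq ({1, e ^ 2} : Set G), Set.ncard_pair (Ne.symm he2)] at h3
      omega
    obtain ⟨f, hfv⟩ : v ∈ sq.range := hrange.symm ▸ hv
    have hfv' : (f : G) ^ 2 = v := hfv
    have hzW : e ^ 2 ∈ W := hrange ▸ ⟨⟨e, he⟩, rfl⟩
    have hcases : ∀ a ∈ W, a = 1 ∨ a = e ^ 2 ∨ a = (f : G) ^ 2 ∨ a = e ^ 2 * (f : G) ^ 2 := by
      rw [hfv']
      have hsub : ({1, e ^ 2, v, e ^ 2 * v} : Set G) ⊆ W := by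
        intro a ha
        simp only [Set.mem_insert_iff, Set.mem_singleton_iff] at ha
        rcases ha with rfl | rfl | rfl | rfl
        exacts [W.one_mem, hzW, hv, W.mul_mem hzW hv]
      have hzw1 : e ^ 2 * v ≠ 1 := by
        intro h
        rw [mul_eq_one_iff_eq_inv] at h
        refine hvz ?_
        rw [h, eq_inv_iff_mul_eq_one, ← pow_two]
        exact ((hW v).1 hv).2
      have h4' : ({1, e ^ 2, v, e ^ 2 * v} : Set G).ncard = 4 := by
        rw [Set.ncard_insert_of_notMem, Set.ncard_insert_of_notMem, Set.ncard_pair]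
        · intro h; exact he2 (by simpa using h)
        · simp only [Set.mem_insert_iff, Set.mem_singleton_iff, not_or]
          exact ⟨Ne.symm hvz, fun h => hv1 (mul_eq_left.1 h.symm)⟩
        · simp only [Set.mem_insert_iff, Set.mem_singleton_iff, not_or]
          exact ⟨Ne.symm he2, Ne.symm hv1, Ne.symm hzw1⟩
      have heq := Set.eq_of_subset_of_ncard_le hsub (by
        rw [h4', ← Nat.card_coe_set_eq]; exact hW4'.1.le) (Set.toFinite _)
      intro a ha
      have ha' : a ∈ ({1, e ^ 2, v, e ^ 2 * v} : Set G) := heq.symm ▸ ha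
      simpa using ha'
    let F : Frame G :=
      { A := A, W := W, e := e, f := f, normal := hAn, comm := hcomm, pow_four := hA4, omega := homega,
        mem_W := hW, e_mem := he, f_mem := f.2, e_ne := he2,
        f_ne := by rw [hfv']; exact hv1, ef_ne := by rw [hfv']; exact hvz.symm,
        W_cases := hcases,
        e_fixed := fun g => by
          rw [← inv_inv ⁅g, e⁆, commutatorElement_inv]; exact inv_mem (hec g) }
    exact F.card_le hG hno H N hNH hsq

end CfsgLib.MacWilliams
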