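import Cfsg.Agent.Lib.MacWilliams.OmegaCentral
import Cfsg.Agent.Lib.OddOrder41.FixOmega

/-!
A maximal normal abelian subgroup of exponent dividing 4 of a 2-group contains all elements of
order dividing 4 of its centralizer.
-/

set_option autoImplicit false

namespace CfsgLib.MacWilliams

open Subgroup
open scoped commutatorElement

variable {G : Type*} [Group G]

/-- The condition defining the candidates. -/
def IsNormalAbelianFour (A : Subgroup G) : Prop :=
  A.Normal ∧ IsMulCommutative A ∧ ∀ a ∈ A, a ^ 4 = 1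

theorem exists_maximal_normalAbelianFour [Finite G] :
    ∃ A : Subgroup G, Maximal (IsNormalAbelianFour (G := G)) A := by
  obtain ⟨A, hA⟩ := Set.Finite.exists_maximal (s := {A : Subgroup G | IsNormalAbelianFour A})
    (Set.toFinite _) ⟨⊥, inferInstance, ⟨⟨fun a b => by
      ext; simp [mem_bot.1 a.2, mem_bot.1 b.2]⟩⟩, fun a ha => by simp [mem_bot.1 ha]⟩
  exact ⟨A, hA⟩

theorem mem_of_centralizes_of_pow_four [Finite G] (hG : IsPGroup 2 G) {A : Subgroup G}
    (hA : Maximal (IsNormalAbelianFour (G := G)) A) {x : G} (hxC : x ∈ centralizer (A : Set G))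
    (hx4 : x ^ 4 = 1) : x ∈ A := by
  classical
  obtain ⟨⟨hAn, hAa, hA4⟩, hmax⟩ := hA
  haveI := hAn
  haveI : Fact (Nat.Prime 2) := ⟨Nat.prime_two⟩
  haveI : Group.IsNilpotent G := hG.isNilpotent
  have hcomA : ∀ a ∈ A, ∀ b ∈ A, a * b = b * a := fun a ha b hb =>
    congrArg Subtype.val (hAa.is_comm.comm ⟨a, ha⟩ ⟨b, hb⟩)
  suffices key : ∀ i, ∀ x ∈ Subgroup.upperCentralSeries G i, x ∈ centralizer (A : Set G) → x ^ 4 = 1 → x ∈ A by
    obtain ⟨n, hn⟩ := Group.IsNilpotent.nilpotent G
    exact key n x (hn ▸ mem_top x) hxC hx4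
  intro i
  induction i with
  | zero =>
    intro x hx _ _
    rw [Subgroup.upperCentralSeries_zero, mem_bot] at hx
    exact hx ▸ A.one_mem
  | succ i ih =>
    have step : ∀ x ∈ Subgroup.upperCentralSeries G (i + 1), x ∈ centralizer (A : Set G) → x ^ 4 = 1 →
        x ^ 2 ∈ A → x ∈ A := by
      intro x hx hxC hx4 hx2
      by_contra hxA
      have hcx : ∀ a ∈ A, a * x = x * a := fun a ha => mem_centralizer_iff.1 hxC a ha
      have hgx : ∀ g : G, g * x * g⁻¹ ∈ centralizer (A : Set G) := fun g =>
        Subgroup.Normal.conj_mem inferInstance x hxC g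
      -- the commutators lie in `A`
      have hu : ∀ g : G, x⁻¹ * (g * x * g⁻¹) ∈ A := by
        intro g
        have hlow : x⁻¹ * (g * x * g⁻¹) ∈ Subgroup.upperCentralSeries G i := by
          have h1 := Subgroup.mem_upperCentralSeries_succ_iff.1 (inv_mem hx) g
          simpa [commutatorElement_def, mul_assoc] using h1
        set u := x⁻¹ * (g * x * g⁻¹) with hudef
        have huC : u ∈ centralizer (A : Set G) := mul_mem (inv_mem hxC) (hgx g)
        refine ih u hlow huC ?_
        -- `a = x ^ 2`
        set a' := (x ^ 2)⁻¹ * (g * x ^ 2 * g⁻¹) with ha'def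
        have ha2 : (x ^ 2) ^ 2 = 1 := by rw [← pow_mul]; exact hx4
        have ha'A : a' ∈ A := mul_mem (inv_mem hx2) (hAn.conj_mem _ hx2 g)
        have ha'2 : a' ^ 2 = 1 := by
          rw [ha'def, Commute.mul_pow (hcomA _ (inv_mem hx2) _ (hAn.conj_mem _ hx2 g)), inv_pow,
            ha2, inv_one, one_mul, conj_pow, ha2, mul_one, mul_inv_cancel]
        have hrel : x⁻¹ * u * x = a' * u⁻¹ := by
          rw [ha'def, hudef]; simp only [pow_two, mul_assoc, mul_inv_rev, inv_inv]; group
        have hua : Commute a' u := mem_centralizer_iff.1 huC a' ha'A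
        have hu2 : x⁻¹ * u ^ 2 * x = (u ^ 2)⁻¹ := by
          have h := conj_pow (i := 2) (a := x⁻¹) (b := u)
          rw [inv_inv] at h
          rw [← h, hrel, hua.inv_right.mul_pow, ha'2, one_mul, inv_pow]
        obtain ⟨k, hk⟩ := hG (u ^ 2)
        have hfix : ∀ n : ℕ, ((u ^ 2) ^ n) ^ 4 = 1 → x⁻¹ * (u ^ 2) ^ n * (x⁻¹)⁻¹ = (u ^ 2) ^ n := by
          intro n hn
          have hmem : (u ^ 2) ^ n ∈ A := ih _ (pow_mem (pow_mem hlow 2) n)
            (pow_mem (pow_mem huC 2) n) hn
          rw [inv_inv, mul_assoc, hcx _ hmem, inv_mul_cancel_left]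
        have := sq_eq_one_of_inverted (x := x⁻¹) k hk (by rwa [inv_inv]) hfix
        rwa [← pow_mul] at this
      -- so `A⟨x⟩` is a larger candidate
      let K := closure (insert x (A : Set G))
      have hKsub : insert x (A : Set G) ⊆ K := subset_closure
      have hKab : IsMulCommutative K := by
        refine Subgroup.isMulCommutative_closure ?_
        intro a ha b hb
        rcases Set.mem_insert_iff.1 ha with ha | ha <;> rcases Set.mem_insert_iff.1 hb with hb | hb
        · rw [ha, hb]
        · rw [ha]; exact (hcx b hb).symm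
        · rw [hb]; exact hcx a ha
        · exact hcomA a ha b hb
      have hK : IsNormalAbelianFour K := by
        refine ⟨⟨fun k hk g => ?_⟩, hKab, fun k hk => ?_⟩
        · refine CfsgLib.OddOrder41.closure_conj_invariant (a := g) ?_ k hk
          intro z hz
          rcases Set.mem_insert_iff.1 hz with rfl | hz
          · have : g * z * g⁻¹ = z * (z⁻¹ * (g * z * g⁻¹)) := by group
            rw [this]
            exact mul_mem (hKsub (Set.mem_insert _ _)) (hKsub (Set.mem_insert_of_mem _ (hu g)))
          · exact hKsub (Set.mem_insert_of_mem _ (hAn.conj_mem z hz g))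
        · induction hk using closure_induction with
          | mem z hz =>
            rcases Set.mem_insert_iff.1 hz with rfl | hz
            · exact hx4
            · exact hA4 z hz
          | one => exact one_pow 4
          | mul u v hu hv ihu ihv =>
            have : Commute u v := congrArg Subtype.val (hKab.is_comm.comm ⟨u, hu⟩ ⟨v, hv⟩)
            rw [this.mul_pow, ihu, ihv, one_mul]
          | inv u _ ihu => rw [inv_pow, ihu, inv_one]
      exact hxA (hmax hK (fun a ha => hKsub (Set.mem_insert_of_mem _ ha)) (hKsub (Set.mem_insert _ _)))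
    intro x hx hxC hx4
    refine step x hx hxC hx4 (step (x ^ 2) (pow_mem hx 2) (pow_mem hxC 2) ?_ ?_)
    · rw [← pow_mul, show 2 * 4 = 4 * 2 from rfl, pow_mul, hx4, one_pow]
    · rw [← pow_mul, show 2 * 2 = 4 from rfl, hx4]; exact A.one_mem

end CfsgLib.MacWilliams
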