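import Cfsg.Agent.Lib.MacWilliams.Frame

/-!
If no normal elementary abelian subgroup has order 8 then suitable elements square outside the
squares of the centralizer of `A`.
-/

set_option autoImplicit false
set_option linter.style.haveILetI false

namespace CfsgLib.MacWilliams

open Subgroup
open scoped commutatorElement

variable {G : Type*} [Group G]

namespace Frame

variable (F : Frame G)

theorem one_ne_ef : F.e ^ 2 * F.f ^ 2 ≠ 1 := by
  intro h
  rw [mul_eq_one_iff_eq_inv, F.inv_W F.w_mem] at h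
  exact F.ef_ne h

theorem four_le_card_W [Finite G] : 4 ≤ Nat.card F.W := by
  classical
  have hsub : ({1, F.e ^ 2, F.f ^ 2, F.e ^ 2 * F.f ^ 2} : Set G) ⊆ F.W := by
    intro a ha
    simp only [Set.mem_insert_iff, Set.mem_singleton_iff] at ha
    rcases ha with rfl | rfl | rfl | rfl
    · exact F.W.one_mem
    · exact F.z_mem
    · exact F.w_mem
    · exact mul_mem F.z_mem F.w_mem
  have h1 := Set.ncard_le_ncard hsub (Set.toFinite _)
  refine le_trans ?_ (le_of_le_of_eq h1 (Nat.card_coe_set_eq (F.W : Set G)).symm)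
  rw [Set.ncard_insert_of_notMem, Set.ncard_insert_of_notMem, Set.ncard_pair]
  · intro h
    exact F.e_ne (by simpa using h)
  · simp only [Set.mem_insert_iff, Set.mem_singleton_iff, not_or]
    refine ⟨F.ef_ne, fun h => F.f_ne ?_⟩
    simpa using h
  · simp only [Set.mem_insert_iff, Set.mem_singleton_iff, not_or]
    exact ⟨F.e_ne.symm, F.f_ne.symm, F.one_ne_ef.symm⟩

/-- the three values of `⁅x, ·⁆` showing that `a ↦ a ^ 2 * ⁅x, a⁆` kills only `A[2]` -/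
theorem sq_eq_one_of_good {x : G} (hx : x ∈ F.P0) (h1 : ⁅x, F.e⁆ ≠ F.e ^ 2)
    (h2 : ⁅x, F.f⁆ ≠ F.f ^ 2) (h3 : ⁅x, F.e⁆ * ⁅x, F.f⁆ ≠ F.e ^ 2 * F.f ^ 2)
    {a : G} (ha : a ∈ F.A) (h : ⁅x, a⁆ = a ^ 2) : a ^ 2 = 1 := by
  rcases F.d_cases hx ha with h' | h' | h' | h'
  · exact h'.1
  · exact absurd (by rw [← h'.2, h, h'.1]) h1
  · exact absurd (by rw [← h'.2, h, h'.1]) h2
  · exact absurd (by rw [← h'.2, h, h'.1]) h3

/-- every element of `A[2]` is `a ^ 2 * ⁅x, a⁆` for some `a ∈ A`, for good `x` -/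
theorem exists_sq_mul_eq [Finite G] {x : G} (hx : x ∈ F.P0)
    (hgood : ∀ a ∈ F.A, ⁅x, a⁆ = a ^ 2 → a ^ 2 = 1) {v : G} (hv : v ∈ F.W) :
    ∃ a ∈ F.A, a ^ 2 * ⁅x, a⁆ = v := by
  classical
  have hmem : ∀ a ∈ F.A, a ^ 2 * ⁅x, a⁆ ∈ F.W := fun a ha =>
    mul_mem (F.sq_mem ha) (F.d_mem hx ha)
  have hinj : ∀ a ∈ F.A, ∀ b ∈ F.A, a ^ 2 * ⁅x, a⁆ = b ^ 2 * ⁅x, b⁆ → a ^ 2 = b ^ 2 := by
    intro a ha b hb h
    have hab : a⁻¹ * b ∈ F.A := mul_mem (inv_mem ha) hb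
    have hb' : b = a * (a⁻¹ * b) := by group
    have h1 : (a⁻¹ * b) ^ 2 * ⁅x, a⁻¹ * b⁆ = 1 := by
      rw [hb', F.mul_sq ha hab, F.d_mul_right hx ha hab] at h
      have hc := F.comm _ (F.W_le (F.sq_mem hab)) _ (F.W_le (F.d_mem hx ha))
      rw [mul_assoc (a ^ 2), ← mul_assoc ((a⁻¹ * b) ^ 2), hc, mul_assoc ⁅x, a⁆, ← mul_assoc (a ^ 2)] at h
      exact mul_eq_left.1 h.symm
    have h2 : ⁅x, a⁻¹ * b⁆ = (a⁻¹ * b) ^ 2 := by
      rw [← F.inv_W (F.sq_mem hab)]; exact eq_inv_of_mul_eq_one_right h1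
    have h3 := hgood _ hab h2
    rw [F.mul_sq (inv_mem ha) hb, inv_pow, inv_mul_eq_one] at h3
    exact h3
  have hroot : ∀ v : F.W, ∃ a ∈ F.A, a ^ 2 = (v : G) := by
    intro v
    rcases F.W_cases _ v.2 with h | h | h | h
    · exact ⟨1, one_mem _, by rw [h, one_pow]⟩
    · exact ⟨F.e, F.e_mem, h.symm⟩
    · exact ⟨F.f, F.f_mem, h.symm⟩
    · exact ⟨_, mul_mem F.e_mem F.f_mem, by rw [F.mul_sq F.e_mem F.f_mem, h]⟩
  choose r hr1 hr2 using hroot
  let g : F.W → F.W := fun v => ⟨r v ^ 2 * ⁅x, r v⁆, hmem _ (hr1 v)⟩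
  have hg : Function.Injective g := fun v v' h => Subtype.ext <| by
    rw [← hr2 v, ← hr2 v']
    exact hinj _ (hr1 v) _ (hr1 v') (congrArg Subtype.val h)
  obtain ⟨u, hu⟩ := Finite.surjective_of_injective hg ⟨v, hv⟩
  exact ⟨r u, hr1 u, congrArg Subtype.val hu⟩

/-- The key lemma: `y ^ 2` is no square of an element of `C`. -/
theorem sq_ne_sq [Finite G] (hG : IsPGroup 2 G)
    (hno : ∀ K : Subgroup G, K.Normal → IsMulCommutative K → (∀ a ∈ K, a ^ 2 = 1) → Nat.card K ≤ 4)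
    {y : G} (hy : y ∈ F.P0) (hyC : y ∉ F.C) (hcentral : ∀ g : G, ⁅g, y⁆ ∈ F.C)
    (hgood : ∀ a ∈ F.A, ⁅y, a⁆ = a ^ 2 → a ^ 2 = 1) {c : G} (hc : c ∈ F.C) :
    y ^ 2 ≠ c ^ 2 := by
  classical
  intro hyc
  haveI := F.C_normal
  have hCW : ∀ v ∈ F.W, ∀ d ∈ F.C, v * d = d * v := fun v hv d hd => F.mem_C.1 hd v (F.W_le hv)
  have hconjC : y * c * y⁻¹ ∈ F.C := F.C_normal.conj_mem c hc y
  have hw0 : c⁻¹ * (y * c * y⁻¹) ∈ F.W := by
    refine F.C_W _ (mul_mem (inv_mem hc) hconjC) (sq_inv_mul_eq_one hG F.C_cen hc hconjC ?_)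
    rw [conj_pow, ← hyc]; group
  -- the element `y1 = y c⁻¹` with square in `A[2]`
  set y1 := y * c⁻¹ with hy1def
  have hy1P : y1 ∈ F.P0 := mul_mem hy (inv_mem (F.C_le_P0 hc))
  have hy1C : y1 ∉ F.C := fun h => hyC (by simpa [hy1def] using mul_mem h hc)
  have hy1d : ∀ a ∈ F.A, ⁅y1, a⁆ = ⁅y, a⁆ := by
    intro a ha
    rw [hy1def, F.d_mul_left hy (inv_mem (F.C_le_P0 hc)) ha,
      commutatorElement_eq_one_iff_mul_comm.2 ((F.mem_C.1 (inv_mem hc) a ha).symm), mul_one]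
  have hy1sq : y1 ^ 2 ∈ F.W := by
    have h : y1 ^ 2 = (c⁻¹ * (y * c * y⁻¹))⁻¹ := by
      set w0 := c⁻¹ * (y * c * y⁻¹)
      have h1 : y * c⁻¹ * y⁻¹ = w0⁻¹ * c⁻¹ := by
        calc y * c⁻¹ * y⁻¹ = (c * w0)⁻¹ := by simp only [w0]; group
          _ = w0⁻¹ * c⁻¹ := mul_inv_rev _ _
      calc y1 ^ 2 = (y * c⁻¹ * y⁻¹) * y ^ 2 * c⁻¹ := by rw [hy1def, pow_two, pow_two]; group
        _ = w0⁻¹ * c⁻¹ * c ^ 2 * c⁻¹ := by rw [h1, hyc]
        _ = w0⁻¹ := by rw [pow_two]; group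
    rw [h]; exact inv_mem hw0
  -- adjust by an element of `A` to get an involution `x`
  obtain ⟨a, ha, hav⟩ := F.exists_sq_mul_eq hy hgood hy1sq
  have hy1a := F.conj_eq hy1P ha
  rw [hy1d a ha] at hy1a
  set x := y1 * a with hxdef
  have hx2 : x ^ 2 = 1 := by
    have hs := F.d_mem hy ha
    calc x ^ 2 = (y1 * a * y1⁻¹) * (y1 ^ 2 * a) := by rw [hxdef, pow_two, pow_two]; group
      _ = a * ⁅y, a⁆ * (a * y1 ^ 2) := by
        rw [hy1a, F.comm _ (F.W_le hy1sq) _ ha]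
      _ = a ^ 2 * ⁅y, a⁆ * y1 ^ 2 := by
        rw [← mul_assoc, mul_assoc a ⁅y, a⁆ a, F.comm _ (F.W_le hs) _ ha, pow_two a]; simp only [mul_assoc]
      _ = 1 := by rw [hav, ← pow_two, F.W_sq hy1sq]
  have hxP : x ∈ F.P0 := mul_mem hy1P (F.C_le_P0 (F.A_le_C ha))
  have hxC : x ∉ F.C := fun h => hy1C (by simpa [hxdef] using mul_mem h (inv_mem (F.A_le_C ha)))
  have hxd : ∀ b ∈ F.A, ⁅x, b⁆ = ⁅y, b⁆ := by
    intro b hb
    rw [hxdef, F.d_mul_left hy1P (F.C_le_P0 (F.A_le_C ha)) hb,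
      commutatorElement_eq_one_iff_mul_comm.2 (F.comm _ ha _ hb), mul_one, hy1d b hb]
  -- its conjugates differ from it by elements of `A[2]`
  have hxg : ∀ g : G, x⁻¹ * (g * x * g⁻¹) ∈ F.W := by
    intro g
    let π := QuotientGroup.mk' F.C
    have hπy : π g * π y = π y * π g := by
      rw [← commutatorElement_eq_one_iff_mul_comm, ← map_commutatorElement]
      exact (QuotientGroup.eq_one_iff _).2 (hcentral g)
    have hπx : π x = π y := by
      rw [hxdef, hy1def, map_mul, map_mul, show π a = 1 from (QuotientGroup.eq_one_iff _).2 (F.A_le_C ha),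
        show π c⁻¹ = 1 from (QuotientGroup.eq_one_iff _).2 (inv_mem hc), mul_one, mul_one]
    have hu : x⁻¹ * (g * x * g⁻¹) ∈ F.C := by
      rw [← QuotientGroup.eq_one_iff (N := F.C)]
      show π (x⁻¹ * (g * x * g⁻¹)) = 1
      rw [map_mul, map_mul, map_mul, map_inv, map_inv, hπx, hπy]
      group
    set u := x⁻¹ * (g * x * g⁻¹) with hudef
    have hxi : x⁻¹ = x := by rw [inv_eq_iff_mul_eq_one, ← pow_two, hx2]
    have hxu : (x * u) ^ 2 = 1 := by
      rw [hudef, ← mul_assoc, mul_inv_cancel, one_mul, conj_pow, hx2]; group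
    have hinv : x * u * x⁻¹ = u⁻¹ := by
      rw [hxi, eq_inv_iff_mul_eq_one]
      rw [pow_two] at hxu
      simpa [mul_assoc] using hxu
    refine F.C_W u hu ?_
    obtain ⟨k, hk⟩ := hG u
    refine sq_eq_one_of_inverted (x := x) k hk hinv fun n hn => ?_
    have hv : u ^ n ∈ F.A := F.omega _ (pow_mem hu n) hn
    have hvinv : x * u ^ n * x⁻¹ = (u ^ n)⁻¹ := by rw [← conj_pow, hinv, inv_pow]
    have h2 : (u ^ n) ^ 2 = 1 := by
      refine hgood _ hv ?_
      rw [← hxd _ hv, commutatorElement_def, hvinv, ← pow_two, inv_pow,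
        F.inv_W (F.sq_mem hv)]
    exact F.fix_W hxP ((F.mem_W _).2 ⟨hv, h2⟩)
  -- so `A[2]⟨x⟩` is normal elementary abelian of order at least 8
  have hcx : ∀ v ∈ F.W, v * x = x * v := fun v hv => by
    have := F.fix_W hxP hv
    exact (mul_inv_eq_iff_eq_mul.1 this).symm
  let K := closure (insert x (F.W : Set G))
  have hsub : insert x (F.W : Set G) ⊆ K := subset_closure
  have hKab : IsMulCommutative K := by
    refine Subgroup.isMulCommutative_closure ?_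
    intro p hp q hq
    rcases Set.mem_insert_iff.1 hp with hp | hp <;> rcases Set.mem_insert_iff.1 hq with hq | hq
    · rw [hp, hq]
    · rw [hp]; exact (hcx q hq).symm
    · rw [hq]; exact hcx p hp
    · exact F.comm p (F.W_le hp) q (F.W_le hq)
  have hKn : K.Normal := by
    refine ⟨fun k hk g => CfsgLib.OddOrder41.closure_conj_invariant (a := g) ?_ k hk⟩
    intro v hv
    rcases Set.mem_insert_iff.1 hv with hv | hv
    · rw [hv, show g * x * g⁻¹ = x * (x⁻¹ * (g * x * g⁻¹)) by group]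
      exact mul_mem (hsub (Set.mem_insert _ _)) (hsub (Set.mem_insert_of_mem _ (hxg g)))
    · exact hsub (Set.mem_insert_of_mem _ (F.conj_W g hv))
  have hK2 : ∀ k ∈ K, k ^ 2 = 1 := by
    intro k hk
    induction hk using closure_induction with
    | mem v hv =>
      rcases Set.mem_insert_iff.1 hv with hv | hv
      · rw [hv]; exact hx2
      · exact F.W_sq hv
    | one => exact one_pow 2
    | mul u v hu hv ihu ihv =>
      have : Commute u v := congrArg Subtype.val (hKab.is_comm.comm ⟨u, hu⟩ ⟨v, hv⟩)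
      rw [this.mul_pow, ihu, ihv, one_mul]
    | inv u _ ihu => rw [inv_pow, ihu, inv_one]
  have hlt : F.W < K := lt_of_le_of_ne (fun v hv => hsub (Set.mem_insert_of_mem _ hv)) fun h =>
    hxC (F.A_le_C (F.W_le (h ▸ hsub (Set.mem_insert _ _))))
  have hc4 := hno K hKn hKab hK2
  have := F.four_le_card_W
  exact hlt.ne (Subgroup.eq_of_le_of_card_ge hlt.le (by omega))

end Frame

end CfsgLib.MacWilliams
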