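import Cfsg.Agent.Lib.MacWilliams.NormalEightBound
import Cfsg.Agent.Lib.MacWilliams.Main

/-!
A 2-group with a self-centralizing elementary abelian subgroup `A` of order 8 and a normal
elementary abelian subgroup `B` of order 8.
-/

set_option autoImplicit false
set_option linter.style.haveILetI false

namespace CfsgLib.MacWilliams

open Subgroup
open scoped commutatorElement

variable {G : Type*} [Group G]

/-- The subgroup `{1, x, y, x y}` of two commuting elements of order at most 2. -/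
def fourGroup (x y : G) (hx : x ^ 2 = 1) (hy : y ^ 2 = 1) (hc : x * y = y * x) : Subgroup G where
  carrier := {1, x, y, x * y}
  one_mem' := Set.mem_insert _ _
  mul_mem' := by
    have hxx : x * x = 1 := by rw [← pow_two]; exact hx
    have hyy : y * y = 1 := by rw [← pow_two]; exact hy
    have hxxy : x * (x * y) = y := by rw [← mul_assoc, hxx, one_mul]
    have hyxy : y * (x * y) = x := by rw [hc, ← mul_assoc, hyy, one_mul]
    intro a b ha hb
    simp only [Set.mem_insert_iff, Set.mem_singleton_iff] at ha hb ⊢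
    rcases ha with ha | ha | ha | ha <;> rcases hb with hb | hb | hb | hb <;> rw [ha, hb] <;>
      simp [mul_assoc, hxx, hyy, hxxy, hyxy, hc.symm]
  inv_mem' := by
    have hxi : x⁻¹ = x := by rw [inv_eq_iff_mul_eq_one, ← pow_two, hx]
    have hyi : y⁻¹ = y := by rw [inv_eq_iff_mul_eq_one, ← pow_two, hy]
    intro a ha
    simp only [Set.mem_insert_iff, Set.mem_singleton_iff] at ha ⊢
    rcases ha with ha | ha | ha | ha <;> rw [ha] <;> simp [hxi, hyi, hc.symm]

theorem card_fourGroup_le (x y : G) (hx : x ^ 2 = 1) (hy : y ^ 2 = 1) (hc : x * y = y * x) :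
    Nat.card (fourGroup x y hx hy hc) ≤ 4 := by
  have h : ({1, x, y, x * y} : Set G).ncard ≤ 4 := by
    refine le_trans (Set.ncard_insert_le _ _) (Nat.succ_le_succ ?_)
    refine le_trans (Set.ncard_insert_le _ _) (Nat.succ_le_succ ?_)
    refine le_trans (Set.ncard_insert_le _ _) (Nat.succ_le_succ ?_)
    simp
  rw [← Nat.card_coe_set_eq] at h
  exact h

theorem mem_fourGroup {x y a : G} {hx : x ^ 2 = 1} {hy : y ^ 2 = 1} {hc : x * y = y * x} :
    a ∈ fourGroup x y hx hy hc ↔ a = 1 ∨ a = x ∨ a = y ∨ a = x * y := Iff.rfl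

variable [Finite G]

theorem card_eq_four_of (hG : IsPGroup 2 G) {K : Subgroup G} (h1 : 2 < Nat.card K)
    (h2 : Nat.card K ≤ 4) : Nat.card K = 4 := by
  obtain ⟨n, hn⟩ := exists_card_eq_two_pow hG K
  rw [hn] at h1 h2 ⊢
  exact two_pow_eq_four h1 h2

theorem card_mul_two_le_of_lt {K L : Subgroup G} (hG : IsPGroup 2 G) (h : K < L) :
    2 * Nat.card K ≤ Nat.card L := by
  obtain ⟨i, hi⟩ := exists_card_eq_two_pow hG K
  obtain ⟨j, hj⟩ := exists_card_eq_two_pow hG L
  have hlt : Nat.card K < Nat.card L :=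
    lt_of_le_of_ne (Subgroup.card_le_of_le h.le) fun e => h.ne (Subgroup.eq_of_le_of_card_ge h.le e.ge)
  rw [hi, hj] at hlt ⊢
  rw [← pow_succ']
  exact Nat.pow_le_pow_right two_pos ((Nat.pow_lt_pow_iff_right one_lt_two).1 hlt)

/-- `|C(b mod W)| * |W| ≤ |C(b)| * |V|` when `V` holds the commutators with `b` lying in `W`. -/
theorem card_centralizer_quotient_le (W : Subgroup G) [W.Normal] (b : G) (V : Subgroup G)
    (hV : ∀ x : G, ⁅x, b⁆ ∈ W → ⁅x, b⁆ ∈ V) :
    Nat.card (centralizer ({QuotientGroup.mk' W b} : Set (G ⧸ W))) * Nat.card W ≤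
      Nat.card (centralizer ({b} : Set G)) * Nat.card V := by
  set π := QuotientGroup.mk' W
  set P := (centralizer ({π b} : Set (G ⧸ W))).comap π with hP
  have hcard : Nat.card P = Nat.card (centralizer ({π b} : Set (G ⧸ W))) * Nat.card W := by
    rw [card_eq_map_mul_inf_ker π P,
      show P.map π = _ from Subgroup.map_comap_eq_self_of_surjective (QuotientGroup.mk'_surjective W) _,
      QuotientGroup.ker_mk', inf_eq_right.2 (fun w hw => by
        rw [hP, mem_comap, show π w = 1 from (QuotientGroup.eq_one_iff w).2 hw]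
        exact one_mem _)]
  have h := card_commutator_mem_le ⊤ b V (P : Set G) (Set.subset_univ _) fun x hx => hV x (by
    have h' : π x * π b = π b * π x := mem_centralizer_singleton_iff.1 hx
    rw [← commutatorElement_eq_one_iff_mul_comm, ← map_commutatorElement] at h'
    exact (QuotientGroup.eq_one_iff _).1 h')
  rw [top_inf_eq] at h
  rw [← hcard]
  exact h

/-- The same bound inside a normal subgroup `T` containing `b` and the subgroup `W`. -/
theorem card_le_in_subgroup (hG : IsPGroup 2 G) (T W V : Subgroup G) (hWT : W ≤ T)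
    (hTW : T ≤ normalizer (W : Set G)) {b : G} (hbT : b ∈ T) (hb : b ^ 2 = 1)
    (hC : Nat.card ↥(T ⊓ centralizer ({b} : Set G)) ≤ 8) (hW4 : Nat.card W ≤ 4)
    (hV : ∀ x ∈ T, ⁅x, b⁆ ∈ W → ⁅x, b⁆ ∈ V) (hVW : V < W)
    (H N : Subgroup G) (hH : H ≤ T) (hNH : N ≤ H) (hsq : ∀ h ∈ H, h ^ 2 ∈ N) :
    Nat.card H ≤ 16 * Nat.card N := by
  haveI : (W.subgroupOf T).Normal := (normal_subgroupOf_iff_le_normalizer hWT).2 hTW
  let b' : T := ⟨b, hbT⟩
  let π := QuotientGroup.mk' (W.subgroupOf T)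
  have hc : ∀ L : Subgroup G, L ≤ T → Nat.card (L.subgroupOf T) = Nat.card L := fun L hL =>
    Nat.card_congr (Subgroup.subgroupOfEquivOfLe hL).toEquiv
  have hCT : Nat.card (centralizer ({b'} : Set T)) ≤ 8 := by
    refine le_trans (Nat.card_le_card_of_injective
      (fun x : centralizer ({b'} : Set T) => (⟨((x : T) : G), Subgroup.mem_inf.2 ⟨x.1.2,
        mem_centralizer_singleton_iff.2 (congrArg Subtype.val (mem_centralizer_singleton_iff.1 x.2))⟩⟩ :
          ↥(T ⊓ centralizer ({b} : Set G)))) ?_) hC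
    intro x y h
    exact Subtype.ext (Subtype.ext (Subtype.mk.inj h))
  have hquot := card_centralizer_quotient_le (W.subgroupOf T) b' (V.subgroupOf T) fun x hx =>
    hV x x.2 hx
  have hVT : V ≤ T := hVW.le.trans hWT
  rw [hc W hWT, hc V hVT] at hquot
  have h2 := card_mul_two_le_of_lt hG hVW
  have hC4 : Nat.card (centralizer ({π b'} : Set (T ⧸ W.subgroupOf T))) ≤ 4 := by
    refine Nat.le_of_mul_le_mul_right (c := Nat.card W) (hquot.trans ?_) Nat.card_pos
    calc Nat.card (centralizer ({b'} : Set T)) * Nat.card V ≤ 8 * Nat.card V :=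
          Nat.mul_le_mul_right _ hCT
      _ ≤ 4 * Nat.card W := by omega
  have hT2 : IsPGroup 2 T := hG.to_subgroup T
  have hq := card_le_of_small_centralizer (hT2.to_quotient (W.subgroupOf T)) (x := π b')
    (by rw [← map_pow, show b' ^ 2 = 1 from Subtype.ext hb, map_one]) hC4
    ((H.subgroupOf T).map π) ((N.subgroupOf T).map π) (by
      rintro _ ⟨h, hh, rfl⟩
      exact ⟨h ^ 2, hsq _ hh, map_pow π h 2⟩)
  have hw : Nat.card ↥(H.subgroupOf T ⊓ W.subgroupOf T) ≤ 4 * Nat.card ↥(N.subgroupOf T ⊓ W.subgroupOf T) :=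
    card_le_mul_of_le ((Subgroup.card_le_of_le inf_le_right).trans (by rw [hc W hWT]; exact hW4))
  have := card_le_of_quotient (W.subgroupOf T) 4 4 _ _ hq hw
  rwa [hc H hH, hc N (hNH.trans hH)] at this

variable {B : Subgroup G} [B.Normal]

/-- In the centralizer of `B`, of index at most 2 over `B`, everything commutes. -/
theorem commute_of_index_two {Q : Subgroup G} (hBQ : B ≤ Q) (hBc : ∀ a ∈ B, ∀ x ∈ Q, a * x = x * a)
    (hQ : ∀ x ∈ Q, ∀ y ∈ Q, x ∉ B → y ∉ B → x⁻¹ * y ∈ B) {x y : G} (hx : x ∈ Q) (hy : y ∈ Q) :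
    x * y = y * x := by
  by_cases hxB : x ∈ B
  · exact hBc x hxB y hy
  by_cases hyB : y ∈ B
  · exact (hBc y hyB x hx).symm
  have h := hBc _ (hQ x hx y hy hxB hyB) x hx
  calc x * y = x * (x * (x⁻¹ * y)) := by group
    _ = x * ((x⁻¹ * y) * x) := by rw [h]
    _ = y * x := by group

/-- Above `B`, inside a normal subgroup `Q` of order more than 16: two central steps. -/
theorem exists_tower (hG : IsPGroup 2 G) (hB8 : Nat.card B = 8) (Q : Subgroup G) [Q.Normal]
    (hBQ : B ≤ Q) (hQ : 16 < Nat.card Q) :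
    ∃ u r : G, u ∈ Q ∧ u ∉ B ∧ u ^ 2 ∈ B ∧ (∀ g : G, ⁅u, g⁆ ∈ B) ∧ r ∈ Q ∧
      (∀ g : G, ⁅r, g⁆ ∈ B ∨ u⁻¹ * ⁅r, g⁆ ∈ B) ∧
      ∀ b : G, Nat.card {x : G | x ∈ Q ∧ ⁅x, b⁆ ∈ B} ≤ 16 → ⁅r, b⁆ ∉ B := by
  obtain ⟨u, huQ, huB, hu2, huc⟩ := exists_central_involution_step hG Q B fun h => by
    have := Subgroup.card_le_of_le h
    omega
  set π := QuotientGroup.mk' B with hπ
  have hπu2 : π u ^ 2 = 1 := by rw [← map_pow]; exact (QuotientGroup.eq_one_iff _).2 hu2
  have hπu1 : π u ≠ 1 := fun h => huB ((QuotientGroup.eq_one_iff _).1 h)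
  haveI hzn : (zpowers (π u)).Normal := ⟨fun a ha g => by
    obtain ⟨g', rfl⟩ := QuotientGroup.mk'_surjective B g
    rcases (mem_zpowers_of_sq_eq_one hπu2).1 ha with rfl | rfl
    · rw [mul_one, mul_inv_cancel]; exact one_mem _
    · have h : π u * π g' = π g' * π u := by
        rw [← commutatorElement_eq_one_iff_mul_comm, ← map_commutatorElement]
        exact (QuotientGroup.eq_one_iff _).2 (huc g')
      rw [show (QuotientGroup.mk' B) g' = π g' from rfl, ← h, mul_inv_cancel_right]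
      exact mem_zpowers _⟩
  set B1 := (zpowers (π u)).comap π with hB1
  have hB1mem : ∀ x, x ∈ B1 ↔ x ∈ B ∨ u⁻¹ * x ∈ B := fun x => by
    rw [hB1, mem_comap, mem_zpowers_of_sq_eq_one hπu2]
    refine or_congr (QuotientGroup.eq_one_iff x) ?_
    rw [eq_comm]
    exact QuotientGroup.eq
  have hB1c : Nat.card B1 = 16 := by
    rw [card_eq_map_mul_inf_ker π B1,
      show B1.map π = zpowers (π u) from Subgroup.map_comap_eq_self_of_surjective (QuotientGroup.mk'_surjective B) _,
      show π.ker = B from QuotientGroup.ker_mk' B, inf_eq_right.2 (fun a ha => (hB1mem a).2 (Or.inl ha)),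
      Nat.card_zpowers, orderOf_eq_prime hπu2 hπu1, hB8]
  have hB1Q : B1 ≤ Q := fun x hx => by
    rcases (hB1mem x).1 hx with h | h
    · exact hBQ h
    · simpa using mul_mem huQ (hBQ h)
  haveI : B1.Normal := Subgroup.Normal.comap hzn π
  obtain ⟨r, hrQ, hrB1, -, hrc⟩ := exists_central_involution_step hG Q B1 fun h => by
    have := Subgroup.card_le_of_le h
    omega
  refine ⟨u, r, huQ, huB, hu2, huc, hrQ, fun g => (hB1mem _).1 (hrc g), fun b hb hrb => hrB1 ?_⟩
  have hsub : (B1 : Set G) ⊆ {x : G | x ∈ Q ∧ ⁅x, b⁆ ∈ B} := fun x hx => by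
    refine ⟨hB1Q hx, ?_⟩
    rw [← QuotientGroup.eq_one_iff (N := B)]
    show π ⁅x, b⁆ = 1
    rw [map_commutatorElement, commutatorElement_eq_one_iff_mul_comm]
    have h : π u * π b = π b * π u := by
      rw [← commutatorElement_eq_one_iff_mul_comm, ← map_commutatorElement]
      exact (QuotientGroup.eq_one_iff _).2 (huc b)
    rcases (mem_zpowers_of_sq_eq_one hπu2).1 (show π x ∈ zpowers (π u) from hx) with h' | h' <;> rw [h']
    · rw [one_mul, mul_one]
    · exact h
  have hle : ({x : G | x ∈ Q ∧ ⁅x, b⁆ ∈ B} : Set G).ncard ≤ (B1 : Set G).ncard := by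
    have hb1 : (B1 : Set G).ncard = 16 := by rw [← Nat.card_coe_set_eq]; exact hB1c
    rw [hb1, ← Nat.card_coe_set_eq]
    exact hb
  have heq := Set.eq_of_subset_of_ncard_le hsub hle (Set.toFinite _)
  show r ∈ (B1 : Set G)
  rw [heq]; exact ⟨hrQ, hrb⟩

section Main

variable (hG : IsPGroup 2 G) {A : Subgroup G} (hA2 : ∀ a ∈ A, a ^ 2 = 1) (hA8 : Nat.card A = 8)
  (hC : centralizer (A : Set G) = A) (hB2 : ∀ a ∈ B, a ^ 2 = 1) (hB8 : Nat.card B = 8)
  (hBc : B ≤ centralizer (B : Set G))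
  {z : G} (hzB : z ∈ B) (hz1 : z ≠ 1) (hzc : ∀ g : G, g * z * g⁻¹ = z)

include hG hA2 hA8 hC hB2 hB8 hBc hzB hz1 hzc

/-- The case `|A ∩ B| = 4`. -/
theorem bound_inter_four {b : G} (hbA : b ∈ A) (hbQ : b ∉ centralizer (B : Set G))
    (hV : 4 ≤ Nat.card ↥(A ⊓ B)) (H N : Subgroup G) (hNH : N ≤ H) (hsq : ∀ h ∈ H, h ^ 2 ∈ N) :
    Nat.card H ≤ 16 * Nat.card N := by
  classical
  set Q := centralizer (B : Set G) with hQdef
  haveI : Q.Normal := inferInstanceAs (centralizer (B : Set G)).Normal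
  have hb2 : b ^ 2 = 1 := hA2 b hbA
  have hcA : ∀ a ∈ A, ∀ a' ∈ A, a * a' = a' * a := fun a ha a' ha' =>
    mem_centralizer_iff.1 (hC.symm ▸ ha' : a' ∈ centralizer (A : Set G)) a ha
  have hBQ : ∀ a ∈ B, ∀ x ∈ Q, a * x = x * a := fun a ha x hx => mem_centralizer_iff.1 hx a ha
  set V := A ⊓ B with hVdef
  have hbV : b ∉ V := fun h => hbQ (hBc h.2)
  -- `C_B(b) = V`, of order 4
  have hVlt : V < B ⊓ centralizer ({b} : Set G) ∨ V = B ⊓ centralizer ({b} : Set G) :=
    lt_or_eq_of_le (le_inf inf_le_right fun a ha =>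
      mem_centralizer_singleton_iff.2 (hcA a ha.1 b hbA))
  have hCBlt : B ⊓ centralizer ({b} : Set G) < B := lt_of_le_of_ne inf_le_left fun h => hbQ
    (mem_centralizer_iff.2 fun a ha => mem_centralizer_singleton_iff.1 ((h.symm ▸ ha : a ∈ B ⊓ _)).2)
  have hCB2 := card_mul_two_le_of_lt hG hCBlt
  rw [hB8] at hCB2
  have hCBV : B ⊓ centralizer ({b} : Set G) = V := by
    rcases hVlt with h | h
    · have := card_mul_two_le_of_lt hG h
      omega
    · exact h.symm
  have hV4 : Nat.card V = 4 := by rw [hCBV] at hCB2; omega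
  have hfixV : ∀ a ∈ B, a * b = b * a → a ∈ V := fun a ha h =>
    hCBV ▸ ⟨ha, mem_centralizer_singleton_iff.2 h⟩
  have hVb : ∀ a ∈ V, a * b = b * a := fun a ha => hcA a ha.1 b hbA
  -- `V` and `b` generate `A`
  have hgen : ∀ x : G, x * b = b * x → (∀ v ∈ V, v * x = x * v) → x ∈ A := by
    intro x hxb hxV
    have hlt : V < A ⊓ centralizer ({x} : Set G) := by
      refine lt_of_le_of_ne (le_inf inf_le_left fun v hv =>
        mem_centralizer_singleton_iff.2 (hxV v hv)) fun h => hbV ?_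
      rw [h]; exact ⟨hbA, mem_centralizer_singleton_iff.2 hxb.symm⟩
    have h8 := card_mul_two_le_of_lt hG hlt
    have hAeq : A ⊓ centralizer ({x} : Set G) = A := Subgroup.eq_of_le_of_card_ge inf_le_left (by omega)
    rw [← hC, mem_centralizer_iff]
    intro a ha
    exact mem_centralizer_singleton_iff.1 ((hAeq.symm ▸ ha : a ∈ A ⊓ _)).2
  have hCQ : ∀ x ∈ Q, x * b = b * x → x ∈ V := by
    intro x hx hxb
    have hxA := hgen x hxb fun v hv => hBQ v hv.2 x hx
    by_contra hxV
    have hlt : V < A ⊓ Q := lt_of_le_of_ne (le_inf inf_le_left (inf_le_right.trans hBc))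
      fun h => hxV (h.symm ▸ ⟨hxA, hx⟩)
    have h8 := card_mul_two_le_of_lt hG hlt
    have hAeq : A ⊓ Q = A := Subgroup.eq_of_le_of_card_ge inf_le_left (by omega)
    exact hbQ ((hAeq.symm ▸ hbA : b ∈ A ⊓ Q)).2
  have hval : ∀ x : G, ⁅x, b⁆ ∈ B → ⁅x, b⁆ ∈ V := fun x hx =>
    hfixV _ hx (commutator_fixed hb2 (hB2 _ hx)).symm
  -- subgroups of `C(B)` via `C(B)⟨b⟩`
  have hT1 : H ≤ Q → Nat.card H ≤ 16 * Nat.card N := by
    intro hHQ
    obtain ⟨q, hqB, hqV⟩ := SetLike.exists_of_lt (lt_of_le_of_ne (inf_le_right : V ≤ B)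
      fun h => by have h' : Nat.card V = Nat.card B := congrArg (fun K : Subgroup G => Nat.card K) h; omega)
    set ζ := ⁅q, b⁆ with hζ
    have hζB : ζ ∈ B := by
      rw [hζ, commutatorElement_def, show q * b * q⁻¹ * b⁻¹ = q * (b * q⁻¹ * b⁻¹) by group]
      exact mul_mem hqB (‹B.Normal›.conj_mem _ (inv_mem hqB) b)
    have hζV := hval q hζB
    have hζ2 := hB2 ζ hζB
    have hq2 := hB2 q hqB
    have hζq : ζ * q = q * ζ := hBQ ζ hζB q (hBc hqB)
    set W := fourGroup ζ q hζ2 hq2 hζq with hWdef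
    have hWB : W ≤ B := by
      intro a ha
      rcases mem_fourGroup.1 ha with rfl | rfl | rfl | rfl
      exacts [one_mem _, hζB, hqB, mul_mem hζB hqB]
    set T := Q ⊔ zpowers b with hT
    have hmemT : ∀ t ∈ T, ∃ y ∈ Q, t = y ∨ t = y * b := by
      intro t ht
      rw [hT, Subgroup.mem_sup_of_normal_left] at ht
      obtain ⟨y, hy, w, hw, rfl⟩ := ht
      refine ⟨y, hy, ?_⟩
      rcases (mem_zpowers_of_sq_eq_one hb2).1 hw with rfl | rfl
      · exact Or.inl (mul_one y)
      · exact Or.inr rfl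
    refine card_le_in_subgroup hG T W (W ⊓ V) ((hWB.trans hBc).trans le_sup_left) ?_
      (mem_sup_right (mem_zpowers b)) hb2 ?_ (card_fourGroup_le _ _ _ _ _)
      (fun x _ h => ⟨h, hval x (hWB h)⟩)
      (lt_of_le_of_ne inf_le_left fun h => hqV
        ((h.symm ▸ (mem_fourGroup.2 (Or.inr (Or.inr (Or.inl rfl))) : q ∈ W) : q ∈ W ⊓ V)).2)
      H N (hHQ.trans le_sup_left) hNH hsq
    · refine sup_le ?_ (zpowers_le.2 ?_)
      · intro x hx
        rw [Subgroup.mem_normalizer_iff]
        intro a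
        constructor
        · intro ha
          rw [← hBQ a (hWB ha) x hx, mul_inv_cancel_right]; exact ha
        · intro ha
          have h1 := hBQ _ (hWB ha) x hx
          have h2 : x * a * x⁻¹ = a := by
            calc x * a * x⁻¹ = x⁻¹ * (x * (x * a * x⁻¹)) := by group
              _ = x⁻¹ * ((x * a * x⁻¹) * x) := by rw [← h1]
              _ = a := by group
          rwa [h2] at ha
      · have hbi : b⁻¹ = b := by rw [inv_eq_iff_mul_eq_one, ← pow_two, hb2]
        have hfwd : ∀ a ∈ W, b * a * b⁻¹ ∈ W := by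
          have hbζ : b * ζ * b⁻¹ = ζ := by rw [← hVb ζ hζV, mul_inv_cancel_right]
          have hbq : b * q * b⁻¹ = ζ * q := by
            have hqi : q⁻¹ = q := by rw [inv_eq_iff_mul_eq_one, ← pow_two, hq2]
            calc b * q * b⁻¹ = q⁻¹ * (q * b * q⁻¹ * b⁻¹) := by rw [hqi]; nth_rewrite 2 [← hqi]; group
              _ = ζ * q := by rw [hqi, hζq, hζ, commutatorElement_def, hqi]
          intro a ha
          rcases mem_fourGroup.1 ha with rfl | rfl | rfl | rfl
          · rw [mul_one, mul_inv_cancel]; exact one_mem _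
          · rw [hbζ]; exact mem_fourGroup.2 (Or.inr (Or.inl rfl))
          · rw [hbq]; exact mem_fourGroup.2 (Or.inr (Or.inr (Or.inr rfl)))
          · rw [← conj_mul, hbζ, hbq]
            exact mul_mem (mem_fourGroup.2 (Or.inr (Or.inl rfl))) (mem_fourGroup.2 (Or.inr (Or.inr (Or.inr rfl))))
        rw [Subgroup.mem_normalizer_iff]
        intro a
        refine ⟨hfwd a, fun ha => ?_⟩
        have h2 := hfwd _ ha
        rw [show b * (b * a * b⁻¹) * b⁻¹ = a by
          nth_rewrite 1 [← hbi]; nth_rewrite 3 [← hbi]; group] at h2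
        exact h2
    · refine le_trans (Subgroup.card_le_of_le ?_) hA8.le
      rintro t ⟨ht, htb⟩
      have htb' := mem_centralizer_singleton_iff.1 htb
      obtain ⟨y, hy, rfl | rfl⟩ := hmemT t ht
      · exact (hCQ t hy htb').1
      · have hyb : y * b = b * y := mul_right_cancel (htb'.trans (by group))
        exact mul_mem (hCQ y hy hyb).1 hbA
  set π := QuotientGroup.mk' B with hπ
  by_cases hCb : Nat.card (centralizer ({b} : Set G)) ≤ 8
  · -- the quotient by `B` has an involution with small centralizer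
    have hq := card_centralizer_quotient_le B b V hval
    rw [hB8, hV4] at hq
    have hC4 : Nat.card (centralizer ({π b} : Set (G ⧸ B))) ≤ 4 := by
      rw [hπ]; omega
    by_cases hfull : 4 * Nat.card ↥(N ⊓ B) < Nat.card ↥(H ⊓ B)
    · apply hT1
      obtain ⟨i, hi⟩ := exists_card_eq_two_pow hG (H ⊓ B)
      have hD8 : Nat.card ↥(H ⊓ B) ≤ 8 := hB8 ▸ Subgroup.card_le_of_le inf_le_right
      have hM1 : Nat.card ↥(N ⊓ B) = 1 := by
        have := Nat.card_pos (α := ↥(N ⊓ B))
        omega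
      have hD' : H ⊓ B = B := Subgroup.eq_of_le_of_card_ge inf_le_right (by
        rw [hB8, hi]
        rw [hi, hM1] at hfull
        have h2 : 2 < i := (Nat.pow_lt_pow_iff_right one_lt_two).1 (show 2 ^ 2 < 2 ^ i by omega)
        calc 8 = 2 ^ 3 := by norm_num
          _ ≤ 2 ^ i := Nat.pow_le_pow_right two_pos h2)
      intro h hh
      rw [hQdef, mem_centralizer_iff]
      intro a ha
      have ha' : a ∈ H := ((hD'.symm ▸ ha : a ∈ H ⊓ B)).1
      have h1 : ⁅a, h⁆ ∈ N ⊓ B := ⟨commutator_mem_of_sq_mem hsq ha' hh, by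
        rw [commutatorElement_def, show a * h * a⁻¹ * h⁻¹ = a * (h * a⁻¹ * h⁻¹) by group]
        exact B.mul_mem ha (‹B.Normal›.conj_mem _ (B.inv_mem ha) h)⟩
      rw [Subgroup.card_eq_one.1 hM1, mem_bot] at h1
      exact commutatorElement_eq_one_iff_mul_comm.1 h1
    push Not at hfull
    have hqb := card_le_of_small_centralizer (hG.to_quotient B) (x := π b)
      (by rw [← map_pow, hb2, map_one]) hC4 (H.map π) (N.map π) (by
        rintro _ ⟨h, hh, rfl⟩
        exact ⟨h ^ 2, hsq h hh, map_pow π h 2⟩)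
    exact card_le_of_quotient B 4 4 H N hqb hfull
  push Not at hCb
  -- an element `c` centralizing `b` and moving `V`
  obtain ⟨c, hcb, hcA'⟩ : ∃ c, c * b = b * c ∧ c ∉ A := by
    by_contra! h
    have : centralizer ({b} : Set G) ≤ A := fun x hx => h x (mem_centralizer_singleton_iff.1 hx)
    have := Subgroup.card_le_of_le this
    omega
  have hz2 := hB2 z hzB
  have hzA : z ∈ A := by
    rw [← hC, mem_centralizer_iff]
    intro a _
    exact mul_inv_eq_iff_eq_mul.1 (hzc a)
  have hzV : z ∈ V := ⟨hzA, hzB⟩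
  have hzlt : zpowers z < V := lt_of_le_of_ne (zpowers_le.2 hzV) fun h => by
    rw [← h, Nat.card_zpowers, orderOf_eq_prime hz2 hz1] at hV4; omega
  have hVgen : ∀ v ∈ V, v ∉ zpowers z → ∀ x : G, x * v * x⁻¹ = v → ∀ w ∈ V, w * x = x * w := by
    intro v hv hvz x hxv w hw
    have hlt : zpowers z < V ⊓ centralizer ({x} : Set G) := lt_of_le_of_ne
      (le_inf hzlt.le (zpowers_le.2 (mem_centralizer_singleton_iff.2
        (mul_inv_eq_iff_eq_mul.1 (hzc x)).symm))) fun h => hvz (by
          rw [h]; exact ⟨hv, mem_centralizer_singleton_iff.2 (mul_inv_eq_iff_eq_mul.1 hxv).symm⟩)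
    have h4 := card_mul_two_le_of_lt hG hlt
    rw [Nat.card_zpowers, orderOf_eq_prime hz2 hz1] at h4
    have heq : V ⊓ centralizer ({x} : Set G) = V := Subgroup.eq_of_le_of_card_ge inf_le_left (by omega)
    exact mem_centralizer_singleton_iff.1 ((heq.symm ▸ hw : w ∈ V ⊓ _)).2
  have hmove : ∀ v ∈ V, v ∉ zpowers z → c * v * c⁻¹ ≠ v := fun v hv hvz h =>
    hcA' (hgen c hcb (hVgen v hv hvz c h))
  have hcfix : ∀ v ∈ V, c * v * c⁻¹ = v → v ∈ zpowers z := fun v hv h => by
    by_contra hvz; exact hmove v hv hvz h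
  have hcconj : ∀ x : G, c * ⁅x, b⁆ * c⁻¹ = ⁅c * x * c⁻¹, b⁆ := fun x => by
    have hb' : c * b * c⁻¹ = b := by rw [hcb, mul_inv_cancel_right]
    conv_rhs => rw [← hb']
    simp only [commutatorElement_def]; group
  have hidx : (V.subgroupOf B).index = 2 := by
    have h := (V.subgroupOf B).card_mul_index
    rw [Nat.card_congr (Subgroup.subgroupOfEquivOfLe (inf_le_right : V ≤ B)).toEquiv, hV4, hB8] at h
    omega
  have hvalB : ∀ a ∈ B, ⁅a, b⁆ ∈ zpowers z := by
    intro a ha
    by_cases haV : a ∈ V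
    · rw [commutatorElement_eq_one_iff_mul_comm.2 (hVb a haV)]; exact one_mem _
    have he : ⁅a, b⁆ ∈ B := by
      rw [commutatorElement_def, show a * b * a⁻¹ * b⁻¹ = a * (b * a⁻¹ * b⁻¹) by group]
      exact B.mul_mem ha (‹B.Normal›.conj_mem _ (B.inv_mem ha) b)
    refine hcfix _ (hval a he) ?_
    rw [hcconj]
    have haB' : c * a * c⁻¹ ∈ B := ‹B.Normal›.conj_mem a ha c
    have haV' : c * a * c⁻¹ ∉ V := fun h => haV (hfixV a ha (by
      have h' : c * (a * b) * c⁻¹ = c * (b * a) * c⁻¹ := by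
        rw [← conj_mul, ← conj_mul, hcb, mul_inv_cancel_right]
        exact hVb _ h
      exact mul_left_cancel (mul_right_cancel h')))
    have h1 : a⁻¹ * (c * a * c⁻¹) ∈ V :=
      (Subgroup.mul_mem_iff_of_index_two hidx (a := (⟨a, ha⟩ : B)⁻¹) (b := ⟨_, haB'⟩)).2
        (by rw [inv_mem_iff]; exact iff_of_false haV haV')
    have e : c * a * c⁻¹ = a * (a⁻¹ * (c * a * c⁻¹)) := by group
    rw [e]
    set v := a⁻¹ * (c * a * c⁻¹)
    have hv' := hVb v h1
    simp only [commutatorElement_def]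
    calc a * v * b * (a * v)⁻¹ * b⁻¹ = a * (v * b * v⁻¹) * a⁻¹ * b⁻¹ := by group
      _ = a * b * a⁻¹ * b⁻¹ := by rw [hv', mul_inv_cancel_right]
  -- the commutator of `u ∈ C(B) \ B` with `b`
  obtain ⟨q, hqB, hqV⟩ := SetLike.exists_of_lt (lt_of_le_of_ne (inf_le_right : V ≤ B)
    fun h => by have h' : Nat.card V = Nat.card B := congrArg (fun K : Subgroup G => Nat.card K) h; omega)
  have hqb : ⁅q, b⁆ = z := by
    rcases (mem_zpowers_of_sq_eq_one hz2).1 (hvalB q hqB) with h | h
    · exact absurd (hfixV q hqB (commutatorElement_eq_one_iff_mul_comm.1 h)) hqV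
    · exact h
  have hue : ∀ u ∈ Q, u ∉ B → ⁅u, b⁆ ∈ B → ⁅u, b⁆ ∈ V ∧ ⁅u, b⁆ ∉ zpowers z := by
    intro u hu huB he
    refine ⟨hval u he, fun h => ?_⟩
    rcases (mem_zpowers_of_sq_eq_one hz2).1 h with h | h
    · exact huB (hCQ u hu (commutatorElement_eq_one_iff_mul_comm.1 h)).2
    · have h1 : ⁅u * q, b⁆ = 1 := by
        have : ⁅u * q, b⁆ = u * ⁅q, b⁆ * u⁻¹ * ⁅u, b⁆ := by simp only [commutatorElement_def]; group
        rw [this, hqb, h, hzc, ← pow_two, hz2]
      have h2 := (hCQ _ (mul_mem hu (hBc hqB)) (commutatorElement_eq_one_iff_mul_comm.1 h1)).2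
      exact huB (by simpa using B.mul_mem h2 (B.inv_mem hqB))
  have hP16 : Nat.card {x : G | x ∈ Q ∧ ⁅x, b⁆ ∈ B} ≤ 16 := by
    refine (card_commutator_mem_le Q b V _ (fun x hx => hx.1) fun x hx => hval x hx.2).trans ?_
    have h : Nat.card ↥(Q ⊓ centralizer ({b} : Set G)) ≤ Nat.card V :=
      Subgroup.card_le_of_le fun x hx => hCQ x hx.1 (mem_centralizer_singleton_iff.1 hx.2)
    rw [hV4] at h ⊢
    omega
  have hQ16 : Nat.card Q ≤ 16 := by
    by_contra hbig
    push Not at hbig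
    obtain ⟨u, r, huQ, huB, hu2, huc, hrQ, hrc, hrb⟩ := exists_tower hG hB8 Q hBc hbig
    obtain ⟨heV, hez⟩ := hue u huQ huB (huc b)
    set e := ⁅u, b⁆ with he
    have heB := heV.2
    have hei : e⁻¹ = e := by rw [inv_eq_iff_mul_eq_one, ← pow_two, hB2 e heB]
    have hbu : b * u * b⁻¹ = e * u := by
      conv_rhs => rw [← hei, he, commutatorElement_def]
      group
    have heu : Commute e u := hBQ e heB u huQ
    have hu2V : u ^ 2 ∈ V := hfixV _ hu2 (by
      have h : b * u ^ 2 * b⁻¹ = u ^ 2 := by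
        rw [← conj_pow, hbu, heu.mul_pow, hB2 e heB, one_mul]
      exact (mul_inv_eq_iff_eq_mul.1 h).symm)
    have hu2z : u ^ 2 ∈ zpowers z := hcfix _ hu2V (by
      have hd : ⁅c, u⁆ ∈ B := by rw [← commutatorElement_inv]; exact inv_mem (huc c)
      have hcu : c * u * c⁻¹ = ⁅c, u⁆ * u := by rw [commutatorElement_def]; group
      rw [← conj_pow, hcu, Commute.mul_pow (hBQ _ hd u huQ), hB2 _ hd, one_mul])
    have hrb' : ⁅r, b⁆ ∉ B := hrb b hP16
    have ha : u⁻¹ * ⁅r, b⁆ ∈ B := (hrc b).resolve_left hrb'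
    set a := u⁻¹ * ⁅r, b⁆ with hadef
    set β := ⁅r, b⁆ with hβ
    have hβu : β = u * a := by rw [hadef]; group
    have hbb : b * b = 1 := by rw [← pow_two]; exact hb2
    have hββ : β * (b * β * b⁻¹) = 1 := by
      have h : β * (b * β * b⁻¹) = r * (b * b) * r⁻¹ * (b * b)⁻¹ := by
        rw [hβ, commutatorElement_def]; group
      rw [h, hbb]; group
    have haa : a * (b * a * b⁻¹) = ⁅a, b⁆ := by
      have hai : a⁻¹ = a := by rw [inv_eq_iff_mul_eq_one, ← pow_two, hB2 a ha]
      conv_rhs => rw [commutatorElement_def, hai]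
      group
    have heq : u ^ 2 * e * ⁅a, b⁆ = 1 := by
      rw [← hββ, hβu, ← conj_mul, hbu, ← haa]
      have h1 := hBQ a ha u huQ
      have h2 := hBQ a ha e (hBc heB)
      calc u ^ 2 * e * (a * (b * a * b⁻¹)) = u * (u * e * a) * (b * a * b⁻¹) := by rw [pow_two]; group
        _ = u * (a * (e * u)) * (b * a * b⁻¹) := by
          rw [← heu.eq, ← mul_assoc a e u, h2, mul_assoc e a u, h1, ← mul_assoc e u a]
        _ = u * a * (e * u * (b * a * b⁻¹)) := by group
    apply hez
    have he' : e = (u ^ 2)⁻¹ * ⁅a, b⁆⁻¹ := by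
      calc e = (u ^ 2)⁻¹ * (u ^ 2 * e * ⁅a, b⁆) * ⁅a, b⁆⁻¹ := by group
        _ = _ := by rw [heq, mul_one]
    rw [he']
    exact mul_mem (inv_mem hu2z) (inv_mem (hvalB a ha))
  -- the index of `B` in `C(B)` is at most 2
  have hQ2 : ∀ x ∈ Q, ∀ y ∈ Q, x ∉ B → y ∉ B → x⁻¹ * y ∈ B := by
    intro x hx y hy hxB hyB
    have h := (B.subgroupOf Q).card_mul_index
    rw [Nat.card_congr (Subgroup.subgroupOfEquivOfLe hBc).toEquiv, hB8] at h
    have hne : (B.subgroupOf Q).index ≠ 1 := fun h' => by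
      rw [Subgroup.index_eq_one, Subgroup.subgroupOf_eq_top] at h'
      exact hxB (h' hx)
    have hne0 : (B.subgroupOf Q).index ≠ 0 := Subgroup.index_ne_zero_of_finite
    have hidxQ : (B.subgroupOf Q).index = 2 := by omega
    exact (Subgroup.mul_mem_iff_of_index_two hidxQ (a := (⟨x, hx⟩ : Q)⁻¹) (b := ⟨y, hy⟩)).2
      (by rw [inv_mem_iff]; exact iff_of_false hxB hyB)
  refine card_le_of_centralizer_sixteen hG hB2 hB8 hBc hzB hz1 hzc hQ16 ?_ H N hNH hsq
  intro u hu huB h hhQ htriv huh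
  have hconjB : ∀ g : G, ⁅u, g⁆ ∈ B := fun g => by
    have h2 : g * u⁻¹ * g⁻¹ ∉ B := fun h' => huB (by
      have := ‹B.Normal›.conj_mem _ h' g⁻¹
      simpa [mul_assoc] using this)
    have h3 := hQ2 u⁻¹ (inv_mem hu) _ (‹Q.Normal›.conj_mem _ (inv_mem hu) g)
      (fun h' => huB (by simpa using inv_mem h')) h2
    rw [inv_inv] at h3
    rw [commutatorElement_def]
    simpa [mul_assoc] using h3
  obtain ⟨heV, hez⟩ := hue u hu huB (hconjB b)
  set e := ⁅u, b⁆ with he
  have hcommQ : ∀ x ∈ Q, ∀ y ∈ Q, x * y = y * x := fun x hx y hy =>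
    commute_of_index_two hBc hBQ hQ2 hx hy
  have hbtriv : ∀ a ∈ B, ⁅b, a⁆ ∈ zpowers z := fun a ha => by
    rw [← commutatorElement_inv]; exact inv_mem (hvalB a ha)
  by_cases hfix : ∀ v ∈ V, v * h = h * v
  · -- `h ∈ b C(B)`
    have hy : b⁻¹ * h ∈ Q := by
      rw [hQdef, mem_centralizer_iff]
      have hqh : ⁅h, q⁆ = z := by
        rcases (mem_zpowers_of_sq_eq_one hz2).1 (htriv q hqB) with h' | h'
        · refine absurd (mem_centralizer_iff.2 fun a ha => ?_) hhQ
          by_cases haV : a ∈ V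
          · exact hfix a haV
          · have h1 : q⁻¹ * a ∈ V :=
              (Subgroup.mul_mem_iff_of_index_two hidx (a := (⟨q, hqB⟩ : B)⁻¹) (b := ⟨a, ha⟩)).2
                (by rw [inv_mem_iff]; exact iff_of_false hqV haV)
            have hc1 : Commute h q := commutatorElement_eq_one_iff_mul_comm.1 h'
            have hc2 : Commute h (q⁻¹ * a) := (hfix _ h1).symm
            have := hc1.mul_right hc2
            rw [mul_inv_cancel_left] at this
            exact this.eq.symm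
        · exact h'
      have hqb' : ⁅b, q⁆ = z := by
        rw [← commutatorElement_inv, hqb, inv_eq_iff_mul_eq_one, ← pow_two, hz2]
      have heq : h * q * h⁻¹ = b * q * b⁻¹ := by
        have h1 := hqh; have h2 := hqb'
        rw [commutatorElement_def] at h1 h2
        calc h * q * h⁻¹ = (h * q * h⁻¹ * q⁻¹) * q := by group
          _ = (b * q * b⁻¹ * q⁻¹) * q := by rw [h1, h2]
          _ = b * q * b⁻¹ := by group
      have hcq : Commute (b⁻¹ * h) q := by
        show b⁻¹ * h * q = q * (b⁻¹ * h)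
        calc b⁻¹ * h * q = b⁻¹ * (h * q * h⁻¹) * h := by group
          _ = q * (b⁻¹ * h) := by rw [heq]; group
      have hcV : ∀ v ∈ V, Commute (b⁻¹ * h) v := fun v hv =>
        ((show Commute b v from (hVb v hv).symm).inv_left).mul_left (hfix v hv).symm
      intro a ha
      by_cases haV : a ∈ V
      · exact (hcV a haV).eq.symm
      · have h1 : q⁻¹ * a ∈ V :=
          (Subgroup.mul_mem_iff_of_index_two hidx (a := (⟨q, hqB⟩ : B)⁻¹) (b := ⟨a, ha⟩)).2
            (by rw [inv_mem_iff]; exact iff_of_false hqV haV)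
        have := hcq.mul_right (hcV _ h1)
        rw [mul_inv_cancel_left] at this
        exact this.eq.symm
    have h1 : ⁅u, h⁆ = e := by
      have hc := hcommQ u hu _ hy
      rw [he, commutatorElement_def, commutatorElement_def]
      calc u * h * u⁻¹ * h⁻¹ = u * b * (b⁻¹ * h * u⁻¹) * (b⁻¹ * h)⁻¹ * b⁻¹ := by group
        _ = u * b * (u⁻¹ * (b⁻¹ * h)) * (b⁻¹ * h)⁻¹ * b⁻¹ := by
          rw [show b⁻¹ * h * u⁻¹ = u⁻¹ * (b⁻¹ * h) from ((show Commute u (b⁻¹ * h) from hc).inv_left).eq.symm]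
        _ = u * b * u⁻¹ * b⁻¹ := by group
    exact hez (h1 ▸ huh)
  · -- `h` moves `e`
    push Not at hfix
    obtain ⟨v, hv, hvh⟩ := hfix
    have hmoveE : h * e * h⁻¹ ≠ e := fun h' => hvh (hVgen e heV hez h h' v hv)
    have hy : b⁻¹ * (h * b * h⁻¹) ∈ Q := by
      rw [hQdef, mem_centralizer_iff]
      intro a ha
      have hα := htriv a ha
      have hβ := hbtriv a ha
      set α := ⁅h, a⁆ with hαdef
      set β := ⁅b, a⁆ with hβdef
      have hcent : ∀ x ∈ zpowers z, ∀ g : G, g * x * g⁻¹ = x := fun x hx g => by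
        rcases (mem_zpowers_of_sq_eq_one hz2).1 hx with rfl | rfl
        · rw [mul_one, mul_inv_cancel]
        · exact hzc g
      have hαi : α⁻¹ = α := by
        rcases (mem_zpowers_of_sq_eq_one hz2).1 hα with h' | h' <;> rw [h']
        · exact inv_one
        · rw [inv_eq_iff_mul_eq_one, ← pow_two, hz2]
      have hhinv : h⁻¹ * a * h = α * a := by
        have h1 : h * (α * a) * h⁻¹ = a := by
          rw [← conj_mul, hcent α hα h, show h * a * h⁻¹ = α * a by
            rw [hαdef, commutatorElement_def]; group, ← mul_assoc]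
          nth_rewrite 1 [← hαi]
          rw [inv_mul_cancel, one_mul]
        nth_rewrite 1 [← h1]
        group
      have hb_conj : b * a * b⁻¹ = β * a := by rw [hβdef, commutatorElement_def]; group
      have hh_conj : h * a * h⁻¹ = α * a := by rw [hαdef, commutatorElement_def]; group
      have hαα : α * α = 1 := by nth_rewrite 1 [← hαi]; exact inv_mul_cancel α
      have hαβ : α * β = β * α := ((mul_inv_eq_iff_eq_mul).1 (hcent β hβ α))
      have hkey : h * b * h⁻¹ * a * (h * b * h⁻¹)⁻¹ = b * a * b⁻¹ := by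
        calc h * b * h⁻¹ * a * (h * b * h⁻¹)⁻¹ = h * (b * (h⁻¹ * a * h) * b⁻¹) * h⁻¹ := by group
          _ = α * (β * (α * a)) := by
            have e1 : b * (α * a) * b⁻¹ = α * (β * a) := by rw [← conj_mul, hcent α hα b, hb_conj]
            have e2 : h * (α * (β * a)) * h⁻¹ = α * (β * (α * a)) := by
              rw [← conj_mul, ← conj_mul, hcent α hα h, hcent β hβ h, hh_conj]
            rw [hhinv, e1, e2]
          _ = b * a * b⁻¹ := by
            rw [← mul_assoc β α a, ← hαβ, ← mul_assoc, ← mul_assoc, hαα, one_mul, hb_conj]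
      symm
      calc b⁻¹ * (h * b * h⁻¹) * a
          = b⁻¹ * (h * b * h⁻¹ * a * (h * b * h⁻¹)⁻¹) * (h * b * h⁻¹) := by group
        _ = a * (b⁻¹ * (h * b * h⁻¹)) := by rw [hkey]; group
    -- `⁅u, h⁆` is central, so conjugation by `h` fixes `e = ⁅u, b⁆`
    set d := ⁅u, h⁆ with hd
    have hdc : ∀ g : G, g * d * g⁻¹ = d := fun g => by
      rcases (mem_zpowers_of_sq_eq_one hz2).1 huh with h' | h' <;> rw [h']
      · rw [mul_one, mul_inv_cancel]
      · exact hzc g
    have hdcomm : ∀ g : G, g * d = d * g := fun g => mul_inv_eq_iff_eq_mul.1 (hdc g)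
    have hdi : ∀ g : G, g * d⁻¹ = d⁻¹ * g := fun g => (show Commute g d from hdcomm g).inv_right.eq
    have hhu : h * u * h⁻¹ = d⁻¹ * u := by rw [hd, commutatorElement_def]; group
    set y := b⁻¹ * (h * b * h⁻¹) with hydef
    have hyu := hcommQ y hy u hu
    have hhb : h * b * h⁻¹ = b * y := by rw [hydef]; group
    apply hmoveE
    calc h * e * h⁻¹
        = (h * u * h⁻¹) * (h * b * h⁻¹) * (h * u * h⁻¹)⁻¹ * (h * b * h⁻¹)⁻¹ := by
          rw [he, commutatorElement_def]; group
      _ = d⁻¹ * u * (b * y) * (d⁻¹ * u)⁻¹ * (b * y)⁻¹ := by rw [hhu, hhb]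
      _ = d⁻¹ * (u * b * (y * u⁻¹) * d) * (b * y)⁻¹ := by group
      _ = d⁻¹ * (d * (u * b * (u⁻¹ * y))) * (b * y)⁻¹ := by
          rw [hdcomm, ((show Commute y u from hyu).inv_right).eq]
      _ = e := by rw [he, commutatorElement_def]; group

/-- The case `|A ∩ B| = 2`. -/
theorem bound_inter_two {b : G} (hbA : b ∈ A) (hbQ : b ∉ centralizer (B : Set G))
    (hV : Nat.card ↥(A ⊓ B) < 4) (H N : Subgroup G) (hNH : N ≤ H) (hsq : ∀ h ∈ H, h ^ 2 ∈ N) :
    Nat.card H ≤ 16 * Nat.card N := by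
  classical
  set Q := centralizer (B : Set G) with hQdef
  haveI : Q.Normal := inferInstanceAs (centralizer (B : Set G)).Normal
  have hcA : ∀ a ∈ A, ∀ a' ∈ A, a * a' = a' * a := fun a ha a' ha' =>
    mem_centralizer_iff.1 (hC.symm ▸ ha' : a' ∈ centralizer (A : Set G)) a ha
  have hBQ : ∀ a ∈ B, ∀ x ∈ Q, a * x = x * a := fun a ha x hx => mem_centralizer_iff.1 hx a ha
  have hz2 := hB2 z hzB
  have hzc' : ∀ g : G, g * z = z * g := fun g => mul_inv_eq_iff_eq_mul.1 (hzc g)
  have hzA : z ∈ A := by rw [← hC, mem_centralizer_iff]; intro a _; exact hzc' a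
  have hzcard : Nat.card (zpowers z) = 2 := by rw [Nat.card_zpowers, orderOf_eq_prime hz2 hz1]
  have hAB : A ⊓ B = zpowers z := by
    refine (Subgroup.eq_of_le_of_card_ge (zpowers_le.2 (Subgroup.mem_inf.2 ⟨hzA, hzB⟩)) ?_).symm
    rw [hzcard]
    obtain ⟨i, hi⟩ := exists_card_eq_two_pow hG (A ⊓ B)
    rw [hi] at hV ⊢
    have : i < 2 := (Nat.pow_lt_pow_iff_right one_lt_two).1 (show 2 ^ i < 2 ^ 2 by omega)
    calc 2 ^ i ≤ 2 ^ 1 := Nat.pow_le_pow_right two_pos (by omega)
      _ = 2 := by norm_num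
  -- for `a ∈ A` outside `C(B)`, the fixed plane
  have hVB : ∀ a ∈ A, a ∉ Q → Nat.card ↥(B ⊓ centralizer ({a} : Set G)) = 4 := by
    intro a ha haQ
    have hlt : B ⊓ centralizer ({a} : Set G) < B := lt_of_le_of_ne inf_le_left fun h => haQ
      (mem_centralizer_iff.2 fun x hx => mem_centralizer_singleton_iff.1 ((h.symm ▸ hx : x ∈ B ⊓ _)).2)
    have h2 := card_mul_two_le_of_lt hG hlt
    have h := card_commutator_mem_le B a (B ⊓ centralizer ({a} : Set G)) (B : Set G) subset_rfl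
      fun x hx => by
        have he : ⁅x, a⁆ ∈ B := by
          rw [commutatorElement_def, show x * a * x⁻¹ * a⁻¹ = x * (a * x⁻¹ * a⁻¹) by group]
          exact B.mul_mem hx (‹B.Normal›.conj_mem _ (B.inv_mem hx) a)
        exact ⟨he, mem_centralizer_singleton_iff.2 (commutator_fixed (hA2 a ha) (hB2 _ he)).symm⟩
    refine card_eq_four_of hG ?_ (by omega)
    have h8 : Nat.card (B : Set G) = 8 := hB8
    rw [h8] at h
    by_contra hle
    push Not at hle
    have := Nat.mul_le_mul hle hle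
    omega
  have hA0 : A ⊓ Q = zpowers z := by
    refine (Subgroup.eq_of_le_of_card_ge (zpowers_le.2 (Subgroup.mem_inf.2 ⟨hzA, hBc hzB⟩)) ?_).symm
    rw [hzcard]
    by_contra hgt
    push Not at hgt
    have hlt : A ⊓ Q < A := lt_of_le_of_ne inf_le_left fun h =>
      hbQ ((h.symm ▸ hbA : b ∈ A ⊓ Q)).2
    have hle : B ⊓ centralizer ({b} : Set G) ≤ A ⊓ B := by
      intro x hx
      suffices hxA : x ∈ A from ⟨hxA, hx.1⟩
      have hlt' : A ⊓ Q < A ⊓ centralizer ({x} : Set G) := by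
        refine lt_of_le_of_ne (le_inf inf_le_left fun a ha => mem_centralizer_singleton_iff.2
          (hBQ x hx.1 a ha.2).symm) fun h => ?_
        exact hbQ ((h.symm ▸ ⟨hbA, mem_centralizer_singleton_iff.2
          (mem_centralizer_singleton_iff.1 hx.2).symm⟩ : b ∈ A ⊓ Q)).2
      have h1 := card_mul_two_le_of_lt hG hlt'
      obtain ⟨i, hi⟩ := exists_card_eq_two_pow hG (A ⊓ Q)
      rw [hi] at hgt h1
      have h4 : 1 < i := (Nat.pow_lt_pow_iff_right one_lt_two).1 (show 2 ^ 1 < 2 ^ i by omega)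
      have h5 : 4 ≤ 2 ^ i := Nat.pow_le_pow_right two_pos (show 2 ≤ i by omega)
      have heq : A ⊓ centralizer ({x} : Set G) = A := Subgroup.eq_of_le_of_card_ge inf_le_left (by omega)
      rw [← hC, mem_centralizer_iff]
      intro a ha
      exact mem_centralizer_singleton_iff.1 ((heq.symm ▸ ha : a ∈ A ⊓ _)).2
    have := Subgroup.card_le_of_le hle
    rw [hVB b hbA hbQ] at this
    omega
  -- commutators of `A` with `B` lie in `⟨z⟩`
  have hvalB : ∀ a ∈ A, ∀ x ∈ B, ⁅x, a⁆ ∈ zpowers z := by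
    intro a ha x hx
    have he : ⁅x, a⁆ ∈ B := by
      rw [commutatorElement_def, show x * a * x⁻¹ * a⁻¹ = x * (a * x⁻¹ * a⁻¹) by group]
      exact B.mul_mem hx (‹B.Normal›.conj_mem _ (B.inv_mem hx) a)
    by_cases haQ : a ∈ Q
    · rw [commutatorElement_eq_one_iff_mul_comm.2 (hBQ x hx a haQ)]; exact one_mem _
    rw [← hAB]
    suffices hA' : ⁅x, a⁆ ∈ A from ⟨hA', he⟩
    rw [← hC, mem_centralizer_iff]
    intro a' ha'
    set V := B ⊓ centralizer ({a} : Set G)
    have hidx : (V.subgroupOf B).index = 2 := by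
      have h := (V.subgroupOf B).card_mul_index
      rw [Nat.card_congr (Subgroup.subgroupOfEquivOfLe (inf_le_left : V ≤ B)).toEquiv, hVB a ha haQ, hB8] at h
      omega
    have hconj : a' * ⁅x, a⁆ * a'⁻¹ = ⁅a' * x * a'⁻¹, a⁆ := by
      have h' : a' * a * a'⁻¹ = a := by rw [hcA a' ha' a ha, mul_inv_cancel_right]
      conv_rhs => rw [← h']
      simp only [commutatorElement_def]; group
    by_cases hxV : x ∈ V
    · have h1 : ⁅x, a⁆ = 1 := commutatorElement_eq_one_iff_mul_comm.2 (mem_centralizer_singleton_iff.1 hxV.2)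
      rw [h1, one_mul, mul_one]
    have hx' : a' * x * a'⁻¹ ∈ B := ‹B.Normal›.conj_mem x hx a'
    have hxV' : a' * x * a'⁻¹ ∉ V := fun h => hxV ⟨hx, mem_centralizer_singleton_iff.2 (by
      have h' : a' * (x * a) * a'⁻¹ = a' * (a * x) * a'⁻¹ := by
        rw [← conj_mul, ← conj_mul, hcA a' ha' a ha, mul_inv_cancel_right]
        exact mem_centralizer_singleton_iff.1 h.2
      exact mul_left_cancel (mul_right_cancel h'))⟩
    have h1 : x⁻¹ * (a' * x * a'⁻¹) ∈ V :=
      (Subgroup.mul_mem_iff_of_index_two hidx (a := (⟨x, hx⟩ : B)⁻¹) (b := ⟨_, hx'⟩)).2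
        (by rw [inv_mem_iff]; exact iff_of_false hxV hxV')
    refine mul_inv_eq_iff_eq_mul.1 ?_
    rw [hconj, show a' * x * a'⁻¹ = x * (x⁻¹ * (a' * x * a'⁻¹)) by group]
    set v := x⁻¹ * (a' * x * a'⁻¹)
    have hv' : v * a = a * v := mem_centralizer_singleton_iff.1 h1.2
    simp only [commutatorElement_def]
    calc x * v * a * (x * v)⁻¹ * a⁻¹ = x * (v * a * v⁻¹) * x⁻¹ * a⁻¹ := by group
      _ = x * a * x⁻¹ * a⁻¹ := by rw [hv', mul_inv_cancel_right]
  -- the centralizer in `C(B)` of an element of `A` outside it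
  have hCQ : ∀ a ∈ A, a ∉ Q → ∀ x ∈ Q, x * a = a * x → x ∈ B := by
    intro a ha haQ x hx hxa
    set V := B ⊓ centralizer ({a} : Set G) with hVdef
    set R := Q ⊓ centralizer ({a} : Set G) with hR
    have hxR : x ∈ R := ⟨hx, mem_centralizer_singleton_iff.2 hxa⟩
    have hVR : V ≤ R := inf_le_inf_right _ hBc
    set K := fourGroup z a hz2 (hA2 a ha) (hzc' a).symm with hK
    obtain ⟨a₂, ha₂, ha₂K⟩ : ∃ a₂ ∈ A, a₂ ∉ K := by
      by_contra! h
      have := Subgroup.card_le_of_le (show A ≤ K from h)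
      have := card_fourGroup_le z a hz2 (hA2 a ha) (hzc' a).symm
      rw [← hK] at this
      omega
    have hgen : ∀ y : G, y * a = a * y → y * a₂ = a₂ * y → y ∈ A := by
      intro y hya hya₂
      have hlt : K < A ⊓ centralizer ({y} : Set G) := by
        refine lt_of_le_of_ne (fun k hk => ?_) fun h => ha₂K ?_
        · rcases mem_fourGroup.1 hk with rfl | rfl | rfl | rfl
          · exact one_mem _
          · exact ⟨hzA, mem_centralizer_singleton_iff.2 (hzc' y).symm⟩
          · exact ⟨ha, mem_centralizer_singleton_iff.2 hya.symm⟩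
          · exact ⟨mul_mem hzA ha, mem_centralizer_singleton_iff.2
              ((show Commute z y from (hzc' y).symm).mul_left (show Commute a y from hya.symm)).eq⟩
        · rw [h]; exact ⟨ha₂, mem_centralizer_singleton_iff.2 hya₂.symm⟩
      have hz' : zpowers z < K := lt_of_le_of_ne (zpowers_le.2 (mem_fourGroup.2 (Or.inr (Or.inl rfl))))
        fun h => haQ (by
          have : a ∈ zpowers z := h ▸ mem_fourGroup.2 (Or.inr (Or.inr (Or.inl rfl)))
          rw [← hA0] at this; exact this.2)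
      have h4 := card_mul_two_le_of_lt hG hz'
      have h8 := card_mul_two_le_of_lt hG hlt
      rw [hzcard] at h4
      have heq : A ⊓ centralizer ({y} : Set G) = A := Subgroup.eq_of_le_of_card_ge inf_le_left (by omega)
      rw [← hC, mem_centralizer_iff]
      intro a' ha'
      exact mem_centralizer_singleton_iff.1 ((heq.symm ▸ ha' : a' ∈ A ⊓ _)).2
    by_contra hxB
    -- the elements of `R` moved by `a₂` inside `V`
    set P : Set G := {y | y ∈ R ∧ ⁅y, a₂⁆ ∈ V} with hP
    have hP4 : Nat.card P ≤ 4 := by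
      refine (card_commutator_mem_le R a₂ (zpowers z) P (fun y hy => hy.1) fun y hy => ?_).trans ?_
      · have h' := hy.2
        rw [← hAB]
        refine ⟨hgen _ (mem_centralizer_singleton_iff.1 h'.2) ?_, h'.1⟩
        exact (commutator_fixed (hA2 a₂ ha₂) (hB2 _ h'.1)).symm
      · have h : Nat.card ↥(R ⊓ centralizer ({a₂} : Set G)) ≤ 2 := by
          rw [← hzcard]
          refine Subgroup.card_le_of_le fun y hy => ?_
          rw [← hA0]
          exact ⟨hgen y (mem_centralizer_singleton_iff.1 hy.1.2) (mem_centralizer_singleton_iff.1 hy.2), hy.1.1⟩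
        rw [hzcard]; omega
    have hVP : (V : Set G) ⊆ P := fun v hv => by
      refine ⟨hVR hv, ?_⟩
      have h' := hvalB a₂ ha₂ v hv.1
      rw [← hAB] at h'
      exact ⟨h'.2, mem_centralizer_singleton_iff.2 (hcA _ h'.1 a ha)⟩
    have hPV : P ⊆ V := by
      have hle : P.ncard ≤ (V : Set G).ncard := by
        rw [← Nat.card_coe_set_eq, ← Nat.card_coe_set_eq]
        exact hP4.trans (hVB a ha haQ).ge
      exact (Set.eq_of_subset_of_ncard_le hVP hle (Set.toFinite _)).ge
    set U := R ⊔ zpowers a₂ with hU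
    have hRU : U ≤ normalizer (R : Set G) := sup_le Subgroup.le_normalizer (zpowers_le.2 (by
      rw [Subgroup.mem_normalizer_iff]
      intro y
      have hca : ∀ y : G, (a₂ * y * a₂⁻¹) * a = a * (a₂ * y * a₂⁻¹) ↔ y * a = a * y := fun y => by
        have h' : a₂ * a * a₂⁻¹ = a := by rw [hcA a₂ ha₂ a ha, mul_inv_cancel_right]
        conv_lhs => rw [← h', conj_mul, conj_mul]
        exact ⟨fun h => mul_left_cancel (mul_right_cancel h), fun h => by rw [h]⟩
      constructor
      · rintro ⟨h1, h2⟩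
        exact ⟨‹Q.Normal›.conj_mem y h1 a₂,
          mem_centralizer_singleton_iff.2 ((hca y).2 (mem_centralizer_singleton_iff.1 h2))⟩
      · rintro ⟨h1, h2⟩
        refine ⟨?_, mem_centralizer_singleton_iff.2 ((hca y).1 (mem_centralizer_singleton_iff.1 h2))⟩
        have h3 := ‹Q.Normal›.conj_mem _ h1 a₂⁻¹
        simpa [mul_assoc] using h3))
    have hVU : U ≤ normalizer (V : Set G) := sup_le
      (fun y hy => by
        rw [Subgroup.mem_normalizer_iff]
        intro v
        constructor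
        · intro hv
          have : y * v * y⁻¹ = v := by rw [← hBQ v hv.1 y hy.1, mul_inv_cancel_right]
          rwa [this]
        · intro hv
          have hv' : v = y * v * y⁻¹ := by
            calc v = y⁻¹ * ((y * v * y⁻¹) * y) := by group
              _ = y⁻¹ * (y * (y * v * y⁻¹)) := by rw [hBQ _ hv.1 y hy.1]
              _ = y * v * y⁻¹ := by group
          rwa [hv'])
      (zpowers_le.2 (by
        rw [Subgroup.mem_normalizer_iff]
        have h' : a₂ * a * a₂⁻¹ = a := by rw [hcA a₂ ha₂ a ha, mul_inv_cancel_right]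
        intro v
        constructor
        · rintro ⟨h1, h2⟩
          refine ⟨‹B.Normal›.conj_mem v h1 a₂, mem_centralizer_singleton_iff.2 ?_⟩
          conv_lhs => rw [← h', conj_mul, mem_centralizer_singleton_iff.1 h2, ← conj_mul, h']
        · rintro ⟨h1, h2⟩
          refine ⟨by simpa [mul_assoc] using ‹B.Normal›.conj_mem _ h1 a₂⁻¹, mem_centralizer_singleton_iff.2 ?_⟩
          have h3 := mem_centralizer_singleton_iff.1 h2
          rw [← h', conj_mul, conj_mul] at h3
          exact mul_left_cancel (mul_right_cancel h3)))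
    haveI : (R.subgroupOf U).Normal := (normal_subgroupOf_iff_le_normalizer le_sup_left).2 hRU
    haveI : (V.subgroupOf U).Normal :=
      (normal_subgroupOf_iff_le_normalizer (hVR.trans le_sup_left)).2 hVU
    obtain ⟨y, hyR, hyV, -, hyc⟩ := exists_central_involution_step (hG.to_subgroup U)
      (R.subgroupOf U) (V.subgroupOf U) fun h => hxB (h (x := ⟨x, mem_sup_left hxR⟩) hxR).1
    exact hyV (hPV ⟨hyR, hyc ⟨a₂, mem_sup_right (mem_zpowers a₂)⟩⟩)
  have hP16 : ∀ a ∈ A, a ∉ Q → Nat.card {x : G | x ∈ Q ∧ ⁅x, a⁆ ∈ B} ≤ 16 := by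
    intro a ha haQ
    refine (card_commutator_mem_le Q a (B ⊓ centralizer ({a} : Set G)) _ (fun x hx => hx.1) fun x hx =>
      ⟨hx.2, mem_centralizer_singleton_iff.2 (commutator_fixed (hA2 a ha) (hB2 _ hx.2)).symm⟩).trans ?_
    have h : Nat.card ↥(Q ⊓ centralizer ({a} : Set G)) ≤ Nat.card ↥(B ⊓ centralizer ({a} : Set G)) :=
      Subgroup.card_le_of_le fun x hx =>
        Subgroup.mem_inf.2 ⟨hCQ a ha haQ x hx.1 (mem_centralizer_singleton_iff.1 hx.2), hx.2⟩
    rw [hVB a ha haQ] at h ⊢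
    omega
  -- a second element of `A`
  set K := fourGroup z b hz2 (hA2 b hbA) (hzc' b).symm with hK
  obtain ⟨b₂, hb₂, hb₂K⟩ : ∃ b₂ ∈ A, b₂ ∉ K := by
    by_contra! h
    have := Subgroup.card_le_of_le (show A ≤ K from h)
    have := card_fourGroup_le z b hz2 (hA2 b hbA) (hzc' b).symm
    rw [← hK] at this
    omega
  have hb₂Q : b₂ ∉ Q := fun h => hb₂K (by
    have : b₂ ∈ zpowers z := hA0 ▸ ⟨hb₂, h⟩
    rcases (mem_zpowers_of_sq_eq_one hz2).1 this with rfl | rfl
    · exact one_mem _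
    · exact mem_fourGroup.2 (Or.inr (Or.inl rfl)))
  have hbb₂Q : b * b₂ ∉ Q := fun h => hb₂K (by
    have hm : b * b₂ ∈ zpowers z := hA0 ▸ ⟨mul_mem hbA hb₂, h⟩
    have e : b₂ = b⁻¹ * (b * b₂) := by group
    rw [e]
    refine mul_mem (inv_mem (mem_fourGroup.2 (Or.inr (Or.inr (Or.inl rfl))))) ?_
    rcases (mem_zpowers_of_sq_eq_one hz2).1 hm with h' | h' <;> rw [h']
    · exact one_mem _
    · exact mem_fourGroup.2 (Or.inr (Or.inl rfl)))
  have hQ16 : Nat.card Q ≤ 16 := by
    by_contra hbig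
    push Not at hbig
    obtain ⟨u, r, huQ, huB, hu2, huc, hrQ, hrc, hrb⟩ := exists_tower hG hB8 Q hBc hbig
    set π := QuotientGroup.mk' B with hπ
    have hval : ∀ a ∈ A, a ∉ Q → π ⁅r, a⁆ = π u := by
      intro a ha haQ
      have h1 := (hrc a).resolve_left (hrb a (hP16 a ha haQ))
      exact (QuotientGroup.eq.2 h1).symm
    refine hrb _ (hP16 _ (mul_mem hbA hb₂) hbb₂Q) ((QuotientGroup.eq_one_iff _).1 ?_)
    show π ⁅r, b * b₂⁆ = 1
    rw [show ⁅r, b * b₂⁆ = ⁅r, b⁆ * (b * ⁅r, b₂⁆ * b⁻¹) by simp only [commutatorElement_def]; group,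
      map_mul, map_mul, map_mul, hval b hbA hbQ, hval b₂ hb₂ hb₂Q]
    have h : π u * π b = π b * π u := by
      rw [← commutatorElement_eq_one_iff_mul_comm, ← map_commutatorElement]
      exact (QuotientGroup.eq_one_iff _).2 (huc b)
    rw [map_inv, ← h, mul_inv_cancel_right, ← pow_two, ← map_pow]
    exact (QuotientGroup.eq_one_iff _).2 hu2
  have hQ2 : ∀ x ∈ Q, ∀ y ∈ Q, x ∉ B → y ∉ B → x⁻¹ * y ∈ B := by
    intro x hx y hy hxB hyB
    have h := (B.subgroupOf Q).card_mul_index
    rw [Nat.card_congr (Subgroup.subgroupOfEquivOfLe hBc).toEquiv, hB8] at h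
    have hne : (B.subgroupOf Q).index ≠ 1 := fun h' => by
      rw [Subgroup.index_eq_one, Subgroup.subgroupOf_eq_top] at h'
      exact hxB (h' hx)
    have hne0 : (B.subgroupOf Q).index ≠ 0 := Subgroup.index_ne_zero_of_finite
    have hidxQ : (B.subgroupOf Q).index = 2 := by omega
    exact (Subgroup.mul_mem_iff_of_index_two hidxQ (a := (⟨x, hx⟩ : Q)⁻¹) (b := ⟨y, hy⟩)).2
      (by rw [inv_mem_iff]; exact iff_of_false hxB hyB)
  refine card_le_of_centralizer_sixteen hG hB2 hB8 hBc hzB hz1 hzc hQ16 ?_ H N hNH hsq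
  intro u hu huB h hhQ htriv huh
  -- two elements generating `B` with `z`
  obtain ⟨x₀, hx₀B, hx₀z⟩ : ∃ x ∈ B, x ∉ zpowers z := by
    by_contra! h'
    have := Subgroup.card_le_of_le (show B ≤ zpowers z from h')
    omega
  set L := fourGroup z x₀ hz2 (hB2 x₀ hx₀B) (hzc' x₀).symm with hL
  obtain ⟨y₀, hy₀B, hy₀L⟩ : ∃ y ∈ B, y ∉ L := by
    by_contra! h'
    have := Subgroup.card_le_of_le (show B ≤ L from h')
    have := card_fourGroup_le z x₀ hz2 (hB2 x₀ hx₀B) (hzc' x₀).symm
    rw [← hL] at this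
    omega
  have hLB : L ≤ B := by
    intro a ha
    rcases mem_fourGroup.1 ha with rfl | rfl | rfl | rfl
    exacts [one_mem _, hzB, hx₀B, mul_mem hzB hx₀B]
  have hdet : ∀ g : G, g * x₀ = x₀ * g → g * y₀ = y₀ * g → g ∈ Q := by
    intro g hgx hgy
    rw [hQdef, mem_centralizer_iff]
    intro a ha
    have hlt : L < B ⊓ centralizer ({g} : Set G) := by
      refine lt_of_le_of_ne (fun k hk => ⟨hLB hk, mem_centralizer_singleton_iff.2 ?_⟩) fun h' => hy₀L ?_
      · rcases mem_fourGroup.1 hk with rfl | rfl | rfl | rfl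
        · rw [one_mul, mul_one]
        · exact (hzc' g).symm
        · exact hgx.symm
        · exact ((show Commute z g from (hzc' g).symm).mul_left (show Commute x₀ g from hgx.symm)).eq
      · rw [h']; exact ⟨hy₀B, mem_centralizer_singleton_iff.2 hgy.symm⟩
    have hz' : zpowers z < L := lt_of_le_of_ne (zpowers_le.2 (mem_fourGroup.2 (Or.inr (Or.inl rfl))))
      fun h' => hx₀z (h' ▸ mem_fourGroup.2 (Or.inr (Or.inr (Or.inl rfl))))
    have h4 := card_mul_two_le_of_lt hG hz'
    have h8 := card_mul_two_le_of_lt hG hlt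
    rw [hzcard] at h4
    have heq : B ⊓ centralizer ({g} : Set G) = B := Subgroup.eq_of_le_of_card_ge inf_le_left (by omega)
    exact mem_centralizer_singleton_iff.1 ((heq.symm ▸ ha : a ∈ B ⊓ _)).2
  set φ : G →* MulAut B := MulAut.conjNormal with hφ
  have hAimg : Nat.card (A.map φ) = 4 := by
    have h' := card_eq_map_mul_inf_ker φ A
    rw [hφ, ker_conjNormal, hA8] at h'
    have h2 : Nat.card ↥(A ⊓ Q) = 2 := by rw [hA0]; exact hzcard
    rw [← hQdef, h2] at h'
    rw [hφ]; omega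
  have happ : ∀ (g : G) (x : B), ((φ g x : B) : G) = g * x * g⁻¹ := fun g x => MulAut.conjNormal_apply g x
  let r : A.map φ → zpowers z × zpowers z := fun m =>
    (⟨((m : MulAut B) ⟨x₀, hx₀B⟩ : B) * x₀⁻¹, by
      obtain ⟨g, hg, hgm⟩ := m.2
      rw [← hgm, happ]
      have := inv_mem (hvalB g hg x₀ hx₀B)
      rwa [commutatorElement_inv, commutatorElement_def] at this⟩,
     ⟨((m : MulAut B) ⟨y₀, hy₀B⟩ : B) * y₀⁻¹, by
      obtain ⟨g, hg, hgm⟩ := m.2
      rw [← hgm, happ]
      have := inv_mem (hvalB g hg y₀ hy₀B)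
      rwa [commutatorElement_inv, commutatorElement_def] at this⟩)
  have hsame : ∀ g g' : G, g * x₀ * g⁻¹ = g' * x₀ * g'⁻¹ → g * y₀ * g⁻¹ = g' * y₀ * g'⁻¹ → g'⁻¹ * g ∈ Q := by
    intro g g' h1 h2
    refine hdet _ ?_ ?_
    · calc g'⁻¹ * g * x₀ = g'⁻¹ * (g * x₀ * g⁻¹) * g := by group
        _ = x₀ * (g'⁻¹ * g) := by rw [h1]; group
    · calc g'⁻¹ * g * y₀ = g'⁻¹ * (g * y₀ * g⁻¹) * g := by group
        _ = y₀ * (g'⁻¹ * g) := by rw [h2]; group
  have hr : Function.Injective r := by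
    intro m m' hmm
    obtain ⟨g, hg, hgm⟩ := m.2
    obtain ⟨g', hg', hgm'⟩ := m'.2
    have h1 := congrArg (fun t => (t.1 : G)) hmm
    have h2 := congrArg (fun t => (t.2 : G)) hmm
    simp only [r, ← hgm, ← hgm', happ] at h1 h2
    have h3 := hsame g g' (mul_right_cancel h1) (mul_right_cancel h2)
    refine Subtype.ext ?_
    rw [← hgm, ← hgm', ← mul_inv_cancel_left g' g, map_mul]
    have hker : g'⁻¹ * g ∈ φ.ker := by rw [hφ, ker_conjNormal]; exact h3
    rw [MonoidHom.mem_ker.1 hker, mul_one]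
  have hb : Function.Bijective r := (Nat.bijective_iff_injective_and_card r).2 ⟨hr, by
    rw [hAimg, Nat.card_prod, hzcard]⟩
  obtain ⟨m, hm⟩ := hb.2 (⟨⁅h, x₀⁆, htriv x₀ hx₀B⟩, ⟨⁅h, y₀⁆, htriv y₀ hy₀B⟩)
  obtain ⟨a, ha, ham⟩ := m.2
  have h1 : a * x₀ * a⁻¹ = h * x₀ * h⁻¹ := by
    have := congrArg (fun t => (t.1 : G)) hm
    simp only [r, ← ham, happ] at this
    rw [commutatorElement_def] at this
    exact mul_right_cancel this
  have h2 : a * y₀ * a⁻¹ = h * y₀ * h⁻¹ := by
    have := congrArg (fun t => (t.2 : G)) hm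
    simp only [r, ← ham, happ] at this
    rw [commutatorElement_def] at this
    exact mul_right_cancel this
  have hy : a⁻¹ * h ∈ Q := hsame h a h1.symm h2.symm
  have haQ : a ∉ Q := fun h' => hhQ (by simpa using mul_mem h' hy)
  have hc := commute_of_index_two hBc hBQ hQ2 hu hy
  have he : ⁅u, h⁆ = ⁅u, a⁆ := by
    rw [commutatorElement_def, commutatorElement_def]
    calc u * h * u⁻¹ * h⁻¹ = u * a * (a⁻¹ * h * u⁻¹) * (a⁻¹ * h)⁻¹ * a⁻¹ := by group
      _ = u * a * (u⁻¹ * (a⁻¹ * h)) * (a⁻¹ * h)⁻¹ * a⁻¹ := by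
        rw [show a⁻¹ * h * u⁻¹ = u⁻¹ * (a⁻¹ * h) from ((show Commute u (a⁻¹ * h) from hc).inv_left).eq.symm]
      _ = u * a * u⁻¹ * a⁻¹ := by group
  rw [he] at huh
  rcases (mem_zpowers_of_sq_eq_one hz2).1 huh with h' | h'
  · exact huB (hCQ a ha haQ u hu (commutatorElement_eq_one_iff_mul_comm.1 h'))
  · obtain ⟨q, hq, hqa⟩ : ∃ q ∈ B, q * a ≠ a * q := by
      by_contra! h''
      exact haQ (mem_centralizer_iff.2 h'')
    have hqz : ⁅q, a⁆ = z := ((mem_zpowers_of_sq_eq_one hz2).1 (hvalB a ha q hq)).resolve_left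
      fun h'' => hqa (commutatorElement_eq_one_iff_mul_comm.1 h'')
    have h1' : ⁅u * q, a⁆ = 1 := by
      have : ⁅u * q, a⁆ = u * ⁅q, a⁆ * u⁻¹ * ⁅u, a⁆ := by simp only [commutatorElement_def]; group
      rw [this, hqz, h', hzc, ← pow_two, hz2]
    have h3 := hCQ a ha haQ _ (mul_mem hu (hBc hq)) (commutatorElement_eq_one_iff_mul_comm.1 h1')
    exact huB (by simpa using mul_mem h3 (inv_mem hq))

end Main

/-- Harada's lemma in the presence of a normal elementary abelian subgroup of order 8. -/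
theorem card_le_of_self_centralizing_eight (hG : IsPGroup 2 G) {A : Subgroup G}
    (hA2 : ∀ a ∈ A, a ^ 2 = 1) (hA8 : Nat.card A = 8) (hC : centralizer (A : Set G) = A)
    (H N : Subgroup G) (hNH : N ≤ H) (hsq : ∀ h ∈ H, h ^ 2 ∈ N) :
    Nat.card H ≤ 16 * Nat.card N := by
  classical
  haveI : Fact (Nat.Prime 2) := ⟨Nat.prime_two⟩
  by_cases hno : ∀ K : Subgroup G, K.Normal → IsMulCommutative K → (∀ a ∈ K, a ^ 2 = 1) → Nat.card K ≤ 4
  · exact card_le_of_no_normal_eight hG hno H N hNH hsq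
  push Not at hno
  obtain ⟨K, hKn, -, hK2, hK4⟩ := hno
  haveI := hKn
  -- a normal subgroup of order 8 of `K`
  have hsub : ∃ B : Subgroup G, B.Normal ∧ B ≤ K ∧ Nat.card B = 8 := by
    have key : ∀ k : ℕ, 2 ^ k ≤ Nat.card K → ∃ M : Subgroup G, M.Normal ∧ M ≤ K ∧ Nat.card M = 2 ^ k := by
      intro k
      induction k with
      | zero => intro _; exact ⟨⊥, inferInstance, bot_le, by rw [Subgroup.card_bot, pow_zero]⟩
      | succ k ih =>
        intro hk
        obtain ⟨M, hMn, hMK, hMc⟩ := ih ((Nat.pow_le_pow_right two_pos (by omega)).trans hk)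
        haveI := hMn
        obtain ⟨y, hyK, hyM, hy2, hyc⟩ := exists_central_involution_step hG K M fun h => by
          have h1 := Subgroup.card_le_of_le h
          have h2 := Nat.two_pow_pos k
          rw [hMc] at h1
          rw [pow_succ] at hk
          omega
        set π := QuotientGroup.mk' M with hπ
        have hπy2 : π y ^ 2 = 1 := by rw [← map_pow]; exact (QuotientGroup.eq_one_iff _).2 hy2
        have hπy1 : π y ≠ 1 := fun h => hyM ((QuotientGroup.eq_one_iff _).1 h)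
        have hzn : (zpowers (π y)).Normal := ⟨fun a ha g => by
          obtain ⟨g', rfl⟩ := QuotientGroup.mk'_surjective M g
          rcases (mem_zpowers_of_sq_eq_one hπy2).1 ha with rfl | rfl
          · rw [mul_one, mul_inv_cancel]; exact one_mem _
          · have h : π y * π g' = π g' * π y := by
              rw [← commutatorElement_eq_one_iff_mul_comm, ← map_commutatorElement]
              exact (QuotientGroup.eq_one_iff _).2 (hyc g')
            rw [show (QuotientGroup.mk' M) g' = π g' from rfl, ← h, mul_inv_cancel_right]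
            exact mem_zpowers _⟩
        refine ⟨(zpowers (π y)).comap π, Subgroup.Normal.comap hzn π, fun x hx => ?_, ?_⟩
        · rw [mem_comap, mem_zpowers_of_sq_eq_one hπy2] at hx
          rcases hx with hx | hx
          · exact hMK ((QuotientGroup.eq_one_iff x).1 hx)
          · have : y⁻¹ * x ∈ M := QuotientGroup.eq.1 hx.symm
            simpa using mul_mem hyK (hMK this)
        · rw [card_eq_map_mul_inf_ker π,
            Subgroup.map_comap_eq_self_of_surjective (QuotientGroup.mk'_surjective M),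
            show π.ker = M from QuotientGroup.ker_mk' M, inf_eq_right.2 (fun a ha => by
              rw [mem_comap, show π a = 1 from (QuotientGroup.eq_one_iff a).2 ha]; exact one_mem _),
            Nat.card_zpowers, orderOf_eq_prime hπy2 hπy1, hMc, pow_succ']
    obtain ⟨n, hn⟩ := exists_card_eq_two_pow hG K
    have h8 : 2 ^ 3 ≤ Nat.card K := by
      rw [hn] at hK4 ⊢
      exact Nat.pow_le_pow_right two_pos
        ((Nat.pow_lt_pow_iff_right one_lt_two).1 (show 2 ^ 2 < 2 ^ n by omega))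
    obtain ⟨B, h1, h2, h3⟩ := key 3 h8
    exact ⟨B, h1, h2, by rw [h3]; norm_num⟩
  obtain ⟨B, hBn, hBK, hB8⟩ := hsub
  haveI := hBn
  have hB2 : ∀ a ∈ B, a ^ 2 = 1 := fun a ha => hK2 a (hBK ha)
  have hBc : B ≤ centralizer (B : Set G) := fun a ha => mem_centralizer_iff.2 fun x hx => by
    have := commute_of_sq_eq_one (G := B) (fun g => Subtype.ext (by simpa using hB2 g g.2)) ⟨x, hx⟩ ⟨a, ha⟩
    exact congrArg Subtype.val this
  obtain ⟨z, hzB, hz1, -, hzc0⟩ := exists_central_involution_step hG B ⊥ fun h => by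
    have := Subgroup.card_le_of_le h
    rw [Subgroup.card_bot] at this
    omega
  rw [mem_bot] at hz1
  have hzc : ∀ g : G, g * z * g⁻¹ = z := fun g => by
    have h := hzc0 g
    rw [mem_bot, commutatorElement_eq_one_iff_mul_comm] at h
    rw [← h, mul_inv_cancel_right]
  by_cases hAQ : A ≤ centralizer (B : Set G)
  · -- `A = B`
    have hBA : B ≤ A := fun x hx => by
      rw [← hC, mem_centralizer_iff]
      intro a ha
      exact (mem_centralizer_iff.1 (hAQ ha) x hx).symm
    have heq : B = A := Subgroup.eq_of_le_of_card_ge hBA (by omega)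
    refine card_le_of_centralizer_sixteen hG hB2 hB8 hBc hzB hz1 hzc ?_ ?_ H N hNH hsq
    · rw [heq, hC, hA8]; norm_num
    · intro u hu huB
      exact absurd (by rw [heq, hC] at hu; exact heq ▸ hu) huB
  obtain ⟨b, hbA, hbQ⟩ := SetLike.not_le_iff_exists.1 hAQ
  by_cases hV : 4 ≤ Nat.card ↥(A ⊓ B)
  · exact bound_inter_four hG hA2 hA8 hC hB2 hB8 hBc hzB hz1 hzc hbA hbQ hV H N hNH hsq
  · exact bound_inter_two hG hA2 hA8 hC hB2 hB8 hBc hzB hz1 hzc hbA hbQ (not_le.1 hV) H N hNH hsq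

end CfsgLib.MacWilliams
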