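import Cfsg.Agent.Lib.MacWilliams.NonSquare

/-!
The action on `A` is never the whole group of automorphisms centralizing `A[2]` and `A/A[2]`.
-/

set_option autoImplicit false
set_option linter.style.haveILetI false

namespace CfsgLib.MacWilliams

open Subgroup
open scoped commutatorElement

variable {G : Type*} [Group G]

namespace Frame

variable (F : Frame G)

/-- fullness in terms of any basis `v, u` of `A` -/
theorem full_rebase (hfull : ∀ s ∈ F.W, ∀ t ∈ F.W, ∃ x ∈ F.P0, ⁅x, F.e⁆ = s ∧ ⁅x, F.f⁆ = t)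
    {v : G} (hv : v ∈ F.A) (hv2 : v ^ 2 ≠ 1) :
    ∃ u ∈ F.A, u ^ 2 ≠ 1 ∧ u ^ 2 ≠ v ^ 2 ∧
      ∀ s ∈ F.W, ∀ t ∈ F.W, ∃ x ∈ F.P0, ⁅x, v⁆ = s ∧ ⁅x, u⁆ = t := by
  have hef := mul_mem F.e_mem F.f_mem
  rcases F.W_cases _ (F.sq_mem hv) with h | h | h | h
  · exact absurd h hv2
  · refine ⟨F.f, F.f_mem, F.f_ne, h ▸ F.ef_ne.symm, fun s hs t ht => ?_⟩
    obtain ⟨x, hx, h1, h2⟩ := hfull s hs t ht
    exact ⟨x, hx, (F.d_congr hx hv F.e_mem h).trans h1, h2⟩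
  · refine ⟨F.e, F.e_mem, F.e_ne, h ▸ F.ef_ne, fun s hs t ht => ?_⟩
    obtain ⟨x, hx, h1, h2⟩ := hfull t ht s hs
    exact ⟨x, hx, (F.d_congr hx hv F.f_mem h).trans h2, h1⟩
  · refine ⟨F.e, F.e_mem, F.e_ne, ?_, fun s hs t ht => ?_⟩
    · rw [h]
      intro h'
      exact F.f_ne (mul_eq_left.1 h'.symm)
    obtain ⟨x, hx, h1, h2⟩ := hfull t ht (t * s) (mul_mem ht hs)
    refine ⟨x, hx, ?_, h1⟩
    rw [F.d_congr hx hv hef (by rw [h, F.mul_sq F.e_mem F.f_mem]), F.d_mul_right hx F.e_mem F.f_mem,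
      h1, h2, ← mul_assoc, ← pow_two, F.W_sq ht, one_mul]

/-- the squares of the conjugates of an element of order 8 determine the action -/
theorem act_eight [Finite G] (hG : IsPGroup 2 G) {c : G} (hc : c ∈ F.C) (hcA : c ^ 2 ∈ F.A)
    {x : G} (hx : x ∈ F.P0) {a : G} (ha : a ∈ F.A) (hax : a ^ 2 = ⁅x, c ^ 2⁆) :
    ∃ u ∈ F.W, x * c * x⁻¹ = c * a * u := by
  have h1 : c * a ∈ F.C := mul_mem hc (F.A_le_C ha)
  have h2 : x * c * x⁻¹ ∈ F.C := F.C_normal.conj_mem c hc x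
  have hca : Commute c a := (F.mem_C.1 hc a ha).symm
  refine ⟨(c * a)⁻¹ * (x * c * x⁻¹),
    F.C_W _ (mul_mem (inv_mem h1) h2) (sq_inv_mul_eq_one hG F.C_cen h1 h2 ?_), by group⟩
  rw [hca.mul_pow, conj_pow, hax, F.conj_eq hx hcA]

theorem C_eq_A_of_full [Finite G] (hG : IsPGroup 2 G)
    (hfull : ∀ s ∈ F.W, ∀ t ∈ F.W, ∃ x ∈ F.P0, ⁅x, F.e⁆ = s ∧ ⁅x, F.f⁆ = t) : F.C ≤ F.A := by
  classical
  by_contra hCA
  obtain ⟨g, hgC, hgA⟩ := SetLike.not_le_iff_exists.1 hCA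
  have hex : ∃ k : ℕ, g ^ (2 ^ k) ∈ F.A := by
    obtain ⟨k, hk⟩ := hG g
    exact ⟨k, hk ▸ F.A.one_mem⟩
  obtain ⟨m, hm⟩ : ∃ m, Nat.find hex = m + 1 := by
    refine Nat.exists_eq_succ_of_ne_zero fun h0 => hgA ?_
    have h := Nat.find_spec hex
    rw [h0, pow_zero, pow_one] at h
    exact h
  set c := g ^ (2 ^ m) with hcdef
  have hcA' : c ∉ F.A := Nat.find_min hex (by omega)
  have hc : c ∈ F.C := pow_mem hgC _
  have hc2 : c ^ 2 ∈ F.A := by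
    rw [hcdef, ← pow_mul, ← pow_succ, ← hm]; exact Nat.find_spec hex
  have hc4 : (c ^ 2) ^ 2 ≠ 1 := fun h => hcA' (F.omega c hc (by
    rw [show (4 : ℕ) = 2 * 2 from rfl, pow_mul]; exact h))
  obtain ⟨b, hb, hb1, hb2, hfull'⟩ := F.full_rebase hfull hc2 hc4
  have hz : (c ^ 2) ^ 2 ∈ F.W := F.sq_mem hc2
  have hw : b ^ 2 ∈ F.W := F.sq_mem hb
  obtain ⟨x, hx, hxv, hxb⟩ := hfull' _ hw 1 F.W.one_mem
  -- commuting with `x` a map fixing `v = c ^ 2` and moving `b` by `t` produces `g` with `g c g⁻¹ = c t`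
  have hcomm : ∀ t ∈ F.W, ∃ k ∈ F.C, k * c * k⁻¹ = c * t := by
    intro t ht
    obtain ⟨x', hx', hx'v, hx'b⟩ := hfull' 1 F.W.one_mem t ht
    obtain ⟨u, hu, hxc⟩ := F.act_eight hG hc hc2 hx hb hxv.symm
    obtain ⟨u', hu', hx'c⟩ := F.act_eight hG hc hc2 hx' F.A.one_mem (by rw [hx'v, one_pow])
    rw [mul_one] at hx'c
    set k := (x' * x) * (x * x')⁻¹ with hk
    have hkC : k ∈ F.C := by
      have hk0 : k ∈ F.P0 := mul_mem (mul_mem hx' hx) (inv_mem (mul_mem hx hx'))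
      have key : ∀ a ∈ F.A, ⁅k, a⁆ = 1 := by
        intro a ha
        have h1 := F.d_mul_left hk0 (mul_mem hx hx') ha
        rw [show k * (x * x') = x' * x by rw [hk]; group, F.d_mul_left hx' hx ha,
          F.d_mul_left hx hx' ha, F.comm _ (F.W_le (F.d_mem hx' ha)) _ (F.W_le (F.d_mem hx ha))] at h1
        exact mul_eq_right.1 h1.symm
      exact (F.mem_C_iff hk0).2 ⟨key _ F.e_mem, key _ F.f_mem⟩
    refine ⟨k, hkC, ?_⟩
    have hbA : ∀ d ∈ F.A, k * d * k⁻¹ = d := fun d hd => by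
      rw [← F.mem_C.1 hkC d hd, mul_inv_cancel_right]
    have h12 : x' * (x * c * x⁻¹) * x'⁻¹ = c * u' * (b * t) * u := by
      rw [hxc, ← conj_mul, ← conj_mul, hx'c, F.conj_eq hx' hb, hx'b, F.fix_W hx' hu]
    have h21 : x * (x' * c * x'⁻¹) * x⁻¹ = c * b * u * u' := by
      rw [hx'c, ← conj_mul, hxc, F.fix_W hx hu']
    have hmove : k * (c * b * u * u') * k⁻¹ = c * u' * (b * t) * u := by
      rw [← h21, ← h12, hk]; group
    rw [← conj_mul, ← conj_mul, ← conj_mul, hbA b hb, hbA u (F.W_le hu), hbA u' (F.W_le hu')] at hmove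
    have hA' : b * u * u' ∈ F.A := mul_mem (mul_mem hb (F.W_le hu)) (F.W_le hu')
    have hrhs : u' * (b * t) * u = t * (b * u * u') := by
      have h1 := F.comm _ (F.W_le hu') _ (mul_mem (mul_mem hb (F.W_le ht)) (F.W_le hu))
      have h2 := F.comm _ hb _ (F.W_le ht)
      calc u' * (b * t) * u = u' * (b * t * u) := by group
        _ = b * t * u * u' := h1
        _ = t * b * u * u' := by rw [h2]
        _ = t * (b * u * u') := by group
    have h3 : k * c * k⁻¹ * (b * u * u') = c * t * (b * u * u') := by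
      calc k * c * k⁻¹ * (b * u * u') = k * c * k⁻¹ * b * u * u' := by group
        _ = c * u' * (b * t) * u := hmove
        _ = c * (u' * (b * t) * u) := by group
        _ = c * t * (b * u * u') := by rw [hrhs]; group
    exact mul_right_cancel h3
  obtain ⟨k₁, hk₁, hk₁c⟩ := hcomm _ hz
  obtain ⟨k₂, hk₂, hk₂c⟩ := hcomm _ hw
  -- but the centralizer of `c` has index at most 2 in `C`
  set K := F.C ⊓ centralizer ({c} : Set G) with hK
  have hsqK : ∀ d ∈ F.C, d ^ 2 ∈ K := by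
    intro d hd
    refine ⟨pow_mem hd 2, mem_centralizer_singleton_iff.2 ?_⟩
    have hdc : d * c * d⁻¹ ∈ F.C := mul_mem (mul_mem hd hc) (inv_mem hd)
    have hsq : c ^ 2 = (d * c * d⁻¹) ^ 2 := by
      rw [conj_pow, ← F.mem_C.1 hd _ hc2, mul_inv_cancel_right]
    have hu : c⁻¹ * (d * c * d⁻¹) ∈ F.W :=
      F.C_W _ (mul_mem (inv_mem hc) hdc) (sq_inv_mul_eq_one hG F.C_cen hc hdc hsq)
    have hdu := F.mem_C.1 hd _ (F.W_le hu)
    set u0 := c⁻¹ * (d * c * d⁻¹) with hu0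
    have h1 : d * c * d⁻¹ = c * u0 := by rw [hu0]; group
    have h2 : d ^ 2 * c * (d ^ 2)⁻¹ = c := by
      calc d ^ 2 * c * (d ^ 2)⁻¹ = d * (d * c * d⁻¹) * d⁻¹ := by rw [pow_two]; group
        _ = (d * c * d⁻¹) * (d * u0 * d⁻¹) := by rw [conj_mul, h1]
        _ = c * u0 ^ 2 := by rw [h1, ← hdu, mul_inv_cancel_right, pow_two, mul_assoc]
        _ = c := by rw [F.W_sq hu, mul_one]
    exact mul_inv_eq_iff_eq_mul.1 h2
  have hlt : Nat.card F.C < Nat.card K * Nat.card F.W := by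
    refine lt_of_le_of_ne (card_le_of_sq_mem hG F.C_cen F.C_W F.C K le_rfl hsqK) fun heq => ?_
    obtain ⟨d, hd, hcd, hns⟩ := exists_nonsquare_root hG F.C hc (fun h => hcA' (h ▸ F.A.one_mem))
    have hdK : d ∈ K := ⟨hd, mem_centralizer_singleton_iff.2 (by
      obtain ⟨n, hn⟩ := mem_zpowers_iff.1 hcd
      rw [← hn]; exact (Commute.refl d).zpow_right n)⟩
    obtain ⟨e', he', hed⟩ := exists_sq_eq_of_card_eq hG F.C_cen F.C_W F.C K le_rfl hsqK heq hdK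
    exact hns e' he' hed
  have hidx : (K.subgroupOf F.C).index = 2 := by
    obtain ⟨a, ha⟩ := exists_card_eq_two_pow hG F.C
    obtain ⟨n, hn⟩ := exists_card_eq_two_pow hG K
    have hWc : Nat.card F.W ≤ 2 ^ 2 := F.card_W_le
    rw [ha, hn] at hlt
    have h2 : 2 ^ a < 2 ^ 2 * 2 ^ n :=
      lt_of_lt_of_le hlt (by rw [mul_comm (2 ^ 2) (2 ^ n)]; exact Nat.mul_le_mul_left _ hWc)
    have h3 := two_pow_le_mul h2
    have hKC : K ≤ F.C := inf_le_left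
    have h4 := (K.subgroupOf F.C).card_mul_index
    rw [Nat.card_congr (Subgroup.subgroupOfEquivOfLe hKC).toEquiv, ha, hn] at h4
    have hne : (K.subgroupOf F.C).index ≠ 1 := by
      intro h
      rw [Subgroup.index_eq_one, Subgroup.subgroupOf_eq_top] at h
      have := (h hk₁).2
      have h5 : k₁ * c * k₁⁻¹ = c := mul_inv_eq_iff_eq_mul.2 (mem_centralizer_singleton_iff.1 this)
      rw [hk₁c, mul_eq_left] at h5
      exact hc4 h5
    have hpos : 0 < 2 ^ n := Nat.two_pow_pos n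
    have hle : (K.subgroupOf F.C).index ≤ 2 := Nat.le_of_mul_le_mul_left (by
      rw [h4]
      omega : 2 ^ n * _ ≤ 2 ^ n * 2) hpos
    have hne0 : (K.subgroupOf F.C).index ≠ 0 := Subgroup.index_ne_zero_of_finite
    omega
  have hnot : ∀ (k : G) (hk : k ∈ F.C) (t : G), t ≠ 1 → k * c * k⁻¹ = c * t →
      (⟨k, hk⟩ : F.C) ∉ K.subgroupOf F.C := by
    intro k hk t ht hkc h
    have h5 : k * c * k⁻¹ = c := mul_inv_eq_iff_eq_mul.2 (mem_centralizer_singleton_iff.1 h.2)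
    rw [hkc, mul_eq_left] at h5
    exact ht h5
  have h12 : (⟨k₁, hk₁⟩ : F.C)⁻¹ * ⟨k₂, hk₂⟩ ∈ K.subgroupOf F.C := by
    rw [Subgroup.mul_mem_iff_of_index_two hidx, inv_mem_iff]
    exact iff_of_false (hnot k₁ hk₁ _ hc4 hk₁c) (hnot k₂ hk₂ _ hb1 hk₂c)
  have h6 : k₁⁻¹ * k₂ * c = c * (k₁⁻¹ * k₂) := mem_centralizer_singleton_iff.1 h12.2
  have h7 : k₂ * c * k₂⁻¹ = k₁ * c * k₁⁻¹ := by
    calc k₂ * c * k₂⁻¹ = k₁ * (k₁⁻¹ * k₂ * c) * k₂⁻¹ := by group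
      _ = k₁ * c * k₁⁻¹ := by rw [h6]; group
  rw [hk₁c, hk₂c] at h7
  exact hb2 (mul_left_cancel h7)

theorem not_full [Finite G] (hG : IsPGroup 2 G)
    (hno : ∀ K : Subgroup G, K.Normal → IsMulCommutative K → (∀ a ∈ K, a ^ 2 = 1) → Nat.card K ≤ 4)
    (hcy : ∀ y ∈ F.P0, ⁅y, F.e⁆ = 1 → ⁅y, F.f⁆ = F.e ^ 2 → ∀ g : G, ⁅g, y⁆ ∈ F.C) :
    ¬ ∀ s ∈ F.W, ∀ t ∈ F.W, ∃ x ∈ F.P0, ⁅x, F.e⁆ = s ∧ ⁅x, F.f⁆ = t := by
  intro hfull
  have hCA := F.C_eq_A_of_full hG hfull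
  have hzw : F.e ^ 2 * F.f ^ 2 ∈ F.W := mul_mem F.z_mem F.w_mem
  obtain ⟨r, hr, hre, hrf⟩ := hfull _ F.w_mem _ hzw
  obtain ⟨y, hy, hye, hyf⟩ := hfull 1 F.W.one_mem _ F.z_mem
  have hsqA : ∀ x ∈ F.P0, x ^ 2 ∈ F.A := by
    intro x hx
    refine hCA ((F.mem_C_iff (pow_mem hx 2)).2 ⟨?_, ?_⟩)
    · rw [pow_two, F.d_mul_left hx hx F.e_mem, ← pow_two, F.W_sq (F.d_mem hx F.e_mem)]
    · rw [pow_two, F.d_mul_left hx hx F.f_mem, ← pow_two, F.W_sq (F.d_mem hx F.f_mem)]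
  -- good elements
  have hrgood : ∀ a ∈ F.A, ⁅r, a⁆ = a ^ 2 → a ^ 2 = 1 := fun a ha =>
    F.sq_eq_one_of_good hr (by rw [hre]; exact F.ef_ne.symm)
      (by rw [hrf]; intro h; exact F.e_ne (mul_eq_right.1 h))
      (by
        rw [hre, hrf]; intro h
        exact F.f_ne (mul_eq_right.1 h)) ha
  have hrinj : ∀ a ∈ F.A, ⁅r, a⁆ = 1 → a ^ 2 = 1 := by
    intro a ha h
    rcases F.d_cases hr ha with h' | h' | h' | h'
    · exact h'.1
    · exact absurd (by rw [← hre, ← h'.2, h]) F.f_ne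
    · exact absurd (by rw [← hrf, ← h'.2, h]) F.one_ne_ef
    · refine absurd ?_ F.e_ne
      rw [h, hre, hrf, ← mul_assoc, F.comm _ (F.W_le F.w_mem) _ (F.W_le F.z_mem), mul_assoc,
        ← pow_two, F.W_sq F.w_mem, mul_one] at h'
      exact h'.2.symm
  have hyC : y ∉ F.C := fun h => F.e_ne (by rw [← hyf]; exact ((F.mem_C_iff hy).1 h).2)
  have hygood : ∀ a ∈ F.A, ⁅y, a⁆ = a ^ 2 → a ^ 2 = 1 := fun a ha =>
    F.sq_eq_one_of_good hy (by rw [hye]; exact F.e_ne.symm) (by rw [hyf]; exact F.ef_ne)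
      (by rw [hye, hyf, one_mul]; intro h; exact F.f_ne (mul_eq_left.1 h.symm)) ha
  set a := y ^ 2 with hadef
  set b := r ^ 2 with hbdef
  have ha : a ∈ F.A := hsqA y hy
  have hb : b ∈ F.A := hsqA r hr
  have hb2 : b ∈ F.W := (F.mem_W _).2 ⟨hb, hrinj b hb (by
    rw [commutatorElement_eq_one_iff_mul_comm, hbdef]; exact Commute.self_pow r 2)⟩
  set u := y⁻¹ * (r * y * r⁻¹) with hudef
  have hu : u ∈ F.A := by
    have hp : r * y * r⁻¹ ∈ F.P0 := mul_mem (mul_mem hr hy) (inv_mem hr)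
    have hu0 : u ∈ F.P0 := mul_mem (inv_mem hy) hp
    have key : ∀ d ∈ F.A, ⁅u, d⁆ = 1 := by
      intro d hd
      have h1 := F.d_mul_left (mul_mem hy hu0) hr hd
      rw [show y * u * r = r * y by rw [hudef]; group, F.d_mul_left hr hy hd, F.d_mul_left hy hu0 hd,
        F.comm _ (F.W_le (F.d_mem hr hd)) _ (F.W_le (F.d_mem hy hd))] at h1
      exact mul_eq_left.1 (mul_right_cancel h1).symm
    exact hCA ((F.mem_C_iff hu0).2 ⟨key _ F.e_mem, key _ F.f_mem⟩)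
  have hru : r * y * r⁻¹ = y * u := by rw [hudef]; group
  have hyr : y⁻¹ * r * y = u * r := by rw [hudef]; group
  -- `y⁻¹ b y = b` gives `⁅r, u⁆ = u ^ 2`
  have h1 : ⁅r, u⁆ = u ^ 2 := by
    have hfix : y⁻¹ * b * y = b := by simpa using F.fix_W (inv_mem hy) hb2
    have h : y⁻¹ * b * y = u ^ 2 * ⁅r, u⁆ * b := by
      calc y⁻¹ * b * y = (y⁻¹ * r * y) * (y⁻¹ * r * y) := by rw [hbdef, pow_two]; group
        _ = u * (r * u * r⁻¹) * b := by rw [hyr, hbdef, pow_two]; group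
        _ = u ^ 2 * ⁅r, u⁆ * b := by rw [F.conj_eq hr hu, pow_two, mul_assoc u u]
    rw [hfix, right_eq_mul] at h
    rw [← F.inv_W (F.sq_mem hu)]
    exact eq_inv_of_mul_eq_one_right h
  have hu2 : u ^ 2 = 1 := hrgood u hu h1
  -- `r a r⁻¹ = (y u) ^ 2` gives `⁅r, a⁆ = 1`
  have h2 : ⁅r, a⁆ = 1 := by
    have huW : u ∈ F.W := (F.mem_W _).2 ⟨hu, hu2⟩
    have hfix : y * u * y⁻¹ = u := F.fix_W hy huW
    rw [commutatorElement_def, hadef, ← conj_pow, hru]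
    calc (y * u) ^ 2 * (y ^ 2)⁻¹ = (y * u * y⁻¹) * y * (y * u * y⁻¹) * y⁻¹ := by
          rw [pow_two, pow_two]; group
      _ = (y * u * y⁻¹) * (y * (y * u * y⁻¹) * y⁻¹) := by group
      _ = 1 := by rw [hfix, hfix, ← pow_two, hu2]
  have ha2 : a ∈ F.W := (F.mem_W _).2 ⟨ha, hrinj a ha h2⟩
  obtain ⟨c, hc, hca⟩ : ∃ c ∈ F.A, c ^ 2 = a := by
    rcases F.W_cases a ha2 with h | h | h | h
    · exact ⟨1, F.A.one_mem, by rw [h, one_pow]⟩
    · exact ⟨F.e, F.e_mem, h.symm⟩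
    · exact ⟨F.f, F.f_mem, h.symm⟩
    · exact ⟨_, mul_mem F.e_mem F.f_mem, by rw [F.mul_sq F.e_mem F.f_mem, h]⟩
  exact F.sq_ne_sq hG hno hy hyC (hcy y hy hye hyf) hygood (F.A_le_C hc) (hadef ▸ hca.symm)

end Frame

end CfsgLib.MacWilliams
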