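import Mathlib

/-!
2-groups in which the elements of order dividing 4 are central.
-/

set_option autoImplicit false

namespace CfsgLib.MacWilliams

open Subgroup

variable {G : Type*} [Group G]

/-- If `x` inverts a 2-element `v` and fixes the powers of `v` of order dividing 4 then `v ^ 2 = 1`. -/
theorem sq_eq_one_of_inverted {x : G} : ∀ (k : ℕ) {v : G}, v ^ (2 ^ k) = 1 → x * v * x⁻¹ = v⁻¹ →
    (∀ n : ℕ, (v ^ n) ^ 4 = 1 → x * v ^ n * x⁻¹ = v ^ n) → v ^ 2 = 1 := by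
  intro k
  induction k with
  | zero =>
    intro v hv _ _
    rw [pow_zero, pow_one] at hv
    rw [hv, one_pow]
  | succ k ih =>
    intro v hv hinv hfix
    have h2 : (v ^ 2) ^ 2 = 1 := by
      refine ih ?_ ?_ ?_
      · rw [← pow_mul, ← pow_succ']; exact hv
      · rw [← conj_pow, hinv, inv_pow]
      · intro n hn
        rw [← pow_mul v 2 n] at hn ⊢
        exact hfix _ hn
    have h4 : (v ^ 1) ^ 4 = 1 := by rw [pow_one, show (4 : ℕ) = 2 * 2 from rfl, pow_mul]; exact h2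
    have h := hfix 1 h4
    rw [pow_one, hinv, inv_eq_iff_mul_eq_one] at h
    rw [pow_two]; exact h

/-- In such a group two elements with equal squares differ by an element of order at most 2. -/
theorem sq_inv_mul_eq_one [Finite G] (hG : IsPGroup 2 G) {C : Subgroup G}
    (hcen : ∀ a ∈ C, a ^ 4 = 1 → ∀ c ∈ C, c * a = a * c)
    {d e : G} (hd : d ∈ C) (he : e ∈ C) (h : d ^ 2 = e ^ 2) : (d⁻¹ * e) ^ 2 = 1 := by
  obtain ⟨k, hk⟩ := hG (d⁻¹ * e)
  refine sq_eq_one_of_inverted (x := d) k hk ?_ ?_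
  · have h1 : d * (d⁻¹ * e) * d⁻¹ = e * d⁻¹ := by group
    rw [h1, mul_inv_rev, inv_inv, eq_comm]
    rw [pow_two, pow_two] at h
    calc e⁻¹ * d = e⁻¹ * (d * d) * d⁻¹ := by group
      _ = e⁻¹ * (e * e) * d⁻¹ := by rw [h]
      _ = e * d⁻¹ := by group
  · intro n hn
    rw [hcen _ (C.pow_mem (C.mul_mem (C.inv_mem hd) he) n) hn d hd]
    group

section Count

variable [Finite G] (hG : IsPGroup 2 G) {C : Subgroup G}
  (hcen : ∀ a ∈ C, a ^ 4 = 1 → ∀ c ∈ C, c * a = a * c)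
  {W : Subgroup G} (hW : ∀ a ∈ C, a ^ 2 = 1 → a ∈ W)

include hG hcen hW

/-- A subgroup containing the squares of a subgroup `D` of `C` has index at most `|W|` in it. -/
theorem card_le_of_sq_mem (D M : Subgroup G) (hDC : D ≤ C) (hsq : ∀ d ∈ D, d ^ 2 ∈ M) :
    Nat.card D ≤ Nat.card M * Nat.card W := by
  classical
  have hroot : ∀ d : D, ∃ r : D, (r : G) ^ 2 = (d : G) ^ 2 := fun d => ⟨d, rfl⟩
  let r : G → G := fun s => if h : ∃ r : D, (r : G) ^ 2 = s then (h.choose : G) else 1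
  have hr : ∀ d : D, r ((d : G) ^ 2) ∈ D ∧ (r ((d : G) ^ 2)) ^ 2 = (d : G) ^ 2 := fun d => by
    simp only [r, dif_pos (hroot d)]
    exact ⟨(hroot d).choose.2, (hroot d).choose_spec⟩
  let f : D → M × W := fun d => (⟨(d : G) ^ 2, hsq _ d.2⟩,
    ⟨(r ((d : G) ^ 2))⁻¹ * (d : G), hW _ (C.mul_mem (C.inv_mem (hDC (hr d).1)) (hDC d.2))
      (sq_inv_mul_eq_one hG hcen (hDC (hr d).1) (hDC d.2) (hr d).2)⟩)
  have hf : Function.Injective f := by
    intro d d' h
    simp only [f, Prod.mk.injEq, Subtype.mk.injEq] at h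
    obtain ⟨h1, h2⟩ := h
    rw [h1] at h2
    exact Subtype.ext (mul_left_cancel h2)
  calc Nat.card D ≤ Nat.card (M × W) := Nat.card_le_card_of_injective f hf
    _ = _ := Nat.card_prod _ _

/-- In the case of equality every element of `M` is a square in `D`. -/
theorem exists_sq_eq_of_card_eq (D M : Subgroup G) (hDC : D ≤ C) (hsq : ∀ d ∈ D, d ^ 2 ∈ M)
    (hcard : Nat.card D = Nat.card M * Nat.card W) {m : G} (hm : m ∈ M) :
    ∃ d ∈ D, d ^ 2 = m := by
  classical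
  let S : Set G := (fun d => d ^ 2) '' (D : Set G)
  by_contra hno
  have hmS : m ∉ S := fun ⟨d, hd, hd'⟩ => hno ⟨d, hd, hd'⟩
  have hroot : ∀ d : D, ∃ r : D, (r : G) ^ 2 = (d : G) ^ 2 := fun d => ⟨d, rfl⟩
  let r : G → G := fun s => if h : ∃ r : D, (r : G) ^ 2 = s then (h.choose : G) else 1
  have hr : ∀ d : D, r ((d : G) ^ 2) ∈ D ∧ (r ((d : G) ^ 2)) ^ 2 = (d : G) ^ 2 := fun d => by
    simp only [r, dif_pos (hroot d)]
    exact ⟨(hroot d).choose.2, (hroot d).choose_spec⟩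
  let f : D → M × W := fun d => (⟨(d : G) ^ 2, hsq _ d.2⟩,
    ⟨(r ((d : G) ^ 2))⁻¹ * (d : G), hW _ (C.mul_mem (C.inv_mem (hDC (hr d).1)) (hDC d.2))
      (sq_inv_mul_eq_one hG hcen (hDC (hr d).1) (hDC d.2) (hr d).2)⟩)
  have hf : Function.Injective f := by
    intro d d' h
    simp only [f, Prod.mk.injEq, Subtype.mk.injEq] at h
    obtain ⟨h1, h2⟩ := h
    rw [h1] at h2
    exact Subtype.ext (mul_left_cancel h2)
  have hb : Function.Bijective f := (Nat.bijective_iff_injective_and_card f).2 ⟨hf, by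
    rw [Nat.card_prod]; exact hcard⟩
  obtain ⟨d, hd⟩ := hb.2 (⟨m, hm⟩, 1)
  exact hno ⟨d, d.2, congrArg (fun t => (t.1 : G)) hd⟩

end Count

/-- Every element of a finite 2-group is a power of a non-square. -/
theorem exists_nonsquare_root [Finite G] (hG : IsPGroup 2 G) (C : Subgroup G) {c : G} (hc : c ∈ C)
    (hc1 : c ≠ 1) :
    ∃ d ∈ C, c ∈ zpowers d ∧ ∀ e ∈ C, e ^ 2 ≠ d := by
  classical
  obtain ⟨d, ⟨hdC, hcd⟩, hmax⟩ := Set.exists_max_image {d | d ∈ C ∧ c ∈ zpowers d} orderOf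
    (Set.toFinite _) ⟨c, hc, mem_zpowers c⟩
  refine ⟨d, hdC, hcd, fun e he hed => ?_⟩
  have hd1 : d ≠ 1 := fun h => hc1 (by rw [h] at hcd; simpa using hcd)
  have hle := hmax e ⟨he, (zpowers_le.2 (hed ▸ pow_mem (mem_zpowers e) 2)) hcd⟩
  obtain ⟨n, hn⟩ := IsPGroup.iff_orderOf.1 hG e
  have hdvd : ¬ orderOf e ∣ 1 := by
    intro h
    rw [Nat.dvd_one, orderOf_eq_one_iff] at h
    exact hd1 (by rw [← hed, h, one_pow])
  cases n with
  | zero => exact hdvd (by rw [hn]; simp)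
  | succ n =>
    have h2 : orderOf d = 2 ^ n := by
      rw [← hed, orderOf_pow' e two_ne_zero, hn, Nat.gcd_eq_right (dvd_pow_self 2 n.succ_ne_zero),
        pow_succ, Nat.mul_div_cancel _ two_pos]
    rw [hn, h2, pow_succ] at hle
    have := Nat.two_pow_pos n
    omega

end CfsgLib.MacWilliams
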