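import Mathlib

/-!
The central product of two quaternion groups of order 8 as a quotient of their direct product by
`⟨(-1, -1)⟩`: the finite facts needed for Harada's lemma.
-/

set_option autoImplicit false

namespace CfsgLib.MacWilliams.QuatModel

open QuaternionGroup
open scoped commutatorElement

/-- the direct product -/
abbrev M := QuaternionGroup 2 × QuaternionGroup 2

/-- the element to be killed -/
def zz : M := (a 2, a 2)
/-- the centre of the central product -/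
def zc : M := (a 2, 1)

def A1 : M := (a 1 * xa 0, a 1 * xa 0)
def A2 : M := (a 1, a 1)
def U1 : M := (a 1, xa 0)
def U2 : M := (xa 0, a 1 * xa 0)

/-- membership in the kernel -/
def InK (m : M) : Prop := m = 1 ∨ m = zz

/-- membership in the preimage of the centre -/
def InZ (m : M) : Prop := m = 1 ∨ m = zz ∨ m = zc ∨ m = zc * zz

instance : DecidablePred InK := fun m => inferInstanceAs (Decidable (m = 1 ∨ m = zz))
instance : DecidablePred InZ := fun m =>
  inferInstanceAs (Decidable (m = 1 ∨ m = zz ∨ m = zc ∨ m = zc * zz))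

/-- the preimage of the centralizer of the images of `p, q` -/
def Cent (p q m : M) : Prop := InK ⁅m, p⁆ ∧ InK ⁅m, q⁆

instance (p q : M) : DecidablePred (Cent p q) := fun m =>
  inferInstanceAs (Decidable (InK ⁅m, p⁆ ∧ InK ⁅m, q⁆))

/-- `u * m` can be the image of `u` under an automorphism fixing the images of `p, q` -/
def Shift (p q u m : M) : Prop :=
  InK (⁅u * m, p⁆ * ⁅u, p⁆⁻¹) ∧ InK (⁅u * m, q⁆ * ⁅u, q⁆⁻¹) ∧ InK ((u * m) * (u * m))

instance (p q u : M) : DecidablePred (Shift p q u) := fun m =>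
  inferInstanceAs (Decidable (InK (⁅u * m, p⁆ * ⁅u, p⁆⁻¹) ∧ InK (⁅u * m, q⁆ * ⁅u, q⁆⁻¹) ∧
    InK ((u * m) * (u * m))))

/-- The conditions on a pair `p, q` and a complementary pair `u, v`. -/
structure Good (p q u v : M) : Prop where
  p_cent : Cent p q p
  q_cent : Cent p q q
  zc_cent : Cent p q zc
  square : ∀ m, Cent p q m → InK (m * m)
  comm : ∀ m, Cent p q m → ∀ n, Cent p q n → InK ⁅m, n⁆
  normal : ∀ m, Cent p q m → ∀ r, Cent p q (r * m * r⁻¹)
  card : (Finset.univ.filter (Cent p q)).card = 16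
  val : InZ ⁅u, p⁆ ∧ InZ ⁅u, q⁆ ∧ InZ ⁅v, p⁆ ∧ InZ ⁅v, q⁆
  uv : InK (u * u) ∧ InK (v * v) ∧ InK ⁅u, v⁆
  shift_u : ∀ m, Shift p q u m → InZ m ∨ InZ (p * m)
  shift_v : ∀ m, Shift p q v m → InZ m ∨ InZ (q * m)
  pair : ∀ m, Shift p q u m → ∀ n, Shift p q v n → InK ⁅u * m, v * n⁆ → (InZ m ↔ InZ n)
  inner : ∀ m, InZ m → ∀ n, InZ n → ∃ r, Cent p q r ∧ InK (r * u * r⁻¹ * (u * m)⁻¹) ∧
    InK (r * v * r⁻¹ * (v * n)⁻¹)
  generate : ∀ m, ∃ i j k l : Fin 2, InZ ((p ^ (i : ℕ) * q ^ (j : ℕ) * u ^ (k : ℕ) * v ^ (l : ℕ))⁻¹ * m)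

theorem good_A : Good A1 A2 U1 U2 := by
  constructor <;> decide +kernel

theorem good_U : Good U1 U2 A1 A2 := by
  constructor <;> decide +kernel

theorem zc_not : ¬ InK zc := by decide +kernel

theorem not_rel : ¬ InZ (A1⁻¹ * U1) ∧ ¬ InZ (A1⁻¹ * (U1 * A1)) := by decide +kernel

theorem central_cases : ∀ p : QuaternionGroup 2, (∀ r, p * r = r * p) → p = 1 ∨ p = a 2 := by
  decide +kernel

end CfsgLib.MacWilliams.QuatModel
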